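import Cfsg.Agent.Lib.Forms.Max.OrthOrth.Radical

/-!
# The elements of an overgroup carrying one `U ⊗ f` to itself preserve the decomposition

Such an element permutes the Eichler elements of the radical of `U ⊗ f`, so it maps `U ⊗ z` to
`A'(U) ⊗ z'` modulo `U ⊗ f`, with `A'` a similitude, and differs from an element of the stabiliser by an
element of the radical.
-/

set_option autoImplicit false
set_option linter.unusedSectionVars false

namespace Cfsg.Agent.Forms.Max.OrthOrth

open Matrix Cfsg.Agent.Aschbacher Cfsg.Agent.Forms.QuadStd Cfsg.Agent.Forms.Reflections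
  Cfsg.Agent.Classical.Orth Cfsg.Agent.Forms.Max.TensorMax
open Cfsg.Agent.Forms.Max.TensorRes (kr_mem_kron exists_kr)
open Cfsg.Agent.Forms.Max.TensorRes.Unitary (pure_add_left pure_smul_left pure_add_right pure_smul_right
  pure_zero_left pure_zero_right pure_ne_zero pureR pureR_apply)

variable {F : Type*} [Field F] [Fintype F] {k n : ℕ}
variable {qU : QuadraticForm F (Fin k → F)} {qW : QuadraticForm F (Fin n → F)}
  {Q : QuadraticForm F (Fin k × Fin n → F)} {M : Subgroup (GL (Fin k × Fin n) F)}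

local notation "B" => QuadraticMap.polar Q
local notation "bU" => QuadraticMap.polar qU
local notation "bW" => QuadraticMap.polar qW
local notation "Uv" => (Fin k → F)
local notation "Wv" => (Fin n → F)
local notation "Vv" => (Fin k × Fin n → F)
local notation "GLkn" => GL (Fin k × Fin n) F

/-- an injective linear map as a matrix -/
theorem exists_glmap {d : ℕ} (L : (Fin d → F) →ₗ[F] (Fin d → F)) (hL : Function.Injective L) :
    ∃ g : GL (Fin d) F, ∀ x, (Units.val g) *ᵥ x = L x := by
  let Le := LinearEquiv.ofBijective L ⟨hL, LinearMap.injective_iff_surjective.1 hL⟩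
  let h : GL (Fin d) F := ⟨LinearMap.toMatrix' Le.toLinearMap, LinearMap.toMatrix' Le.symm.toLinearMap,
    by rw [← LinearMap.toMatrix'_comp]; simp, by rw [← LinearMap.toMatrix'_comp]; simp⟩
  refine ⟨h, fun x => ?_⟩
  show LinearMap.toMatrix' Le.toLinearMap *ᵥ x = _
  rw [LinearMap.toMatrix'_mulVec]
  rfl

variable (hO : Over qU qW Q M) {f f' : Fin n → F} (hp : IsPair qW f f')
include hO hp

/-- the action of an Eichler element of the radical -/
theorem eich_act {z : Wv} (hz : bW f z = 0) (r : Vv) :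
    (Units.val (kr (1 : GL (Fin k) F) (eich f z hp.hu hz : GL (Fin n) F))) *ᵥ r =
      r + pure (eta qW f r) z - pure (eta qW z r) f - qW z • pure (eta qW f r) f := by
  conv_lhs => rw [sum_rows r, mulVec_sum]
  conv_rhs => rw [sum_rows r, map_sum, map_sum, ← pureR_apply, ← pureR_apply, ← pureR_apply, map_sum, map_sum,
    map_sum, Finset.smul_sum, ← Finset.sum_add_distrib, ← Finset.sum_sub_distrib, ← Finset.sum_sub_distrib]
  refine Finset.sum_congr rfl fun i _ => ?_
  rw [kr_pure, Units.val_one, one_mulVec, ← act_apply, act_eich]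
  simp only [pureR_apply, eta_pure, pure_smul_left, sub_eq_add_neg, ← neg_smul, pure_add_right, pure_smul_right,
    smul_smul]
  try module

variable (hN : NoCentral qW M) (hf0 : f ≠ 0)
include hN hf0

/-- an element of `M` stabilising `U ⊗ f` preserves the decomposition -/
theorem slot_kron {g : GLkn} (hg : g ∈ M) (hslot : ∀ u, ∃ p, (Units.val g) *ᵥ pure u f = pure p f) :
    g ∈ Cfsg.Geo.kroneckerSubgroup k n F := by
  have S := hO.setup
  set A : Uv →ₗ[F] Uv := (eta qW f').comp ((Matrix.toLin' (Units.val g)).comp (pureR f)) with hA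
  have hgf : ∀ u, (Units.val g) *ᵥ pure u f = pure (A u) f := fun u => by
    obtain ⟨p, hp'⟩ := hslot u
    rw [hA, LinearMap.comp_apply, LinearMap.comp_apply, pureR_apply, Matrix.toLin'_apply, hp', eta_pure, hp.huv,
      one_smul]
  have hAinj : Function.Injective A := fun u u' h => by
    have h1 : (Units.val g) *ᵥ pure u f = (Units.val g) *ᵥ pure u' f := by rw [hgf, hgf, h]
    have h2 := congrArg (eta qW f') (mulVec_inj g h1)
    rwa [eta_pure, eta_pure, hp.huv, one_smul, one_smul] at h2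
  have hAsurj := LinearMap.injective_iff_surjective.1 hAinj
  choose Ai hAi using hAsurj
  have hgif : ∀ u, (Units.val g⁻¹) *ᵥ pure u f = pure (Ai u) f := fun u =>
    mulVec_inj g (by rw [mulVec_inv_cancel, hgf, hAi])
  set A' : Uv →ₗ[F] Uv := (eta qW f).comp ((Matrix.toLin' (Units.val g)).comp (pureR f')) with hA'
  set R : Uv → Vv := fun u => (Units.val g) *ᵥ pure u f' with hR
  have hA'R : ∀ u, eta qW f (R u) = A' u := fun u => by
    rw [hA', LinearMap.comp_apply, LinearMap.comp_apply, pureR_apply, Matrix.toLin'_apply]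
  have hAA : ∀ u u', bU (A' u) (A u') = bU u u' := fun u u' => by
    have h := polar_M hO hg (pure u f') (pure u' f)
    rw [hgf, form_pure S, S.mul, hp.hvu, mul_one] at h
    rw [← hA'R]
    exact h
  have hperp : ∀ u w, bW w f = 0 → eta qW f ((Units.val g) *ᵥ pure u w) = 0 := fun u w hw =>
    eta_eq_zero S fun u' => by
      conv_lhs => arg 3; rw [← hAi u', ← hgf]
      rw [polar_M hO hg, S.mul, hw, mul_zero]
  -- the conjugates of the Eichler elements of the radical
  have hconj : ∀ z ∈ core qW f f', ∃ φ : Wv, bW f φ = 0 ∧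
      (∀ u, ∃ p, (Units.val g) *ᵥ pure u z = pure (A' u) φ + pure p f) ∧
      (∀ u, ∀ w ∈ core qW f f', eta qW φ ((Units.val g) *ᵥ pure u w) = bW w z • A u) := by
    intro z hz
    obtain ⟨hz1, hz2⟩ := mem_core.1 hz
    set t := kr (1 : GL (Fin k) F) (eich f z hp.hu hz1 : GL (Fin n) F) with ht
    have hT : Rad qW M f t := rad_eich hO hp hz1
    have hy : Rad qW M f (g * t * g⁻¹) := by
      refine ⟨mul_mem (mul_mem hg hT.mem) (inv_mem hg), fun u => ?_, fun u w hw => ?_⟩
      · rw [mulVec_mul_GL, mulVec_mul_GL, hgif, hT.fix, hgf, hAi]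
      · have h0 : eta qW f ((Units.val g⁻¹) *ᵥ pure u w) = 0 := eta_eq_zero S fun u' => by
          rw [← polar_M hO hg, mulVec_inv_cancel, hgf, S.mul, hw, mul_zero]
        obtain ⟨p, hp'⟩ := hT.shift_perp hO hp h0
        exact ⟨A p, by rw [mulVec_mul_GL, mulVec_mul_GL, hp', mulVec_add, mulVec_inv_cancel, hgf]⟩
    obtain ⟨φ, hφ, he⟩ := rad_eq hO hp hN hf0 hy
    have hgt : ∀ v, (Units.val g) *ᵥ ((Units.val t) *ᵥ v) =
        (Units.val (kr (1 : GL (Fin k) F) (eich f φ hp.hu hφ : GL (Fin n) F))) *ᵥ ((Units.val g) *ᵥ v) := fun v => by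
      rw [← mulVec_mul_GL, ← mulVec_mul_GL, ← he, inv_mul_cancel_right]
    refine ⟨φ, hφ, fun u => ?_, fun u w hw => ?_⟩
    · have h := hgt (pure u f')
      rw [ht, eich_act hO hp hz1, eich_act hO hp hφ, eta_pure, eta_pure, hp.hvu, hz2, one_smul, zero_smul,
        pure_zero_left, sub_zero, mulVec_sub, mulVec_add, mulVec_smul, hgf, hA'R u] at h
      refine ⟨-eta qW φ (R u) - qW φ • A' u + qW z • A u, ?_⟩
      rw [sub_eq_add_neg (-eta qW φ (R u)), ← neg_smul, ← neg_one_smul F (eta qW φ (R u)), pure_add_left,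
        pure_add_left, pure_smul_left, pure_smul_left, pure_smul_left]
      linear_combination (norm := module) h
    · obtain ⟨hw1, hw2⟩ := mem_core.1 hw
      have hwf : bW w f = 0 := by rw [QuadraticMap.polar_comm]; exact hw1
      have h := hgt (pure u w)
      rw [ht, eich_act hO hp hz1, eich_act hO hp hφ, hperp u w hwf, eta_pure, eta_pure, hwf, zero_smul,
        pure_zero_left, pure_zero_left, pure_zero_left, smul_zero, smul_zero, add_zero, sub_zero, add_zero, sub_zero,
        mulVec_sub, pure_smul_left, mulVec_smul, hgf] at h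
      have h2 := congrArg (eta qW f') h
      simp only [map_sub, map_smul, eta_pure, hp.huv, one_smul] at h2
      linear_combination (norm := module) h2
  choose! φ hφf hφ1 hφ2 using hconj
  have hrel : ∀ u, ∀ w ∈ core qW f f', ∀ z ∈ core qW f f', bW w z • A u = bW (φ w) (φ z) • A' u := by
    intro u w hw z hz
    obtain ⟨p, hp'⟩ := hφ1 w hw u
    rw [← hφ2 z hz u w hw, hp', map_add, eta_pure, eta_pure, hφf z hz, zero_smul, add_zero]
  obtain ⟨z₀, hz₀, hQz₀⟩ := exists_aniso_core S.ndW hp (by have := S.hn; omega)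
  have hZ : bW z₀ z₀ ≠ 0 := by rw [polar_self']; exact mul_ne_zero S.two hQz₀
  set μ := bW (φ z₀) (φ z₀) * (bW z₀ z₀)⁻¹ with hμ
  have hAμ : ∀ u, A u = μ • A' u := fun u => by
    rw [hμ, mul_comm, ← smul_smul, ← hrel u z₀ hz₀ z₀ hz₀, inv_smul_smul₀ hZ]
  obtain ⟨u₀, hu₀, -⟩ := exists_sing_ne S.ndU S.hk
  have hμ0 : μ ≠ 0 := fun h => hu₀ (hAinj (by rw [hAμ, h, zero_smul, map_zero]))
  have hA'0 : A' u₀ ≠ 0 := fun h => hu₀ (hAinj (by rw [hAμ, h, smul_zero, map_zero]))
  have hφform : ∀ w ∈ core qW f f', ∀ z ∈ core qW f f', bW (φ w) (φ z) = μ * bW w z := by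
    intro w hw z hz
    have h := hrel u₀ w hw z hz
    rw [hAμ, smul_smul, mul_comm] at h
    exact (smul_left_injective F hA'0 h).symm
  have hA'form : ∀ u u', bU (A' u) (A' u') = μ⁻¹ * bU u u' := fun u u' => by
    rw [← hAA u u', hAμ, QuadraticMap.polar_smul_right, smul_eq_mul, inv_mul_cancel_left₀ hμ0]
  -- the map of the second factor
  obtain ⟨c, hc⟩ : ∃ c, bU (A' u₀) c = 1 := by
    obtain ⟨y, hy⟩ := Orth.exists_ne S.ndU hA'0
    exact ⟨(bU (A' u₀) y)⁻¹ • y, by rw [QuadraticMap.polar_smul_right, smul_eq_mul, inv_mul_cancel₀ hy]⟩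
  set P : Wv →ₗ[F] Wv := LinearMap.id - (polB qW f').smulRight f - (polB qW f).smulRight f' with hP
  have hPa : ∀ w, P w = proj qW f f' w := fun w => by
    simp only [hP, LinearMap.sub_apply, LinearMap.id_apply, LinearMap.smulRight_apply, polB_apply, proj,
      QuadraticMap.polar_comm _ w f, QuadraticMap.polar_comm _ w f']
  set K : Wv →ₗ[F] Wv := (kap qU c).comp ((Matrix.toLin' (Units.val g)).comp (pureL u₀)) with hK
  have hKφ : ∀ z ∈ core qW f f', proj qW f f' (K z) = proj qW f f' (φ z) := fun z hz => by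
    obtain ⟨p, hp'⟩ := hφ1 z hz u₀
    rw [hK, LinearMap.comp_apply, LinearMap.comp_apply, pureL_apply, Matrix.toLin'_apply, hp', map_add, kap_pure,
      kap_pure, hc, one_smul, ← hPa, ← hPa, map_add, map_smul, hPa f]
    simp [proj, polar_self_zero hp.hu, hp.huv]
  have hgz : ∀ u, ∀ z ∈ core qW f f', ∃ p, (Units.val g) *ᵥ pure u z =
      pure (A' u) (proj qW f f' (K z)) + pure p f := by
    intro u z hz
    obtain ⟨p, hp'⟩ := hφ1 z hz u
    refine ⟨bW (φ z) f' • A' u + p, ?_⟩
    rw [hp', hKφ z hz]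
    conv_lhs => rw [proj_add (Q := qW) f f' (φ z)]
    rw [QuadraticMap.polar_comm _ (φ z) f, hφf z hz, zero_smul, add_zero, pure_add_right, pure_smul_right,
      pure_add_left, pure_smul_left]
    abel
  set bl : Wv →ₗ[F] Wv := μ • (polB qW f').smulRight f + (polB qW f).smulRight f' + P.comp (K.comp P) with hbl
  have hbla : ∀ w, bl w = (μ * bW w f') • f + bW w f • f' + proj qW f f' (K (proj qW f f' w)) := fun w => by
    simp only [hbl, LinearMap.add_apply, LinearMap.smul_apply, LinearMap.smulRight_apply, LinearMap.comp_apply,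
      polB_apply, hPa, smul_smul, QuadraticMap.polar_comm _ w f, QuadraticMap.polar_comm _ w f']
  have hblf : bl f = μ • f := by
    rw [hbla, hp.huv, polar_self_zero hp.hu, show proj qW f f' f = 0 by simp [proj, polar_self_zero hp.hu, hp.huv],
      map_zero, show proj qW f f' 0 = 0 by simp [proj]]
    simp
  have hblform : ∀ w w', bW (bl w) (bl w') = μ * bW w w' := fun w w' => by
    have h1 := proj_core hp w
    have h2 := proj_core hp w'
    obtain ⟨c1, c2⟩ := mem_core.1 (proj_core hp (K (proj qW f f' w)))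
    obtain ⟨d1, d2⟩ := mem_core.1 (proj_core hp (K (proj qW f f' w')))
    obtain ⟨e1, e2⟩ := mem_core.1 h1
    obtain ⟨e3, e4⟩ := mem_core.1 h2
    have h3 : bW (proj qW f f' (K (proj qW f f' w))) (proj qW f f' (K (proj qW f f' w'))) =
        μ * bW (proj qW f f' w) (proj qW f f' w') := by
      have hφc : ∀ z ∈ core qW f f', φ z = bW (φ z) f' • f + proj qW f f' (φ z) := fun z hz => by
        conv_lhs => rw [proj_add (Q := qW) f f' (φ z), QuadraticMap.polar_comm _ (φ z) f, hφf z hz, zero_smul,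
          add_zero]
      rw [← hφform _ h1 _ h2, hφc _ h1, hφc _ h2, hKφ _ h1, hKφ _ h2]
      obtain ⟨a1, -⟩ := mem_core.1 (proj_core hp (φ (proj qW f f' w)))
      obtain ⟨a3, -⟩ := mem_core.1 (proj_core hp (φ (proj qW f f' w')))
      simp only [QuadraticMap.polar_add_left, QuadraticMap.polar_add_right, QuadraticMap.polar_smul_left,
        QuadraticMap.polar_smul_right, polar_self_zero hp.hu, QuadraticMap.polar_comm _ (proj qW f f' _) f, a1, a3,
        smul_eq_mul]
      ring
    conv_rhs => rw [proj_add (Q := qW) f f' w, proj_add (Q := qW) f f' w']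
    rw [hbla, hbla]
    simp only [QuadraticMap.polar_add_left, QuadraticMap.polar_add_right, QuadraticMap.polar_smul_left,
      QuadraticMap.polar_smul_right, polar_self_zero hp.hu, polar_self_zero hp.hv, hp.huv, hp.hvu, c1, c2, d1, d2,
      e1, e2, e3, e4, QuadraticMap.polar_comm _ (proj qW f f' _) f, QuadraticMap.polar_comm _ (proj qW f f' _) f',
      h3, smul_eq_mul]
    ring
  have hblinj : Function.Injective bl := fun w w' h => by
    refine ext_bU S.ndW fun v => mul_left_cancel₀ hμ0 ?_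
    rw [← hblform, ← hblform, h]
  have hA'inj : Function.Injective A' := fun u u' h => hAinj (by rw [hAμ, hAμ, h])
  obtain ⟨a, ha⟩ := exists_glmap A' hA'inj
  obtain ⟨b, hb⟩ := exists_glmap bl hblinj
  set h := kr a b with hh
  have hhp : ∀ u w, (Units.val h) *ᵥ pure u w = pure (A' u) (bl w) := fun u w => by rw [hh, kr_pure, ha, hb]
  have hhf : ∀ u, (Units.val h) *ᵥ pure u f = (Units.val g) *ᵥ pure u f := fun u => by
    rw [hhp, hgf, hblf, hAμ, pure_smul_left, pure_smul_right]
  have hhiso : ∀ v, Q ((Units.val h) *ᵥ v) = Q v := fun v => by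
    rw [hh]
    exact kr_iso S (inv_mul_cancel₀ hμ0) (fun u u' => by rw [ha, ha]; exact hA'form u u')
      (fun w w' => by rw [hb, hb]; exact hblform w w') v
  set x := h⁻¹ * g with hx
  have hxfix : ∀ u, (Units.val x) *ᵥ pure u f = pure u f := fun u => by
    refine mulVec_inj h ?_
    rw [hx, mulVec_mul_GL, mulVec_inv_cancel, hhf]
  have hxshift : ∀ u w, bW w f = 0 → ∃ p, (Units.val x) *ᵥ pure u w = pure u w + pure p f := by
    intro u w hw
    obtain ⟨p, hp'⟩ := hgz u _ (proj_core hp w)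
    obtain ⟨p₀, hp₀⟩ : ∃ p₀, (Units.val h) *ᵥ pure p₀ f = pure p f := ⟨Ai p, by rw [hhf, hgf, hAi]⟩
    refine ⟨p₀, mulVec_inj h ?_⟩
    rw [hx, mulVec_mul_GL, mulVec_inv_cancel, mulVec_add, hp₀]
    have e : w = bW w f' • f + proj qW f f' w := by
      conv_lhs => rw [proj_add (Q := qW) f f' w, hw, zero_smul, add_zero]
    conv_lhs => rw [e, pure_add_right, pure_smul_right, mulVec_add, mulVec_smul, hp', ← hhf]
    rw [hhp u w, hbla, hw, hhp u f, hblf, zero_smul, add_zero, pure_add_right, pure_smul_right, pure_smul_right,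
      smul_smul, mul_comm μ]
    abel
  have hxΩ : x ∈ Cfsg.Geo.omegaGL ⇑Q := by
    refine Orth.omega_of_radical S.nd (card_large S) (X := LinearMap.range (pureR (k := k) f)) ?_ ?_ ?_ ?_
    · rintro _ ⟨u, rfl⟩; exact Q_of_sing_right S u hp.hu
    · intro v
      rw [hx, mulVec_mul_GL, ← hhiso, mulVec_inv_cancel, map_M hO hg]
    · rintro _ ⟨u, rfl⟩; exact hxfix u
    · intro v hv
      have h0 : eta qW f v = 0 := eta_eq_zero S fun u => hv _ ⟨u, rfl⟩
      obtain ⟨hs, hrow⟩ := eq_sum_perp hO hp h0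
      rw [hs, mulVec_sum, ← Finset.sum_sub_distrib]
      refine Submodule.sum_mem _ fun i _ => ?_
      obtain ⟨p, hp'⟩ := hxshift (Pi.single i 1) (TensorMax.row v i) (hrow i)
      exact ⟨p, by rw [hp', pureR_apply, add_sub_cancel_left]⟩
  have hhM : h ∈ M := hO.ge ⟨kr_mem_kron _ _, by
    have h1 : h = g * x⁻¹ := by rw [hx, _root_.mul_inv_rev, inv_inv, mul_inv_cancel_left]
    show h ∈ Cfsg.Geo.omegaGL ⇑Q
    rw [h1]
    exact mul_mem (hO.le hg) (inv_mem hxΩ)⟩
  obtain ⟨z, hz, hxe⟩ := rad_eq hO hp hN hf0 ⟨mul_mem (inv_mem hhM) hg, hxfix, hxshift⟩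
  have hge : g = h * kr 1 (eich f z hp.hu hz : GL (Fin n) F) := by rw [← hxe, mul_inv_cancel_left]
  rw [hge, hh, kr_mul]
  exact kr_mem_kron _ _

omit hp hf0 in
/-- an element of `M` mapping some `U ⊗ f` to some `U ⊗ f''` preserves the decomposition -/
theorem slot_kron_of {g : GLkn} (hg : g ∈ M) {f₁ f₂ : Wv} (h1 : f₁ ≠ 0) (hQ1 : qW f₁ = 0) (h2 : f₂ ≠ 0)
    (hQ2 : qW f₂ = 0) (hslot : ∀ u, ∃ p, (Units.val g) *ᵥ pure u f₁ = pure p f₂) :
    g ∈ Cfsg.Geo.kroneckerSubgroup k n F := by
  have S := hO.setup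
  obtain ⟨f₁', hp1⟩ := exists_pair_of S.ndW h1 hQ1
  obtain ⟨b, hb, a, ha, hba⟩ := exists_move S.ndW (by have := S.hn; omega) h2 hQ2 h1 hQ1
  have hm := right_mem hO hb
  have h3 := slot_kron hO hp1 hN h1 (mul_mem hm hg) fun u => by
    obtain ⟨p, hp'⟩ := hslot u
    exact ⟨a • p, by rw [mulVec_mul_GL, hp', kr_pure, Units.val_one, one_mulVec, ← act_apply, hba, pure_smul_right,
      pure_smul_left]⟩
  have h4 := (Cfsg.Geo.kroneckerSubgroup k n F).mul_mem
    ((Cfsg.Geo.kroneckerSubgroup k n F).inv_mem (kr_mem_kron (1 : GL (Fin k) F) (b : GL (Fin n) F))) h3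
  rwa [inv_mul_cancel_left] at h4

end Cfsg.Agent.Forms.Max.OrthOrth
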