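import Cfsg.Agent.Lib.Forms.Max.OrthOrth.Central

/-!
# A central element in the radical of `U ⊗ f` generates with the tensor stabiliser all of `Ω`
-/

set_option autoImplicit false
set_option linter.unusedSectionVars false

namespace Cfsg.Agent.Forms.Max.OrthOrth

open Matrix Cfsg.Agent.Aschbacher Cfsg.Agent.Forms.QuadStd Cfsg.Agent.Forms.Reflections
  Cfsg.Agent.Classical.Orth Cfsg.Agent.Forms.Max.TensorMax
open Cfsg.Agent.Forms.Max.TensorRes.Unitary (pure_add_left pure_smul_left pure_add_right pure_smul_right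
  pure_zero_left pure_zero_right pure_ne_zero pureR pureR_apply)

variable {F : Type*} [Field F] [Fintype F] {k n : ℕ}
variable {qU : QuadraticForm F (Fin k → F)} {qW : QuadraticForm F (Fin n → F)}
  {Q : QuadraticForm F (Fin k × Fin n → F)} {M : Subgroup (GL (Fin k × Fin n) F)}

local notation "B" => QuadraticMap.polar Q
local notation "bU" => QuadraticMap.polar qU
local notation "bW" => QuadraticMap.polar qW
local notation "Uv" => (Fin k → F)
local notation "Wv" => (Fin n → F)
local notation "Vv" => (Fin k × Fin n → F)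

/-- an overgroup without central elements in the radicals of the `U ⊗ f` -/
def NoCentral (qW : QuadraticForm F (Fin n → F)) (M : Subgroup (GL (Fin k × Fin n) F)) : Prop :=
  ∀ (f : Fin n → F) (K : (Fin k → F) →ₗ[F] (Fin k → F)), f ≠ 0 → qW f = 0 → InK qW M f K → K = 0

/-- the second entries of the Eichler elements in `M` with first entry `a` -/
def DS (Q : QuadraticForm F (Fin k × Fin n → F)) (M : Subgroup (GL (Fin k × Fin n) F))
    (a : Fin k × Fin n → F) : Set (Fin k × Fin n → F) :=
  {b | ∃ g ∈ M, ∀ x, (Units.val g) *ᵥ x = eichLin Q a b x}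

variable (hO : Over qU qW Q M)
include hO

theorem DS_map {a b : Vv} {g : GL (Fin k × Fin n) F} (hg : g ∈ M) (hb : b ∈ DS Q M a) :
    (Units.val g) *ᵥ b ∈ DS Q M ((Units.val g) *ᵥ a) := by
  obtain ⟨s, hs, hsx⟩ := hb
  refine ⟨g * s * g⁻¹, mul_mem (mul_mem hg hs) (inv_mem hg), fun x => ?_⟩
  rw [mulVec_mul_GL, mulVec_mul_GL, hsx, eichLin_apply, eichLin_apply]
  have e : ∀ v, B ((Units.val g⁻¹) *ᵥ x) v = B x ((Units.val g) *ᵥ v) := fun v => by
    rw [← polar_M hO hg ((Units.val g⁻¹) *ᵥ x), mulVec_inv_cancel]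
  simp only [mulVec_add, mulVec_sub, mulVec_smul, mulVec_inv_cancel, e, map_M hO hg]

/-- the submodule of second entries -/
def DSub {a : Fin k × Fin n → F} (ha : Q a = 0) : Submodule F (Fin k × Fin n → F) where
  carrier := {b | QuadraticMap.polar Q a b = 0 ∧ ∀ t : F, t • b ∈ DS Q M a}
  zero_mem' := ⟨by simp, fun t => by
    rw [smul_zero]; exact ⟨1, one_mem M, fun x => by rw [Units.val_one, one_mulVec, eichLin_zero]⟩⟩
  add_mem' {b b'} hb hb' := ⟨by rw [QuadraticMap.polar_add_right, hb.1, hb'.1, add_zero], fun t => by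
    obtain ⟨g, hg, hgx⟩ := hb.2 t
    obtain ⟨g', hg', hgx'⟩ := hb'.2 t
    exact ⟨g * g', mul_mem hg hg', fun x => by
      rw [mulVec_mul_GL, hgx', hgx, eichLin_add ha (by rw [QuadraticMap.polar_smul_right, hb.1, smul_zero])
        (by rw [QuadraticMap.polar_smul_right, hb'.1, smul_zero]), smul_add]⟩⟩
  smul_mem' c b hb := ⟨by rw [QuadraticMap.polar_smul_right, hb.1, smul_zero], fun t => by
    rw [smul_smul]; exact hb.2 _⟩

theorem DSub_map {a b : Vv} {g : GL (Fin k × Fin n) F} (hg : g ∈ M)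
    (hga : (Units.val g) *ᵥ a = a) {ha : Q a = 0} (hb : b ∈ DSub (M := M) ha) :
    (Units.val g) *ᵥ b ∈ DSub (M := M) ha := by
  refine ⟨?_, fun t => ?_⟩
  · rw [← hb.1, ← polar_M hO hg a b, hga]
  · have h1 := DS_map hO hg (hb.2 t)
    rwa [mulVec_smul, hga] at h1

variable (hc : ¬ NoCentral qW M)
include hc

/-- the slice of a singular vector of the second factor -/
theorem slot_mem {e : Uv} {f : Wv} (he : e ≠ 0) (hQe : qU e = 0) (hf0 : f ≠ 0) (hf : qW f = 0) (y : Uv) :
    pure y f ∈ DSub (M := M) (Q_of_sing_left hO.setup hQe f) := by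
  have S := hO.setup
  obtain ⟨f₀, K, hf₀, hQ₀, hK, hK0⟩ : ∃ f₀ K, f₀ ≠ 0 ∧ qW f₀ = 0 ∧ InK qW M f₀ K ∧ K ≠ 0 := by
    by_contra h
    exact hc fun f K h1 h2 h3 => by_contra fun h4 => h ⟨f, K, h1, h2, h3, h4⟩
  obtain ⟨b, hb, a, ha, hba⟩ := exists_move S.ndW (by have := S.hn; omega) hf₀ hQ₀ hf0 hf
  have h1 := hK.map_right hO hb
  rw [hba] at h1
  have h2 := wedge_all hO hf h1.of_smul hf0
    (smul_ne_zero (mul_ne_zero ha ha) hK0) he hQe y
  refine ⟨by rw [S.mul, polar_self_zero hf, mul_zero], fun t => ?_⟩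
  obtain ⟨c, hcM, hcx⟩ := h2 (-t)
  refine ⟨c, hcM, fun x => ?_⟩
  have e1 : (Matrix.toLin' (Units.val c)) = eichLin Q (pure e f) (t • pure y f) := ext_pure fun u w => by
    rw [Matrix.toLin'_apply, hcx, eichLin_apply, QuadraticMap.polar_smul_right, S.mul, S.mul,
      Classical.Orth.map_smul', Q_of_sing_right S y hf, LinearMap.smul_apply, wedge_apply, smul_eq_mul,
      smul_sub, sub_eq_add_neg (-t • _), ← neg_smul, pure_add_left, pure_smul_left, pure_smul_left]
    simp only [smul_smul, pure_smul_left]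
    match_scalars <;> ring
  rw [← Matrix.toLin'_apply, e1]

theorem eich_elem {e : Uv} {f : Wv} (he : e ≠ 0) (hQe : qU e = 0) (hf0 : f ≠ 0) (hf : qW f = 0) (y : Uv) :
    ∃ g ∈ M, ∀ x, (Units.val g) *ᵥ x = eichLin Q (pure e f) (pure y f) x := by
  have := (slot_mem hO hc he hQe hf0 hf y).2 1
  rwa [one_smul] at this

/-- the slice of a singular vector of the first factor -/
theorem row_mem {e : Uv} {f : Wv} (he : e ≠ 0) (hQe : qU e = 0) (hf0 : f ≠ 0) (hf : qW f = 0) (w : Wv) :
    pure e w ∈ DSub (M := M) (Q_of_sing_left hO.setup hQe f) := by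
  have S := hO.setup
  set D := DSub (M := M) (Q_of_sing_left S hQe f)
  suffices h : ∀ v, qW v = 0 → bW f v ≠ 0 → v ∈ D.comap (pureL e) from
    sing_span_off S.ndW (by have := S.hn; omega) hf0 hf S.two h w
  intro v hv hfv
  have hv0 : v ≠ 0 := fun h => hfv (by rw [h, QuadraticMap.polar_zero_right])
  obtain ⟨y, hey, hQy⟩ := exists_nonsing_perp S.ndU S.hk he hQe
  obtain ⟨g, hg, hgx⟩ := eich_elem hO hc he hQe hv0 hv y
  have hga : (Units.val g) *ᵥ pure e f = pure e f := by
    rw [hgx, eichLin_apply, S.mul, S.mul, polar_self_zero hQe, hey]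
    simp
  have hb := slot_mem hO hc he hQe hf0 hf y
  have h1 := D.sub_mem (DSub_map hO hg hga hb) hb
  have e1 : (Units.val g) *ᵥ pure y f - pure y f = (-(bU y y * bW f v)) • pure e v := by
    rw [hgx, eichLin_apply, S.mul, S.mul, QuadraticMap.polar_comm _ y e, hey, Q_of_sing_right S y hv]
    module
  rw [e1] at h1
  have hyy : bU y y ≠ 0 := by
    rw [polar_self']; exact mul_ne_zero S.two hQy
  show pure e v ∈ D
  exact (Submodule.smul_mem_iff _ (neg_ne_zero.2 (mul_ne_zero hyy hfv))).1 h1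

/-- the orthogonal of a pure singular vector -/
theorem perp_le {e : Uv} {f : Wv} (he : e ≠ 0) (hQe : qU e = 0) (hf0 : f ≠ 0) (hf : qW f = 0)
    {x : Vv} (hx : B (pure e f) x = 0) : x ∈ DSub (M := M) (Q_of_sing_left hO.setup hQe f) := by
  have S := hO.setup
  set D := DSub (M := M) (Q_of_sing_left S hQe f)
  obtain ⟨e', hp⟩ := exists_pair_of S.ndU he hQe
  obtain ⟨f', hp'⟩ := exists_pair_of S.ndW hf0 hf
  have he'0 : e' ≠ 0 := fun h => by
    have h1 := hp.huv
    rw [h, QuadraticMap.polar_zero_right] at h1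
    exact zero_ne_one h1
  have hf'0 : f' ≠ 0 := fun h => by
    have h1 := hp'.huv
    rw [h, QuadraticMap.polar_zero_right] at h1
    exact zero_ne_one h1
  have hUf : ∀ u, pure u f ∈ D := slot_mem hO hc he hQe hf0 hf
  have heW : ∀ w, pure e w ∈ D := row_mem hO hc he hQe hf0 hf
  have hUf' : ∀ u ∈ core qU e e', pure u f' ∈ D := by
    intro u hu
    obtain ⟨h1, h2⟩ := mem_core.1 hu
    obtain ⟨g, hg, hgx⟩ := eich_elem hO hc he hQe hf'0 hp'.hv u
    have hga : (Units.val g) *ᵥ pure e f = pure e f := by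
      rw [hgx, eichLin_apply, S.mul, S.mul, polar_self_zero hQe, h1]
      simp
    have h3 := D.sub_mem (DSub_map hO hg hga (hUf e')) (hUf e')
    have e1 : (Units.val g) *ᵥ pure e' f - pure e' f = pure u f' := by
      rw [hgx, eichLin_apply, S.mul, S.mul, hp.hvu, h2, hp'.huv, Q_of_sing_right S u hp'.hv]
      module
    rwa [e1] at h3
  have he'W : ∀ w ∈ core qW f f', pure e' w ∈ D := by
    intro w hw
    obtain ⟨h1, h2⟩ := mem_core.1 hw
    obtain ⟨g, hg, hgx⟩ := (row_mem hO hc he'0 hp.hv hf0 hf w).2 1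
    rw [one_smul] at hgx
    have hga : (Units.val g) *ᵥ pure e f = pure e f := by
      rw [hgx, eichLin_apply, S.mul, S.mul, polar_self_zero hf, h1]
      simp
    have h3 := D.sub_mem (DSub_map hO hg hga (heW f')) (heW f')
    have e1 : (Units.val g) *ᵥ pure e f' - pure e f' = pure e' w := by
      rw [hgx, eichLin_apply, S.mul, S.mul, hp.huv, hp'.hvu, QuadraticMap.polar_comm _ f' w,
        QuadraticMap.polar_comm _ w f', h2, Q_of_sing_left S hp.hv w]
      module
    rwa [e1] at h3
  have hUW : ∀ u ∈ core qU e e', ∀ w ∈ core qW f f', pure u w ∈ D := by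
    intro u hu w hw
    obtain ⟨h1, h2⟩ := mem_core.1 hw
    have hfw : bW f w = 0 := h1
    have hm := right_mem hO (eich_mem hf hfw Submodule.mem_top Submodule.mem_top)
    have hga : (Units.val (kr (1 : GL (Fin k) F) (eich f w hf hfw : GL (Fin n) F))) *ᵥ pure e f = pure e f := by
      rw [kr_pure, Units.val_one, one_mulVec, ← act_apply, act_eich_self]
    have h3 := D.sub_mem (DSub_map hO hm hga (hUf' u hu)) (hUf' u hu)
    rw [kr_pure, Units.val_one, one_mulVec, ← act_apply, act_eich, hp'.hvu, h2,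
      show f' + (1 : F) • w - (0 : F) • f - (qW w * 1) • f = f' + w + (-qW w) • f by module, pure_add_right,
      pure_add_right, pure_smul_right] at h3
    have h4 := D.add_mem h3 (D.smul_mem (qW w) (hUf u))
    convert h4 using 1
    module
  have hperp : ∀ u w, bU e u = 0 ∨ bW f w = 0 → pure u w ∈ D := by
    intro u w h
    have ew : ∀ v, v ∈ core qW f f' ∨ v = f' → ∀ u', bU e u' = 0 → pure u' v ∈ D := by
      intro v hv u' hu'
      rw [proj_add (Q := qU) e e' u', QuadraticMap.polar_comm _ u' e, hu', zero_smul, add_zero, pure_add_left,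
        pure_smul_left]
      refine D.add_mem (D.smul_mem _ (heW v)) ?_
      rcases hv with hv | rfl
      · exact hUW _ (proj_core hp u') v hv
      · exact hUf' _ (proj_core hp u')
    rw [proj_add (Q := qW) f f' w, pure_add_right, pure_add_right, pure_smul_right, pure_smul_right]
    rcases h with h | h
    · exact D.add_mem (D.add_mem (D.smul_mem _ (hUf u)) (D.smul_mem _ (ew f' (Or.inr rfl) u h)))
        (ew _ (Or.inl (proj_core hp' w)) u h)
    · rw [QuadraticMap.polar_comm _ w f, h, zero_smul, add_zero]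
      refine D.add_mem (D.smul_mem _ (hUf u)) ?_
      rw [proj_add (Q := qU) e e' u, pure_add_left, pure_add_left, pure_smul_left, pure_smul_left]
      exact D.add_mem (D.add_mem (D.smul_mem _ (heW _)) (D.smul_mem _ (he'W _ (proj_core hp' w))))
        (hUW _ (proj_core hp u) _ (proj_core hp' w))
  set ε : Fin k → Uv := fun i => Pi.single i 1
  have hsplit : ∀ i, pure (ε i) (TensorMax.row x i) -
      (bU e (ε i) * bW f (TensorMax.row x i)) • pure e' f' ∈ D := fun i => by
    have h1 := hperp (ε i - bU e (ε i) • e') (TensorMax.row x i) (Or.inl (by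
      rw [QuadraticMap.polar_sub_right, QuadraticMap.polar_smul_right, hp.huv, smul_eq_mul, mul_one, sub_self]))
    have h2 := hperp e' (TensorMax.row x i - bW f (TensorMax.row x i) • f') (Or.inr (by
      rw [QuadraticMap.polar_sub_right, QuadraticMap.polar_smul_right, hp'.huv, smul_eq_mul, mul_one, sub_self]))
    have h3 := D.add_mem h1 (D.smul_mem (bU e (ε i)) h2)
    rw [sub_eq_add_neg (ε i), ← neg_smul, pure_add_left, pure_smul_left, sub_eq_add_neg (TensorMax.row x i),
      ← neg_smul, pure_add_right, pure_smul_right] at h3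
    convert h3 using 1
    module
  have h4 := D.sum_mem (t := Finset.univ) fun i _ => hsplit i
  rw [Finset.sum_sub_distrib, ← Finset.sum_smul, ← sum_rows x] at h4
  have h5 : (∑ i, bU e (ε i) * bW f (TensorMax.row x i)) = B (pure e f) x := by
    conv_rhs => rw [sum_rows x, QuadraticMap.polar_comm, ← polB_apply, map_sum, LinearMap.sum_apply]
    exact Finset.sum_congr rfl fun i _ => by
      rw [polB_apply, S.mul, QuadraticMap.polar_comm _ e, QuadraticMap.polar_comm _ f]
  rwa [h5, hx, zero_smul, sub_zero] at h4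

/-- all Eichler elements lie in `M` -/
theorem eich_all {v w : Vv} (hv : Q v = 0) (hvw : B v w = 0) : w ∈ DS Q M v := by
  have S := hO.setup
  rcases eq_or_ne v 0 with rfl | hv0
  · refine ⟨1, one_mem M, fun x => ?_⟩
    rw [Units.val_one, one_mulVec, eichLin_apply]
    simp
  obtain ⟨e, f, hQe, hQf, hne⟩ : ∃ e f, qU e = 0 ∧ qW f = 0 ∧ B v (pure e f) ≠ 0 := by
    by_contra h
    push Not at h
    refine hv0 (eq_zero_of_pure S fun u w => ?_)
    have h1 : ∀ e, qU e = 0 → w ∈ LinearMap.ker ((polB Q v).comp (pureL e)) := fun e he =>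
      eq_top_of_sing S.ndW (by have := S.hn; omega) (fun f hf => h e f he hf) w
    have h2 : u ∈ LinearMap.ker ((polB Q v).comp (pureR w)) :=
      eq_top_of_sing S.ndU S.hk (fun e he => h1 e he) u
    exact h2
  set e₁ := (B v (pure e f))⁻¹ • e with he₁
  have hva : B v (pure e₁ f) = 1 := by
    rw [he₁, pure_smul_left, QuadraticMap.polar_smul_right, smul_eq_mul, inv_mul_cancel₀ hne]
  have he0 : e₁ ≠ 0 := fun h => by rw [h, pure_zero_left, QuadraticMap.polar_zero_right] at hva; exact zero_ne_one hva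
  have hf0 : f ≠ 0 := fun h => by rw [h, pure_zero_right, QuadraticMap.polar_zero_right] at hva; exact zero_ne_one hva
  have hQe₁ : qU e₁ = 0 := by rw [he₁, Classical.Orth.map_smul', hQe, mul_zero]
  obtain ⟨e', hp⟩ := exists_pair_of S.ndU he0 hQe₁
  obtain ⟨f', hp'⟩ := exists_pair_of S.ndW hf0 hQf
  set a := pure e₁ f
  set v₀ := pure e' f' with hv₀
  have hv₀a : B v₀ a = 1 := by rw [hv₀, S.mul, hp.hvu, hp'.hvu, mul_one]
  have hb := perp_le hO hc he0 hQe₁ hf0 hQf (x := v - v₀) (by
    rw [QuadraticMap.polar_comm, QuadraticMap.polar_sub_left, hva, hv₀a, sub_self])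
  obtain ⟨g, hg, hgx⟩ := hb.2 1
  rw [one_smul] at hgx
  have hgv : (Units.val g) *ᵥ v₀ = v := by
    rw [hgx, eichLin_apply, hv₀a, one_smul, mul_one, add_sub_cancel, sub_sub, ← add_smul]
    have h1 : Q v₀ + Q (v - v₀) + B v₀ (v - v₀) = Q v := by rw [← Classical.Orth.map_add', add_sub_cancel]
    rw [hv, Q_of_sing_left S hp.hv, zero_add, add_comm] at h1
    rw [h1, zero_smul, sub_zero]
  set w₀ := (Units.val g⁻¹) *ᵥ w with hw₀
  have he'0 : e' ≠ 0 := fun h => by
    have h1 := hp.huv
    rw [h, QuadraticMap.polar_zero_right] at h1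
    exact zero_ne_one h1
  have hf'0 : f' ≠ 0 := fun h => by
    have h1 := hp'.huv
    rw [h, QuadraticMap.polar_zero_right] at h1
    exact zero_ne_one h1
  have hperp : B v₀ w₀ = 0 := by
    rw [← polar_M hO hg, hw₀, mulVec_inv_cancel, hgv, hvw]
  have h2 := (perp_le hO hc he'0 hp.hv hf'0 hp'.hv (x := w₀) hperp).2 1
  rw [one_smul] at h2
  have h3 := DS_map hO hg h2
  rwa [← hv₀, hgv, hw₀, mulVec_inv_cancel] at h3

/-- a central element in some radical gives `Ω` -/
theorem omega_le : Cfsg.Geo.omegaGL ⇑Q ≤ M := by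
  have hle := Orth.omega_le_of_centres (Q := Q) hO.setup.nd (by have := card_large hO.setup; omega)
    (M := M.comap (Cfsg.isometryGroup F ⇑Q).subtype)
    fun u _ hu => ⟨hu, fun w hu' huw => by
      obtain ⟨g', hg', hgx⟩ := eich_all hO hc hu' huw
      have e1 : ((eich u w hu' huw : Cfsg.isometryGroup F ⇑Q) : GL (Fin k × Fin n) F) = g' := gl_ext fun x => by
        rw [hgx, eichLin_apply, ← act_apply, act_eich]
      show ((eich u w hu' huw : Cfsg.isometryGroup F ⇑Q) : GL (Fin k × Fin n) F) ∈ M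
      exact e1 ▸ hg'⟩
  exact Subgroup.map_le_iff_le_comap.2 hle

end Cfsg.Agent.Forms.Max.OrthOrth
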