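import Cfsg.Agent.Lib.Forms.Max.OrthOrth.Slots
import Cfsg.Agent.Lib.Forms.Spinor
import Cfsg.Agent.Lib.Coprime.Generation
import Cfsg.Agent.Lib.Cores.Nilpotent

/-!
# An orthogonal space `O₃ ⊗ O₄⁻`

The involutions `-reflect u ⊗ 1` lie in the stabiliser.  Their centralisers in an overgroup without central
elements in the radicals preserve the decomposition, by coprime action of the radical of a singular point
of the second factor.  Two classes of these involutions are not fused, and any two involutions of an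
overgroup are conjugate or centralised by a third one, so the overgroup preserves the decomposition.
-/

set_option autoImplicit false
set_option linter.unusedSectionVars false

namespace Cfsg.Agent.Forms.Max.OrthOrth

open Matrix Cfsg.Agent.Aschbacher Cfsg.Agent.Forms.QuadStd Cfsg.Agent.Forms.Reflections
  Cfsg.Agent.Classical.Orth Cfsg.Agent.Forms.Max.TensorMax
open Cfsg.Agent.Forms.Max.TensorRes (kr_mem_kron exists_kr)
open Cfsg.Agent.Forms.Max.TensorRes.Unitary (pure_add_left pure_smul_left pure_add_right pure_smul_right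
  pure_zero_left pure_zero_right pure_ne_zero pureR pureR_apply)

variable {F : Type*} [Field F] [Fintype F] {k n : ℕ}
variable {qU : QuadraticForm F (Fin k → F)} {qW : QuadraticForm F (Fin n → F)}
  {Q : QuadraticForm F (Fin k × Fin n → F)} {M : Subgroup (GL (Fin k × Fin n) F)}

local notation "B" => QuadraticMap.polar Q
local notation "bU" => QuadraticMap.polar qU
local notation "bW" => QuadraticMap.polar qW
local notation "Uv" => (Fin k → F)
local notation "Wv" => (Fin n → F)
local notation "Vv" => (Fin k × Fin n → F)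
local notation "GLkn" => GL (Fin k × Fin n) F

theorem pure_cancel_left {v v' : Uv} {w : Wv} (hw : w ≠ 0) (h : pure v w = pure v' w) : v = v' := by
  obtain ⟨j, hj⟩ := Function.ne_iff.1 hw
  exact funext fun i => mul_right_cancel₀ hj (congrFun h (i, j))

theorem pure_cancel_right {v : Uv} {w w' : Wv} (hv : v ≠ 0) (h : pure v w = pure v w') : w = w' := by
  obtain ⟨i, hi⟩ := Function.ne_iff.1 hv
  exact funext fun j => mul_left_cancel₀ hi (congrFun h (i, j))

theorem exists_aniso_vec {d : ℕ} {q : QuadraticForm F (Fin d → F)}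
    (hq : (QuadraticMap.polarBilin q).Nondegenerate) (h3 : 3 ≤ d) : ∃ v, q v ≠ 0 := by
  obtain ⟨e, he, hQe⟩ := exists_sing_ne hq h3
  obtain ⟨v, -, hv⟩ := exists_nonsing_perp hq h3 he hQe
  exact ⟨v, hv⟩

/-! ### The involutions of non-singular vectors of the first factor -/

/-- the involution of a non-singular vector of the first factor -/
structure IsT (qU : QuadraticForm F (Fin k → F)) (u : Fin k → F) (t : GL (Fin k × Fin n) F) : Prop where
  ne : qU u ≠ 0
  act : ∀ v w, (Units.val t) *ᵥ pure v w = pure (((qU u)⁻¹ * QuadraticMap.polar qU v u) • u - v) w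

theorem IsT.ne_zero {u : Uv} {t : GLkn} (hT : IsT qU u t) : u ≠ 0 := fun h =>
  hT.ne (by rw [h, QuadraticMap.map_zero])

theorem IsT.eq {u : Uv} {t t' : GLkn} (hT : IsT qU u t) (hT' : IsT qU u t') : t = t' :=
  gl_ext_pure fun v w => by rw [hT.act, hT'.act]

theorem IsT.smul {u : Uv} {t : GLkn} (hT : IsT qU u t) {r : F} (hr : r ≠ 0) : IsT qU (r • u) t := by
  have hQ : qU (r • u) = r * r * qU u := Classical.Orth.map_smul' r u
  refine ⟨?_, fun v w => ?_⟩
  · rw [hQ]; exact mul_ne_zero (mul_ne_zero hr hr) hT.ne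
  · rw [hT.act, hQ, QuadraticMap.polar_smul_right, smul_eq_mul, smul_smul]
    congr 3
    have := hT.ne
    field_simp

theorem IsT.sq {u : Uv} {t : GLkn} (hT : IsT qU u t) : t * t = 1 := gl_ext_pure fun v w => by
  rw [mulVec_mul_GL, hT.act, hT.act, Units.val_one, one_mulVec]
  congr 1
  rw [QuadraticMap.polar_sub_left, QuadraticMap.polar_smul_left, polar_self', smul_eq_mul]
  have := hT.ne
  match_scalars <;> field_simp
  ring

theorem IsT.inv {u : Uv} {t : GLkn} (hT : IsT qU u t) : t⁻¹ = t := inv_eq_of_mul_eq_one_right hT.sq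

theorem IsT.fix_pure {u : Uv} {t : GLkn} (hT : IsT qU u t) (w : Wv) :
    (Units.val t) *ᵥ pure u w = pure u w := by
  rw [hT.act, polar_self']
  congr 1
  rw [mul_comm 2, ← mul_assoc, inv_mul_cancel₀ hT.ne, one_mul, two_smul, add_sub_cancel_right]

theorem IsT.act_all {u : Uv} {t : GLkn} (hT : IsT qU u t) (x : Vv) :
    (Units.val t) *ᵥ x = (qU u)⁻¹ • pure u (kap qU u x) - x := by
  have h := LinearMap.congr_fun (ext_pure (L := Matrix.toLin' (Units.val t))
    (N := (qU u)⁻¹ • (pureL u).comp (kap qU u) - LinearMap.id) fun v w => by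
      rw [Matrix.toLin'_apply, hT.act, LinearMap.sub_apply, LinearMap.smul_apply, LinearMap.comp_apply,
        kap_pure, pureL_apply, LinearMap.id_apply, pure_smul_right, smul_smul, sub_eq_add_neg _ v,
        pure_add_left, pure_smul_left, ← neg_one_smul F v, pure_smul_left, neg_one_smul, sub_eq_add_neg]) x
  simpa [Matrix.toLin'_apply, pureL_apply] using h

theorem IsT.fixed {u : Uv} {t : GLkn} (hT : IsT qU u t) (h2 : (2 : F) ≠ 0) {x : Vv}
    (h : (Units.val t) *ᵥ x = x) : x = pure u ((2 * qU u)⁻¹ • kap qU u x) := by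
  rw [hT.act_all, sub_eq_iff_eq_add] at h
  rw [pure_smul_right, mul_inv, mul_smul, h]
  match_scalars
  field_simp
  ring

theorem IsT.fixed_left {u : Uv} {t : GLkn} (hT : IsT qU u t) (h2 : (2 : F) ≠ 0) {v : Uv} {w : Wv} (hw : w ≠ 0)
    (h : (Units.val t) *ᵥ pure v w = pure v w) : v = ((2 * qU u)⁻¹ * bU v u) • u := by
  refine pure_cancel_left hw ?_
  rw [pure_smul_left, ← pure_smul_right]
  have := hT.fixed h2 h
  rwa [kap_pure, smul_smul] at this

theorem IsT.comm_right {u : Uv} {t : GLkn} (hT : IsT qU u t) (b : GL (Fin n) F) :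
    Commute t (kr (1 : GL (Fin k) F) b) := gl_ext_pure fun v w => by
  rw [mulVec_mul_GL, mulVec_mul_GL, kr_pure, hT.act, hT.act, kr_pure, Units.val_one, one_mulVec, one_mulVec]

/-- the embedding of the isometries of the first factor -/
noncomputable def liftU (S : Setup qU qW Q) :
    Cfsg.isometryGroup F ⇑qU →* Cfsg.isometryGroup F ⇑Q :=
  MonoidHom.mk' (fun a => ⟨kr (a : GL (Fin k) F) (1 : GL (Fin n) F), fun x _ =>
    kr_iso S (one_mul 1) (fun v v' => by rw [one_mul]; exact iso_polar qU a v v')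
      (fun w w' => by rw [Units.val_one, one_mulVec, one_mulVec, one_mul]) x⟩)
    fun a b => Subtype.ext (by
      show kr ((a * b : Cfsg.isometryGroup F ⇑qU) : GL (Fin k) F) (1 : GL (Fin n) F) = _
      rw [Subgroup.coe_mul, Subgroup.coe_mul, kr_mul, one_mul])

theorem liftU_act (S : Setup qU qW Q) (a : Cfsg.isometryGroup F ⇑qU) (v : Uv) (w : Wv) :
    act (liftU S a) (pure v w) = pure (act a v) w := by
  rw [act_apply, act_apply]
  show (Units.val (kr (a : GL (Fin k) F) (1 : GL (Fin n) F))) *ᵥ pure v w = _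
  rw [kr_pure, Units.val_one, one_mulVec]

/-- the image of the embedding of a rotation has trivial spinor norm -/
theorem liftU_pairHom (S : Setup qU qW Q) (hn4 : k = 3 ∧ n = 4) {g : Cfsg.isometryGroup F ⇑qU} (hg : par g = 1) :
    Spinor.pairHom S.nd S.two (liftU S g) = 1 := by
  classical
  haveI : Invertible (2 : F) := invertibleOfNonzero S.two
  have hsymm : LinearMap.IsSymm (polB qW) :=
    LinearMap.isSymm_def.2 fun x y => QuadraticMap.polar_comm _ x y
  obtain ⟨e', he'⟩ := LinearMap.BilinForm.exists_orthogonal_basis hsymm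
  let e := e'.reindex (finCongr (by rw [Module.finrank_fintype_fun_eq_card, Fintype.card_fin] :
    Module.finrank F (Fin n → F) = n))
  have heo : ∀ i j, i ≠ j → bW (e i) (e j) = 0 := fun i j hij => by
    simp only [e, Module.Basis.reindex_apply]
    exact LinearMap.isOrthoᵢ_def.1 he' _ _ (fun h => hij (finCongr _ |>.symm.injective h))
  have he0 : ∀ i, qW (e i) ≠ 0 := fun i h => e.ne_zero i (S.ndW.1 _ fun y => by
    have hk : (⊤ : Submodule F Wv) ≤ LinearMap.ker (polB qW (e i)) := by
      rw [← e.span_eq, Submodule.span_le]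
      rintro _ ⟨j, rfl⟩
      show bW (e i) (e j) = 0
      rcases eq_or_ne i j with rfl | hij
      · rw [polar_self', h, mul_zero]
      · exact heo i j hij
    exact hk Submodule.mem_top)
  have hQp : ∀ a j, Q (pure a (e j)) = qU a * (2 * qW (e j)) := fun a j => by rw [Q_pure S]; ring
  have hP : ∀ {a : Uv}, qU a ≠ 0 → liftU S (reflect qU a) =
      ((List.finRange n).map fun j => reflect Q (pure a (e j))).prod := by
    intro a ha
    have key : ∀ L : List (Fin n), L.Nodup → ∀ v i,
        act ((L.map fun j => reflect Q (pure a (e j))).prod) (pure v (e i)) =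
          pure (if i ∈ L then act (reflect qU a) v else v) (e i) := by
      intro L
      induction L with
      | nil => intro _ v i; simp [act_one]
      | cons j L ih =>
        intro hL v i
        obtain ⟨hj, hL'⟩ := List.nodup_cons.1 hL
        rw [List.map_cons, List.prod_cons, act_mul, ih hL', act_reflect, S.mul, hQp]
        rcases eq_or_ne i j with rfl | hij
        · rw [if_neg hj, if_pos (List.mem_cons_self ..), act_reflect, polar_self', sub_eq_add_neg v, ← neg_smul,
            pure_add_left, pure_smul_left, sub_eq_add_neg, ← neg_smul]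
          congr 2
          have := he0 i
          have := S.two
          field_simp
        · rw [heo j i hij.symm, mul_zero, mul_zero, zero_smul, sub_zero]
          simp [List.mem_cons, hij]
    refine act_ext fun x => ?_
    refine LinearMap.congr_fun (ext_pure fun v w => ?_) x
    refine LinearMap.congr_fun (e.ext (f₁ := (act (liftU S (reflect qU a))).comp (pureL v))
      (f₂ := (act (((List.finRange n).map fun j => reflect Q (pure a (e j))).prod)).comp (pureL v))
      fun i => ?_) w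
    rw [LinearMap.comp_apply, LinearMap.comp_apply, pureL_apply, key _ (List.nodup_finRange n), liftU_act,
      if_pos (List.mem_finRange i)]
  let π : ℤˣ × ℤˣ := ∏ j, ((1 : ℤˣ), if IsSquare (2 * qW (e j)) then (-1 : ℤˣ) else 1)
  have h22 : ∀ x : ℤˣ × ℤˣ, x * x = 1 := fun x =>
    Prod.ext (Int.units_mul_self _) (Int.units_mul_self _)
  have href : ∀ {a : Uv}, qU a ≠ 0 → Spinor.pairHom S.nd S.two (liftU S (reflect qU a)) = π := by
    intro a ha
    rw [hP ha, map_list_prod, List.map_map, ← List.ofFn_eq_map, List.prod_ofFn]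
    let σ : ℤˣ × ℤˣ := (-1, if IsSquare (qU a) then 1 else -1)
    calc _ = ∏ j, σ * ((1 : ℤˣ), if IsSquare (2 * qW (e j)) then (-1 : ℤˣ) else 1) := by
          refine Finset.prod_congr rfl fun j _ => ?_
          have hc : 2 * qW (e j) ≠ 0 := mul_ne_zero S.two (he0 j)
          have hne : Q (pure a (e j)) ≠ 0 := by rw [hQp]; exact mul_ne_zero ha hc
          rw [Function.comp_apply, Spinor.pairHom_reflect S.nd S.two hne, hQp]
          refine Prod.ext (by simp [σ]) ?_
          by_cases h1 : IsSquare (qU a) <;> by_cases h3 : IsSquare (2 * qW (e j))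
          · simp [σ, h1, h3, h1.mul h3]
          · have h4 : ¬ IsSquare (qU a * (2 * qW (e j))) := fun h => h3 (by
              obtain ⟨r, hr⟩ := h1
              obtain ⟨s, hs⟩ := h
              have hr0 : r ≠ 0 := fun h0 => ha (by rw [hr, h0, mul_zero])
              refine ⟨s / r, ?_⟩
              rw [hr] at hs
              field_simp
              linear_combination hs)
            simp [σ, h1, h3, h4]
          · have h4 : ¬ IsSquare (qU a * (2 * qW (e j))) := fun h => h1 (by
              obtain ⟨r, hr⟩ := h3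
              obtain ⟨s, hs⟩ := h
              have hr0 : r ≠ 0 := fun h0 => hc (by rw [hr, h0, mul_zero])
              refine ⟨s / r, ?_⟩
              rw [hr] at hs
              field_simp
              linear_combination hs)
            simp [σ, h1, h3, h4]
          · simp [σ, h1, h3, Bases.isSquare_mul_of_not h1 h3]
      _ = π := by
          rw [Finset.prod_mul_distrib, Finset.prod_const, Finset.card_univ, Fintype.card_fin,
            show σ ^ n = 1 from (congrArg (σ ^ ·) hn4.2).trans (by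
              show σ ^ (2 * 2) = 1
              rw [pow_mul, pow_two σ, h22, one_pow]), one_mul]
  have hall : ∀ x ∈ refGroup qU,
      (par x = 1 ∧ Spinor.pairHom S.nd S.two (liftU S x) = 1) ∨
      (par x = -1 ∧ Spinor.pairHom S.nd S.two (liftU S x) = π) := by
    intro x hx
    induction hx using Subgroup.closure_induction with
    | mem y hy =>
      obtain ⟨v, hv, rfl⟩ := hy
      refine Or.inr ⟨?_, href hv⟩
      have := par_reflect_mul S.ndU hv (1 : Cfsg.isometryGroup F ⇑qU)
      rwa [mul_one, par_one] at this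
    | one => exact Or.inl ⟨par_one, by rw [map_one, map_one]⟩
    | mul y z hy _ hy' hz' =>
      rw [par_mul S.ndU hy, map_mul, map_mul]
      rcases hy' with ⟨a1, a2⟩ | ⟨a1, a2⟩ <;> rcases hz' with ⟨b1, b2⟩ | ⟨b1, b2⟩ <;>
        simp [a1, a2, b1, b2, h22 π]
    | inv y hy hy' =>
      have h1 : par y⁻¹ = par y := by
        have := par_mul S.ndU hy y⁻¹
        rw [mul_inv_cancel, par_one] at this
        rw [← one_mul (par y⁻¹), ← Int.units_mul_self (par y), mul_assoc, ← this, mul_one]
      rw [h1, map_inv, map_inv, inv_eq_of_mul_eq_one_right (h22 _)]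
      exact hy'
  rcases hall g (refGroup_eq_top S.ndU (Or.inl (Spinor.two_ne_card S.nd S.two)) ▸ Subgroup.mem_top g) with
    ⟨-, h⟩ | ⟨h, -⟩
  · exact h
  · rw [hg] at h; exact absurd h (by decide)

variable (hO : Over qU qW Q M)
include hO

/-- the involutions lie in the stabiliser -/
theorem exists_isT (hn4 : k = 3 ∧ n = 4) {u : Uv} (hu : qU u ≠ 0) :
    ∃ t ∈ M, t ∈ Cfsg.Geo.kroneckerSubgroup k n F ∧ IsT qU u t := by
  have S := hO.setup
  have hk3 : k = 3 := hn4.1
  let L : Uv →ₗ[F] Uv := (polB qU u).smulRight ((qU u)⁻¹ • u) - LinearMap.id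
  have hL : ∀ v, L v = ((qU u)⁻¹ * bU v u) • u - v := fun v => by
    simp only [L, LinearMap.sub_apply, LinearMap.smulRight_apply, polB_apply, LinearMap.id_apply, smul_smul,
      QuadraticMap.polar_comm _ u v, mul_comm (bU v u)]
  have hinv : ∀ v, L (L v) = v := fun v => by
    rw [hL, hL, QuadraticMap.polar_sub_left, QuadraticMap.polar_smul_left, polar_self', smul_eq_mul]
    match_scalars <;> field_simp
    ring
  obtain ⟨a, ha⟩ := exists_glmap L (Function.LeftInverse.injective hinv)
  have hai : a ∈ Cfsg.isometryGroup F ⇑qU := fun v _ => by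
    show qU ((Units.val a) *ᵥ v) = qU v
    rw [ha, hL, Classical.Orth.map_sub', Classical.Orth.map_smul', QuadraticMap.polar_smul_left,
      QuadraticMap.polar_comm _ u v, smul_eq_mul]
    field_simp
    ring
  have hpar : par (⟨a, hai⟩ : Cfsg.isometryGroup F ⇑qU) = 1 := by
    have hfix : fixSp (⟨a, hai⟩ : Cfsg.isometryGroup F ⇑qU) = Submodule.span F {u} := by
      ext v
      rw [mem_fixSp, act_apply, ha, hL, Submodule.mem_span_singleton]
      constructor
      · intro h
        refine ⟨(2 : F)⁻¹ * ((qU u)⁻¹ * bU v u), ?_⟩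
        rw [mul_smul, (sub_eq_iff_eq_add.1 h), ← two_smul F v, smul_smul, inv_mul_cancel₀ S.two, one_smul]
      · rintro ⟨c, rfl⟩
        rw [QuadraticMap.polar_smul_left, polar_self', smul_eq_mul]
        match_scalars
        field_simp
        ring
    rw [par, hfix, finrank_span_singleton (fun h => hu (by rw [h, QuadraticMap.map_zero])), Fintype.card_fin, hk3]
    decide
  have hmem : ((liftU S ⟨a, hai⟩ : Cfsg.isometryGroup F ⇑Q) : GLkn) ∈ Cfsg.Geo.omegaGL ⇑Q := by
    refine ⟨liftU S ⟨a, hai⟩, ?_, rfl⟩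
    have h2 : 2 ≤ Fintype.card (Fin k × Fin n) := le_trans (by norm_num) (card_large S)
    show liftU S ⟨a, hai⟩ ∈ Cfsg.Omega F ⇑Q
    rw [← Spinor.ker_pairHom S.nd S.two h2, MonoidHom.mem_ker]
    exact liftU_pairHom S hn4 hpar
  refine ⟨kr a (1 : GL (Fin n) F), hO.ge ⟨kr_mem_kron _ _, hmem⟩, kr_mem_kron _ _, hu, fun v w => ?_⟩
  rw [kr_pure, Units.val_one, one_mulVec, ha, hL]

/-! ### Elements of order `p` commuting with such an involution -/

theorem right_of_comm (hn4 : k = 3 ∧ n = 4) (p : ℕ) [Fact p.Prime] [CharP F p] {u : Uv} {t y : GLkn}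
    (hT : IsT qU u t) (hy : y ∈ M) (hyk : y ∈ Cfsg.Geo.kroneckerSubgroup k n F) (hyp : y ^ p = 1)
    (hc : Commute y t) : ∃ β : GL (Fin n) F, y = kr 1 β := by
  have S := hO.setup
  have hk3 : k = 3 := hn4.1
  obtain ⟨a, b, rfl⟩ := exists_kr hyk
  obtain ⟨w₁, hw₁⟩ := exists_aniso_vec S.ndW (by omega)
  have hw0 : w₁ ≠ 0 := fun h => hw₁ (by rw [h, QuadraticMap.map_zero])
  have hu0 := hT.ne_zero
  set s := (2 * qU u)⁻¹ * bU ((Units.val a) *ᵥ u) u with hs_def
  have hau : (Units.val a) *ᵥ u = s • u := by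
    refine hT.fixed_left S.two (w := (Units.val b) *ᵥ w₁)
      (fun h => hw0 (mulVec_inj b (h.trans (mulVec_zero _).symm))) ?_
    rw [← kr_pure, ← mulVec_mul_GL, ← hc.eq, mulVec_mul_GL, hT.fix_pure]
  have hs : s ≠ 0 := fun h => hu0 (mulVec_inj a (by rw [hau, h, zero_smul, mulVec_zero]))
  set A : Matrix (Fin k) (Fin k) F := s⁻¹ • (Units.val a) with hA
  have hAv : ∀ v, A *ᵥ v = s⁻¹ • ((Units.val a) *ᵥ v) := fun v => smul_mulVec ..
  have hAu : A *ᵥ u = u := by rw [hAv, hau, inv_smul_smul₀ hs]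
  obtain ⟨β, hβ⟩ := exists_glmap (s • Matrix.toLin' (Units.val b)) fun w w' h => by
    rw [LinearMap.smul_apply, LinearMap.smul_apply, Matrix.toLin'_apply, Matrix.toLin'_apply] at h
    exact mulVec_inj b (smul_right_injective _ hs h)
  have hya : ∀ v w, (Units.val (kr a b)) *ᵥ pure v w = pure (A *ᵥ v) ((Units.val β) *ᵥ w) := fun v w => by
    rw [kr_pure, hAv, hβ, LinearMap.smul_apply, Matrix.toLin'_apply, pure_smul_left, pure_smul_right, smul_smul,
      inv_mul_cancel₀ hs, one_smul]
  have hQ : ∀ v w, qU (A *ᵥ v) * qW ((Units.val β) *ᵥ w) = qU v * qW w := fun v w => by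
    have h := map_M hO hy (pure v w)
    rw [hya, Q_pure S, Q_pure S] at h
    exact mul_left_cancel₀ S.two (by linear_combination h)
  have hβQ : ∀ w, qW ((Units.val β) *ᵥ w) = qW w := fun w => by
    have h := hQ u w
    rw [hAu] at h
    exact mul_left_cancel₀ hT.ne h
  have hAQ : ∀ v, qU (A *ᵥ v) = qU v := fun v => by
    have h := hQ v w₁
    rw [hβQ] at h
    exact mul_right_cancel₀ hw₁ h
  have hAB : ∀ v v', bU (A *ᵥ v) (A *ᵥ v') = bU v v' := fun v v' => by
    simp only [QuadraticMap.polar, ← mulVec_add, hAQ]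
  have hpow : ∀ (j : ℕ) v w, (Units.val (kr a b ^ j)) *ᵥ pure v w =
      pure ((A ^ j) *ᵥ v) (((Units.val β) ^ j) *ᵥ w) := by
    intro j
    induction j with
    | zero => intro v w; simp
    | succ j ih =>
      intro v w
      rw [pow_succ, mulVec_mul_GL, hya, ih, mulVec_mulVec, mulVec_mulVec, ← pow_succ, ← pow_succ]
  have hApu : ∀ j : ℕ, (A ^ j) *ᵥ u = u := by
    intro j
    induction j with
    | zero => simp
    | succ j ih => rw [pow_succ, ← mulVec_mulVec, hAu, ih]
  have hβp : ∀ w, ((Units.val β) ^ p) *ᵥ w = w := fun w => by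
    refine pure_cancel_right hu0 ?_
    have h := hpow p u w
    rw [hyp, Units.val_one, one_mulVec, hApu] at h
    exact h.symm
  have hAp : A ^ p = 1 := Matrix.ext_iff_mulVec.2 fun v => by
    rw [one_mulVec]
    refine pure_cancel_left hw0 ?_
    have h := hpow p v w₁
    rw [hyp, Units.val_one, one_mulVec, hβp] at h
    exact h.symm
  haveI : Nonempty (Fin k) := ⟨⟨0, by omega⟩⟩
  have hN0 : (A - 1) ^ p = 0 := by
    rw [sub_pow_char_of_commute _ (Commute.one_right A), hAp, one_pow, sub_self]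
  have hA1 : A = 1 := by
    classical
    by_contra hne
    have hex : ∃ j, (A - 1) ^ j = 0 := ⟨p, hN0⟩
    set j := Nat.find hex with hj
    have h0 : (A - 1) ^ j = 0 := Nat.find_spec hex
    have hj2 : 2 ≤ j := by
      by_contra hlt
      rcases (show j = 0 ∨ j = 1 by omega) with h | h <;> rw [h] at h0
      · rw [pow_zero] at h0
        exact one_ne_zero h0
      · rw [pow_one, sub_eq_zero] at h0
        exact hne h0
    have h1 : (A - 1) ^ (j - 1) ≠ 0 := Nat.find_min hex (show j - 1 < j by omega)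
    obtain ⟨x, hx⟩ : ∃ x, ((A - 1) ^ (j - 1)) *ᵥ x ≠ 0 := by
      by_contra hall
      push Not at hall
      exact h1 (Matrix.ext_iff_mulVec.2 fun x => by rw [hall, zero_mulVec])
    set l := ((A - 1) ^ (j - 2)) *ᵥ x with hl
    set r := ((A - 1) ^ (j - 1)) *ᵥ x with hr
    have hNl : (A - 1) *ᵥ l = r := by
      rw [hl, hr, mulVec_mulVec, ← pow_succ', show j - 2 + 1 = j - 1 by omega]
    have hNr : (A - 1) *ᵥ r = 0 := by
      rw [hr, mulVec_mulVec, ← pow_succ', show j - 1 + 1 = j by omega, h0, zero_mulVec]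
    rw [sub_mulVec, one_mulVec, sub_eq_iff_eq_add] at hNl hNr
    rw [zero_add] at hNr
    have hru : bU r u = 0 := by
      have := hAB l u
      rw [hAu, hNl, QuadraticMap.polar_add_left] at this
      linear_combination this
    have hQr : qU r = 0 := by
      have := hAB l r
      rw [hNr, hNl, QuadraticMap.polar_add_left, polar_self'] at this
      exact (mul_eq_zero.1 (show 2 * qU r = 0 by linear_combination this)).resolve_left S.two
    have hlr : bU l r = 0 := by
      have := hAQ l
      rw [hNl, Classical.Orth.map_add', hQr, QuadraticMap.polar_comm _ r l] at this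
      linear_combination this
    have hli : LinearIndependent F ![u, l, r] := by
      rw [Fintype.linearIndependent_iff]
      intro c hc'
      simp only [Fin.sum_univ_three, Matrix.cons_val_zero, Matrix.cons_val_one, Matrix.cons_val_two,
        Matrix.head_cons, Matrix.tail_cons] at hc'
      have hc1 : c 1 = 0 := by
        have h := congrArg (fun y => A *ᵥ y - y) hc'
        simp only [mulVec_add, mulVec_smul, hAu, hNl, hNr, mulVec_zero, sub_zero] at h
        have h' : c 1 • r = 0 := by linear_combination (norm := module) h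
        exact (smul_eq_zero.1 h').resolve_right hx
      have hc0 : c 0 = 0 := by
        have h := congrArg (fun y => bU y u) hc'
        simp only [QuadraticMap.polar_add_left, QuadraticMap.polar_smul_left, hru, hc1, polar_self', smul_eq_mul,
          mul_zero, zero_mul, add_zero, QuadraticMap.polar_zero_left] at h
        exact (mul_eq_zero.1 h).resolve_right (mul_ne_zero S.two hT.ne)
      have hc2 : c 2 = 0 := by
        rw [hc0, hc1, zero_smul, zero_smul, zero_add, zero_add] at hc'
        exact (smul_eq_zero.1 hc').resolve_right hx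
      intro i
      fin_cases i <;> assumption
    have htop := hli.span_eq_top_of_card_eq_finrank (by
      rw [Fintype.card_fin, Module.finrank_fintype_fun_eq_card, Fintype.card_fin, hk3])
    have hle : (⊤ : Submodule F Uv) ≤ LinearMap.ker (polB qU r) := by
      rw [← htop, Submodule.span_le]
      rintro _ ⟨i, rfl⟩
      fin_cases i
      · exact hru
      · show bU r l = 0
        rw [QuadraticMap.polar_comm]
        exact hlr
      · show bU r r = 0
        rw [polar_self', hQr, mul_zero]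
    exact hx (S.ndU.1 r fun v => hle Submodule.mem_top)
  refine ⟨β, gl_ext_pure fun v w => ?_⟩
  rw [hya, hA1, kr_pure, Units.val_one]

variable (hN : NoCentral qW M)
include hN

/-- an element conjugating an Eichler element of the second factor into that factor preserves the
decomposition -/
theorem kron_of_conj_eich (hn4 : k = 3 ∧ n = 4) {g : GLkn} (hg : g ∈ M) {f f' z : Wv} (hp : IsPair qW f f')
    (hf0 : f ≠ 0) (hz : bW f z = 0) (hQz : qW z ≠ 0) {β : GL (Fin n) F}
    (h : g * kr (1 : GL (Fin k) F) (eich f z hp.hu hz : GL (Fin n) F) * g⁻¹ = kr 1 β) :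
    g ∈ Cfsg.Geo.kroneckerSubgroup k n F := by
  have S := hO.setup
  set x := kr (1 : GL (Fin k) F) (eich f z hp.hu hz : GL (Fin n) F) with hx
  set Y : Vv → Vv := fun v => (Units.val (kr (1 : GL (Fin k) F) β)) *ᵥ v - v with hY
  have hgx : ∀ v, (Units.val g) *ᵥ ((Units.val x) *ᵥ v - v) = Y ((Units.val g) *ᵥ v) := fun v => by
    simp only [hY]
    rw [mulVec_sub, ← h, mulVec_mul_GL, mulVec_mul_GL, inv_mulVec_cancel]
  set X : Vv → Vv := fun v => (Units.val x) *ᵥ v - v with hX
  have hzf : bW z f = 0 := by rw [QuadraticMap.polar_comm]; exact hz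
  have hXX : ∀ v, X (X v) = pure ((-(bW z z)) • eta qW f v) f := fun v => by
    have hXv : ∀ v, X v = pure (eta qW f v) z - pure (eta qW z v) f - qW z • pure (eta qW f v) f := fun v => by
      simp only [hX, hx]
      rw [eich_act hO hp hz]
      abel
    rw [hXv, hXv]
    simp only [map_sub, map_smul, eta_pure, hzf, hz, polar_self_zero hp.hu, zero_smul, smul_zero, sub_zero,
      pure_zero_left, zero_sub, pure_smul_left, neg_smul]
    rw [← neg_smul, ← neg_smul, pure_smul_left]
  set N : Wv →ₗ[F] Wv := Matrix.toLin' (Units.val β) - LinearMap.id with hN'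
  have hrow : ∀ y i, TensorMax.row (Y y) i = N (TensorMax.row y i) := fun y i => by
    simp only [hY, hN', LinearMap.sub_apply, LinearMap.id_apply, Matrix.toLin'_apply]
    rw [kr_coe, Units.val_one, ← row_one_kron]
    rfl
  have hYY : ∀ v, (Units.val g) *ᵥ X (X v) = Y (Y ((Units.val g) *ᵥ v)) := fun v => by rw [hgx, hgx]
  have hsing : ∀ w, qW (N (N w)) = 0 := fun w => by
    obtain ⟨u₁, hu₁⟩ := exists_aniso_vec S.ndU S.hk
    have e : Y (Y (pure u₁ w)) = pure u₁ (N (N w)) := TensorMax.ext_row fun i => by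
      rw [hrow, hrow, row_pure, row_pure, map_smul, map_smul]
    have h1 : Q (pure u₁ (N (N w))) = 0 := by
      rw [← e, ← mulVec_inv_cancel g (pure u₁ w), ← hYY, map_M hO hg, hXX]
      exact Q_of_sing_right S _ hp.hu
    rw [Q_pure S] at h1
    exact (mul_eq_zero.1 h1).resolve_left (mul_ne_zero S.two hu₁)
  have hzz : bW z z ≠ 0 := by rw [polar_self']; exact mul_ne_zero S.two hQz
  have hmem : ∀ u i, TensorMax.row ((Units.val g) *ᵥ pure u f) i ∈ LinearMap.range (N.comp N) := fun u i => by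
    have e : pure u f = X (X (pure ((-(bW z z))⁻¹ • u) f')) := by
      rw [hXX, eta_pure, hp.hvu, one_smul, smul_inv_smul₀ (neg_ne_zero.2 hzz)]
    rw [e, hYY, hrow, hrow]
    exact ⟨_, rfl⟩
  obtain ⟨u₀, hu₀⟩ := exists_aniso_vec S.ndU S.hk
  obtain ⟨i₀, hi₀⟩ : ∃ i, TensorMax.row ((Units.val g) *ᵥ pure u₀ f) i ≠ 0 := by
    by_contra hall
    push Not at hall
    have h0 : (Units.val g) *ᵥ pure u₀ f = 0 := TensorMax.ext_row fun i => by rw [hall i]; rfl
    exact pure_ne_zero (fun h => hu₀ (by rw [h, QuadraticMap.map_zero])) hf0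
      (mulVec_inj g (h0.trans (mulVec_zero _).symm))
  set r := TensorMax.row ((Units.val g) *ᵥ pure u₀ f) i₀ with hr
  have hR : ∀ y ∈ LinearMap.range (N.comp N), qW y = 0 := by
    rintro _ ⟨w, rfl⟩; exact hsing w
  refine slot_kron_of hO hN hg hf0 hp.hu hi₀ (hR _ (hmem u₀ i₀)) fun u => ?_
  refine exists_pure_of_row fun i => ?_
  exact S.anisoW hn4.2 r _ (hR _ (hmem u₀ i₀)) (hR _ (hmem u i)) (Orth.polar_of_sing hR (hmem u₀ i₀) (hmem u i)) hi₀

/-! ### The centraliser of the involution -/

omit hO hN in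
/-- the elements centralising `t` and fixing `u ⊗ W` -/
def kOne (M : Subgroup (GL (Fin k × Fin n) F)) (t : GL (Fin k × Fin n) F) (u : Fin k → F) :
    Subgroup (GL (Fin k × Fin n) F) where
  carrier := {g | g ∈ M ∧ Commute g t ∧ ∀ w, (Units.val g) *ᵥ pure u w = pure u w}
  one_mem' := ⟨one_mem M, Commute.one_left t, fun w => by rw [Units.val_one, one_mulVec]⟩
  mul_mem' := fun ⟨a1, a2, a3⟩ ⟨b1, b2, b3⟩ =>
    ⟨mul_mem a1 b1, a2.mul_left b2, fun w => by rw [mulVec_mul_GL, b3, a3]⟩
  inv_mem' := fun {g} ⟨a1, a2, a3⟩ =>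
    ⟨inv_mem a1, a2.inv_left, fun w => mulVec_inj g (by rw [mulVec_inv_cancel, a3])⟩

omit hO hN in
theorem mem_kOne {t g : GLkn} {u : Uv} : g ∈ kOne M t u ↔
    g ∈ M ∧ Commute g t ∧ ∀ w, (Units.val g) *ᵥ pure u w = pure u w := Iff.rfl

omit hN in
theorem kOne_trivial (hn4 : k = 3 ∧ n = 4) (p : ℕ) [Fact p.Prime] [CharP F p] {u : Uv} {t y : GLkn}
    (hT : IsT qU u t) (hy : y ∈ kOne M t u) (hyk : y ∈ Cfsg.Geo.kroneckerSubgroup k n F) (hyp : y ^ p = 1) :
    y = 1 := by
  obtain ⟨hyM, hyc, hyf⟩ := mem_kOne.1 hy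
  obtain ⟨β, rfl⟩ := right_of_comm hO hn4 p hT hyM hyk hyp hyc
  have hβ : β = 1 := gl_ext fun w => by
    refine pure_cancel_right hT.ne_zero ?_
    have h := hyf w
    rw [kr_pure, Units.val_one, one_mulVec] at h
    rw [h, Units.val_one, one_mulVec]
  rw [hβ, kr_one]

omit hN in
/-- the Eichler elements of the radical at a singular point -/
theorem exists_rad_group (hn4 : k = 3 ∧ n = 4) : ∃ (f f' : Wv) (hp : IsPair qW f f'), f ≠ 0 ∧
    (∀ z ∈ core qW f f', qW z = 0 → z = 0) ∧ 2 ≤ Module.finrank F (core qW f f') := by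
  have S := hO.setup
  obtain ⟨f, hf0, hQf⟩ := exists_sing_ne S.ndW (by omega)
  obtain ⟨f', hp⟩ := exists_pair_of S.ndW hf0 hQf
  refine ⟨f, f', hp, hf0, fun y hy hQy => ?_, ?_⟩
  · obtain ⟨hy1, hy2⟩ := mem_core.1 hy
    obtain ⟨c, rfl⟩ := Submodule.mem_span_singleton.1 (S.anisoW hn4.2 f y hp.hu hQy hy1 hf0)
    rw [QuadraticMap.polar_smul_right, hp.hvu, smul_eq_mul, mul_one] at hy2
    rw [hy2, zero_smul]
  · have := finrank_core (q := qW) S.ndW f f'
    omega

/-- centralisers of the involutions preserve the decomposition -/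
theorem centralizer_le (hn4 : k = 3 ∧ n = 4) {u : Uv} {t : GLkn} (hT : IsT qU u t) {g : GLkn} (hg : g ∈ M)
    (hc : Commute g t) : g ∈ Cfsg.Geo.kroneckerSubgroup k n F := by
  classical
  have S := hO.setup
  obtain ⟨p, hp'⟩ := CharP.exists F
  haveI : Fact p.Prime := ⟨CharP.char_is_prime F p⟩
  obtain ⟨f, f', hp, hf0, haniso, hdim⟩ := exists_rad_group hO hn4
  -- the radical as a group
  let ψ : Multiplicative (core qW f f') →* GLkn := MonoidHom.mk'
    (fun z => kr (1 : GL (Fin k) F) (eich f (Multiplicative.toAdd z).1 hp.hu (mem_core.1 (Multiplicative.toAdd z).2).1 : GL (Fin n) F))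
    (fun z z' => by
      rw [kr_mul, one_mul, ← Subgroup.coe_mul, eich_mul]
      rfl)
  have hψM : ∀ z, ψ z ∈ M := fun z => right_mem hO (eich_mem _ _ Submodule.mem_top Submodule.mem_top)
  have hψp : ∀ z, ψ z ^ p = 1 := fun z => by
    have hz : z ^ p = 1 := Multiplicative.toAdd.injective (by
      rw [toAdd_pow, toAdd_one, ← Nat.cast_smul_eq_nsmul F, CharP.cast_eq_zero, zero_smul])
    rw [← map_pow, hz, map_one]
  have hψinj : Function.Injective ψ := fun z z' h => by
    obtain ⟨u₁, hu₁, -⟩ := exists_sing_ne S.ndU S.hk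
    have h1 := congrArg (fun y : GLkn => (Units.val y) *ᵥ pure u₁ f') h
    simp only [ψ, MonoidHom.mk'_apply, kr_pure, Units.val_one, one_mulVec, ← act_apply, act_eich] at h1
    have h2 := pure_cancel_right hu₁ h1
    obtain ⟨a1, a2⟩ := mem_core.1 (Multiplicative.toAdd z).2
    obtain ⟨b1, b2⟩ := mem_core.1 (Multiplicative.toAdd z').2
    simp only [hp.hvu, a2, b2, QuadraticMap.polar_comm _ f' (_ : Wv), one_smul, zero_smul, sub_zero, mul_one] at h2
    have h3 := congrArg (fun y => bW f' y) h2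
    simp only [QuadraticMap.polar_sub_right, QuadraticMap.polar_add_right, QuadraticMap.polar_smul_right,
      polar_self_zero hp.hv, a2, b2, hp.hvu, smul_eq_mul, mul_one, zero_add, zero_sub, neg_inj] at h3
    rw [h3] at h2
    have h4 : (Multiplicative.toAdd z).1 = (Multiplicative.toAdd z').1 := by
      linear_combination (norm := module) h2
    exact Multiplicative.toAdd.injective (Subtype.ext h4)
  have hne : ∀ z : Multiplicative (core qW f f'), z ≠ 1 → qW (Multiplicative.toAdd z).1 ≠ 0 := fun z hz hQ =>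
    hz (Multiplicative.toAdd.injective (Subtype.ext (haniso _ (Multiplicative.toAdd z).2 hQ)))
  have hL2 : ∀ z, z ≠ 1 → ∀ y ∈ M, (∃ β : GL (Fin n) F, y * ψ z * y⁻¹ = kr 1 β) →
      y ∈ Cfsg.Geo.kroneckerSubgroup k n F := fun z hz y hy ⟨β, h⟩ =>
    kron_of_conj_eich hO hN hn4 hy hp hf0 _ (hne z hz) h
  have hL2' : ∀ z, z ≠ 1 → ∀ y ∈ M, Commute y (ψ z) → y ∈ Cfsg.Geo.kroneckerSubgroup k n F :=
    fun z hz y hy hyc => hL2 z hz y hy ⟨_, by rw [hyc.eq, mul_inv_cancel_right]; rfl⟩
  have hψt : ∀ z, Commute (ψ z) t := fun z => (hT.comm_right _).symm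
  -- the group normalises `K₁`
  set K := kOne M t u with hK
  have hnorm : ∀ z, ∀ y ∈ K, ψ z * y * (ψ z)⁻¹ ∈ K := by
    intro z y hy
    obtain ⟨hyM, hyc, hyf⟩ := mem_kOne.1 hy
    refine mem_kOne.2 ⟨mul_mem (mul_mem (hψM z) hyM) (inv_mem (hψM z)),
      ((hψt z).mul_left hyc).mul_left (hψt z).inv_left, fun w => ?_⟩
    have hi : (ψ z)⁻¹ = kr (1 : GL (Fin k) F)
        (eich f (Multiplicative.toAdd z).1 hp.hu (mem_core.1 (Multiplicative.toAdd z).2).1 : GL (Fin n) F)⁻¹ := by
      simp only [ψ, MonoidHom.mk'_apply, kr_inv, inv_one]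
    have hfix : ∀ w', ∃ w'', (Units.val (ψ z)⁻¹) *ᵥ pure u w' = pure u w'' := fun w' =>
      ⟨_, by rw [hi, kr_pure, Units.val_one, one_mulVec]⟩
    obtain ⟨w', hw'⟩ := hfix w
    rw [mulVec_mul_GL, mulVec_mul_GL, hw', hyf, ← hw', mulVec_inv_cancel]
  -- `p` does not divide its order
  have hpK : ¬ p ∣ Nat.card K := by
    intro hdvd
    obtain ⟨z₀, hz₀⟩ : ∃ z : Multiplicative (core qW f f'), z ≠ 1 := by
      obtain ⟨c, hc1, hc0⟩ := Submodule.exists_mem_ne_zero_of_ne_bot (p := core qW f f')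
        (fun h0 => by rw [h0, finrank_bot] at hdim; omega)
      exact ⟨Multiplicative.ofAdd ⟨c, hc1⟩, fun h => hc0 (congrArg (fun y => (Multiplicative.toAdd y).1) h)⟩
    set x := ψ z₀ with hx
    set H := K ⊔ Subgroup.zpowers x with hH
    have hKH : K ≤ H := le_sup_left
    have hxH : x ∈ H := Subgroup.mem_sup_right (Subgroup.mem_zpowers x)
    haveI hNn : (K.subgroupOf H).Normal := by
      rw [Subgroup.normal_subgroupOf_iff_le_normalizer hKH]
      refine sup_le Subgroup.le_normalizer (Subgroup.zpowers_le.2 (Subgroup.mem_normalizer_iff.2 fun y =>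
        ⟨fun hy => hnorm z₀ y hy, fun hy => ?_⟩))
      have := hnorm z₀⁻¹ _ hy
      rw [map_inv, inv_inv] at this
      simpa [mul_assoc, hx] using this
    obtain ⟨y₀, hy₀⟩ := exists_prime_orderOf_dvd_card' (G := K) p hdvd
    let y₁ : H := ⟨y₀.1, hKH y₀.2⟩
    have hpow : ∀ (a : H), a ^ p = 1 → IsPGroup p (Subgroup.zpowers a) := fun a ha b => by
      refine ⟨1, ?_⟩
      obtain ⟨i, hi⟩ := Subgroup.mem_zpowers_iff.1 b.2
      refine Subtype.ext ?_
      rw [pow_one, SubgroupClass.coe_pow, ← hi, ← zpow_natCast, ← _root_.zpow_mul, mul_comm, _root_.zpow_mul, zpow_natCast, ha,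
        _root_.one_zpow, OneMemClass.coe_one]
    have hy₁p : y₁ ^ p = 1 := Subtype.ext (by
      have h1 := pow_orderOf_eq_one y₀
      rw [hy₀] at h1
      simpa [y₁] using congrArg Subtype.val h1)
    let x₁ : H := ⟨x, hxH⟩
    obtain ⟨P, hP⟩ := (hpow x₁ (Subtype.ext (hψp z₀))).exists_le_sylow
    obtain ⟨P', hP'⟩ := (hpow y₁ hy₁p).exists_le_sylow
    obtain ⟨c, hc'⟩ := MulAction.exists_smul_eq H P' P
    have hyP : c * y₁ * c⁻¹ ∈ (P : Subgroup H) := by
      rw [← hc', Sylow.coe_subgroup_smul]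
      exact Subgroup.smul_mem_pointwise_smul y₁ (MulAut.conj c) _ (hP' (Subgroup.mem_zpowers y₁))
    haveI : Group.IsNilpotent (P : Subgroup H) := P.2.isNilpotent
    have hNP : (K.subgroupOf H).subgroupOf (P : Subgroup H) ≠ ⊥ := fun h0 => by
      have h1 : (⟨_, hyP⟩ : (P : Subgroup H)) ∈ (K.subgroupOf H).subgroupOf (P : Subgroup H) :=
        hNn.conj_mem y₁ y₀.2 c
      rw [h0, Subgroup.mem_bot] at h1
      have h2 : c * y₁ * c⁻¹ = 1 := congrArg Subtype.val h1
      rw [conj_eq_one_iff] at h2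
      have h3 : y₀ = 1 := Subtype.ext (congrArg Subtype.val h2 : _)
      rw [h3, orderOf_one] at hy₀
      exact (Fact.out (p := p.Prime)).one_lt.ne hy₀
    set Z := (K.subgroupOf H).subgroupOf (P : Subgroup H) ⊓ Subgroup.center (P : Subgroup H) with hZ
    have hZne : Z ≠ ⊥ := Cores.inf_center_ne_bot hNP
    have hpZ : p ∣ Nat.card Z := by
      obtain ⟨m, hm⟩ := IsPGroup.iff_card.1 (P.2.to_subgroup Z)
      rw [hm]
      exact dvd_pow_self p fun h => hZne (Subgroup.eq_bot_of_card_eq _ (by rw [hm, h, pow_zero]))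
    obtain ⟨z, hz⟩ := exists_prime_orderOf_dvd_card' (G := Z) p hpZ
    obtain ⟨hzK, hzc⟩ := Subgroup.mem_inf.1 z.2
    set y : GLkn := ((z.1 : H) : GLkn) with hy
    have hyK : y ∈ K := hzK
    have hyp : y ^ p = 1 := by
      have h1 := pow_orderOf_eq_one z
      rw [hz] at h1
      exact congrArg (fun a : Z => ((a.1 : H) : GLkn)) h1
    have hyx : Commute y x := by
      have h1 := Subgroup.mem_center_iff.1 hzc ⟨x₁, hP (Subgroup.mem_zpowers x₁)⟩
      exact (congrArg (fun a : (P : Subgroup H) => ((a : H) : GLkn)) h1).symm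
    have h1 : y = 1 := kOne_trivial hO hn4 p hT hyK (hL2' z₀ hz₀ y (mem_kOne.1 hyK).1 hyx) hyp
    have h2 : z = 1 := Subtype.ext (Subtype.ext (Subtype.ext h1))
    rw [h2, orderOf_one] at hz
    exact (Fact.out (p := p.Prime)).one_lt.ne hz
  -- coprime action
  haveI : IsMulCommutative ψ.range := ⟨⟨fun a b => by
    obtain ⟨a', ha⟩ := a.2
    obtain ⟨b', hb⟩ := b.2
    refine Subtype.ext ?_
    show (a : GLkn) * b = b * a
    rw [← ha, ← hb, ← map_mul, ← map_mul, mul_comm]⟩⟩
  have hRp : IsPGroup p ψ.range := fun a => ⟨1, Subtype.ext (by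
    obtain ⟨a', ha⟩ := a.2
    rw [pow_one, SubgroupClass.coe_pow, OneMemClass.coe_one, ← ha, hψp])⟩
  have hcard : Nat.card ψ.range = Fintype.card F ^ Module.finrank F (core qW f f') := by
    rw [← Nat.card_congr (MonoidHom.ofInjective hψinj).toEquiv, Nat.card_congr Multiplicative.toAdd,
      Module.natCard_eq_pow_finrank (K := F), Nat.card_eq_fintype_card]
  have hncyc : ¬ IsCyclic ψ.range := fun hcyc => by
    obtain ⟨a, ha⟩ := hcyc.exists_generator
    have h1 : Nat.card ψ.range ≤ p := by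
      rw [← orderOf_eq_card_of_forall_mem_zpowers ha]
      exact orderOf_le_of_pow_eq_one (Fact.out (p := p.Prime)).pos (Subtype.ext (by
        obtain ⟨a', ha'⟩ := a.2
        rw [SubgroupClass.coe_pow, OneMemClass.coe_one, ← ha', hψp]))
    obtain ⟨m, -, hm⟩ := FiniteField.card F p
    rw [hcard, hm, ← pow_mul] at h1
    have h2 : 2 ≤ (m : ℕ) * Module.finrank F (core qW f f') := le_trans hdim (Nat.le_mul_of_pos_left _ m.pos)
    have h3 := Nat.pow_le_pow_right (Fact.out (p := p.Prime)).pos h2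
    have h4 := (Fact.out (p := p.Prime)).one_lt
    nlinarith
  have hnorm' : ψ.range ≤ Subgroup.normalizer (K : Set GLkn) := by
    rintro _ ⟨z, rfl⟩
    refine Subgroup.mem_normalizer_iff.2 fun y => ⟨fun hy => hnorm z y hy, fun hy => ?_⟩
    have := hnorm z⁻¹ _ hy
    rw [map_inv, inv_inv] at this
    simpa [mul_assoc] using this
  have hcop : (Nat.card ψ.range).Coprime (Nat.card K) := by
    obtain ⟨m, hm⟩ := IsPGroup.iff_card.1 hRp
    rw [hm]
    exact (((Fact.out (p := p.Prime)).coprime_iff_not_dvd).2 hpK).pow_left m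
  have hKle : K ≤ Cfsg.Geo.kroneckerSubgroup k n F := by
    rw [← Coprime.fixedGen_eq hncyc hnorm' hcop]
    refine iSup₂_le fun a ⟨⟨z, hz⟩, ha1⟩ y hy => ?_
    obtain ⟨hyK, hyc⟩ := Subgroup.mem_inf.1 hy
    have hz1 : z ≠ 1 := fun h => ha1 (by rw [← hz, h, map_one])
    exact hL2' z hz1 y (mem_kOne.1 hyK).1 (by rw [hz]; exact (Subgroup.mem_centralizer_singleton_iff.1 hyc))
  -- the general element
  obtain ⟨c₀, hc₀, hc₀0⟩ := Submodule.exists_mem_ne_zero_of_ne_bot (p := core qW f f')
    (fun h0 => by rw [h0, finrank_bot] at hdim; omega)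
  set z₀ : Multiplicative (core qW f f') := Multiplicative.ofAdd ⟨c₀, hc₀⟩ with hz₀
  have hz₀1 : z₀ ≠ 1 := fun h => hc₀0 (congrArg (fun y => (Multiplicative.toAdd y).1) h)
  set bl : Wv →ₗ[F] Wv := (2 * qU u)⁻¹ • (kap qU u).comp ((Matrix.toLin' (Units.val g)).comp (pureL u)) with hbl
  have hgu : ∀ w, (Units.val g) *ᵥ pure u w = pure u (bl w) := fun w => by
    rw [hbl, LinearMap.smul_apply, LinearMap.comp_apply, LinearMap.comp_apply, pureL_apply, Matrix.toLin'_apply]
    refine hT.fixed S.two ?_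
    rw [← mulVec_mul_GL, ← hc.eq, mulVec_mul_GL, hT.fix_pure]
  have hblQ : ∀ w, qW (bl w) = qW w := fun w => by
    have h := map_M hO hg (pure u w)
    rw [hgu, Q_pure S, Q_pure S] at h
    exact mul_left_cancel₀ (mul_ne_zero S.two hT.ne) h
  have hblB : ∀ w w', bW (bl w) (bl w') = bW w w' := fun w w' => by
    simp only [QuadraticMap.polar, ← map_add, hblQ]
  have hblinj : Function.Injective bl := fun w w' h => ext_bU S.ndW fun v => by
    rw [← hblB w v, h, hblB]
  have hblsurj := LinearMap.injective_iff_surjective.1 hblinj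
  have h1 : qW (bl f) = 0 := by rw [hblQ, hp.hu]
  have h2 : bW (bl f) (bl c₀) = 0 := by rw [hblB]; exact hc₀.1
  set x' := kr (1 : GL (Fin k) F) (eich (bl f) (bl c₀) h1 h2 : GL (Fin n) F) with hx'
  have hx'M : x' ∈ M := right_mem hO (eich_mem _ _ Submodule.mem_top Submodule.mem_top)
  have hx't : Commute x' t := (hT.comm_right _).symm
  have hagree : ∀ w, (Units.val (g * ψ z₀ * g⁻¹)) *ᵥ pure u w = (Units.val x') *ᵥ pure u w := by
    intro w
    obtain ⟨w₀, rfl⟩ := hblsurj w
    rw [← hgu, mulVec_mul_GL, mulVec_mul_GL, inv_mulVec_cancel, hgu, hx', kr_pure, Units.val_one, one_mulVec]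
    simp only [ψ, MonoidHom.mk'_apply, hz₀, toAdd_ofAdd, kr_pure, Units.val_one, one_mulVec, hgu, ← act_apply,
      act_eich, map_sub, map_add, map_smul, hblB, hblQ]
  set κ := g * ψ z₀ * g⁻¹ * x'⁻¹ with hκ
  have hgxM : g * ψ z₀ * g⁻¹ ∈ M := mul_mem (mul_mem hg (hψM _)) (inv_mem hg)
  have hgxt : Commute (g * ψ z₀ * g⁻¹) t := (hc.mul_left (hψt _)).mul_left hc.inv_left
  have hκK : κ ∈ K := by
    refine mem_kOne.2 ⟨mul_mem hgxM (inv_mem hx'M), hgxt.mul_left hx't.inv_left, fun w => ?_⟩
    obtain ⟨w', hw'⟩ : ∃ w', (Units.val x'⁻¹) *ᵥ pure u w = pure u w' :=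
      ⟨_, by rw [hx', kr_inv, inv_one, kr_pure, Units.val_one, one_mulVec]⟩
    rw [hκ, mulVec_mul_GL, hw', hagree, ← hw', mulVec_inv_cancel]
  have hgxk : g * ψ z₀ * g⁻¹ ∈ Cfsg.Geo.kroneckerSubgroup k n F := by
    have h3 := mul_mem (hKle hκK) (kr_mem_kron (1 : GL (Fin k) F) (eich (bl f) (bl c₀) h1 h2 : GL (Fin n) F))
    rwa [hκ, inv_mul_cancel_right] at h3
  exact hL2 z₀ hz₀1 g hg (right_of_comm hO hn4 p hT hgxM hgxk (by
    rw [conj_pow, hψp, mul_one, mul_inv_cancel]) hgxt)

/-! ### Conjugates of the involutions in the stabiliser -/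

omit hO hN in
theorem inv_split {d : ℕ} (A : (Fin d → F) →ₗ[F] (Fin d → F)) (hA : ∀ x, A (A x) = x) (h2 : (2 : F) ≠ 0) :
    Disjoint (LinearMap.ker (A - LinearMap.id)) (LinearMap.ker (A + LinearMap.id)) ∧
    Module.finrank F (LinearMap.ker (A - LinearMap.id)) + Module.finrank F (LinearMap.ker (A + LinearMap.id)) = d := by
  have hdis : Disjoint (LinearMap.ker (A - LinearMap.id)) (LinearMap.ker (A + LinearMap.id)) :=
    Submodule.disjoint_def.2 fun x h1 h3 => by
      simp only [LinearMap.mem_ker, LinearMap.sub_apply, LinearMap.add_apply, LinearMap.id_apply] at h1 h3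
      have : (2 : F) • x = 0 := by linear_combination (norm := module) h3 - h1
      exact (smul_eq_zero.1 this).resolve_left h2
  have htop : LinearMap.ker (A - LinearMap.id) ⊔ LinearMap.ker (A + LinearMap.id) = ⊤ := by
    refine eq_top_iff.2 fun x _ => Submodule.mem_sup.2 ⟨(2 : F)⁻¹ • (x + A x), ?_, (2 : F)⁻¹ • (x - A x), ?_, ?_⟩
    · simp only [LinearMap.mem_ker, LinearMap.sub_apply, LinearMap.id_apply, map_smul, map_add, hA]
      module
    · simp only [LinearMap.mem_ker, LinearMap.add_apply, LinearMap.id_apply, map_smul, map_sub, hA]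
      module
    · match_scalars <;> field_simp <;> ring
  refine ⟨hdis, ?_⟩
  have h := Submodule.finrank_sup_add_finrank_inf_eq (LinearMap.ker (A - LinearMap.id))
    (LinearMap.ker (A + LinearMap.id))
  rw [htop, disjoint_iff.1 hdis, finrank_bot, finrank_top, Module.finrank_fintype_fun_eq_card, Fintype.card_fin,
    add_zero] at h
  exact h.symm

omit hN in
/-- an element whose fixed space has the dimension of the second factor is one of the involutions -/
theorem isT_of_fixed (hn4 : k = 3 ∧ n = 4) {y : GLkn} (hy : y ∈ M) {A : Uv →ₗ[F] Uv} {Bm : Wv →ₗ[F] Wv}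
    (hyp : ∀ v w, (Units.val y) *ᵥ pure v w = pure (A v) (Bm w)) (hA : ∀ v, A (A v) = v)
    (hB : ∀ w, Bm (Bm w) = w) {T : Submodule F Vv} (hT : ∀ x, (Units.val y) *ᵥ x = x ↔ x ∈ T)
    (hT4 : Module.finrank F T = n) (hBne : LinearMap.ker (Bm - LinearMap.id) ≠ ⊥) : ∃ w, IsT qU w y := by
  classical
  have S := hO.setup
  have hk3 : k = 3 := hn4.1
  obtain ⟨hAd, hAs⟩ := inv_split A hA S.two
  obtain ⟨hBd, hBs⟩ := inv_split Bm hB S.two
  set Ap := LinearMap.ker (A - LinearMap.id) with hAp
  set Am := LinearMap.ker (A + LinearMap.id) with hAm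
  set Bp := LinearMap.ker (Bm - LinearMap.id) with hBp
  set Bn := LinearMap.ker (Bm + LinearMap.id) with hBn
  have memp : ∀ {d : ℕ} {L : (Fin d → F) →ₗ[F] (Fin d → F)} {x}, x ∈ LinearMap.ker (L - LinearMap.id) ↔ L x = x :=
    fun {d L x} => by rw [LinearMap.mem_ker, LinearMap.sub_apply, LinearMap.id_apply, sub_eq_zero]
  have memn : ∀ {d : ℕ} {L : (Fin d → F) →ₗ[F] (Fin d → F)} {x}, x ∈ LinearMap.ker (L + LinearMap.id) ↔ L x = -x :=
    fun {d L x} => by rw [LinearMap.mem_ker, LinearMap.add_apply, LinearMap.id_apply, add_eq_zero_iff_eq_neg]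
  let bp := Module.finBasis F Ap
  let bm := Module.finBasis F Am
  let L1 : (Fin (Module.finrank F Ap) → Bp) →ₗ[F] Vv :=
    ∑ i, (pureL (bp i).1).comp (Bp.subtype.comp (LinearMap.proj i))
  let L2 : (Fin (Module.finrank F Am) → Bn) →ₗ[F] Vv :=
    ∑ i, (pureL (bm i).1).comp (Bn.subtype.comp (LinearMap.proj i))
  let Φ := L1.coprod L2
  have hΦ : ∀ x, Φ x = (∑ i, pure (bp i).1 (x.1 i).1) + ∑ i, pure (bm i).1 (x.2 i).1 := fun x => by
    simp only [Φ, L1, L2, LinearMap.coprod_apply, LinearMap.sum_apply, LinearMap.comp_apply, LinearMap.proj_apply,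
      Submodule.subtype_apply, pureL_apply]
  have hΦT : LinearMap.range Φ ≤ T := by
    rintro _ ⟨x, rfl⟩
    rw [hΦ]
    refine Submodule.add_mem _ (Submodule.sum_mem _ fun i _ => (hT _).1 ?_) (Submodule.sum_mem _ fun i _ => (hT _).1 ?_)
    · rw [hyp, memp.1 (bp i).2, memp.1 (x.1 i).2]
    · rw [hyp, memn.1 (bm i).2, memn.1 (x.2 i).2, ← neg_one_smul F (bm i).1, ← neg_one_smul F (x.2 i).1,
        pure_smul_left, pure_smul_right, smul_smul, neg_mul_neg, one_mul, one_smul]
  have hΦinj : Function.Injective Φ := (injective_iff_map_eq_zero Φ).2 fun x hx => by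
    rw [hΦ] at hx
    have hcol : ∀ j, (∑ i, (x.1 i).1 j • (bp i).1) + ∑ i, (x.2 i).1 j • (bm i).1 = 0 := fun j => funext fun r => by
      have h := congrFun hx (r, j)
      simp only [Pi.add_apply, Finset.sum_apply, TensorMax.pure, Pi.smul_apply, smul_eq_mul, Pi.zero_apply,
        mul_comm] at h ⊢
      exact h
    have hz : ∀ j, (∑ i, (x.1 i).1 j • bp i = 0) ∧ ∑ i, (x.2 i).1 j • bm i = 0 := fun j => by
      have hp1 : (∑ i, (x.1 i).1 j • (bp i).1) ∈ Ap := Submodule.sum_mem _ fun i _ => Submodule.smul_mem _ _ (bp i).2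
      have hm1 : (∑ i, (x.2 i).1 j • (bm i).1) ∈ Am := Submodule.sum_mem _ fun i _ => Submodule.smul_mem _ _ (bm i).2
      have h0 : (∑ i, (x.1 i).1 j • (bp i).1) = 0 := Submodule.disjoint_def.1 hAd _ hp1 (by
        rw [eq_neg_of_add_eq_zero_left (hcol j)]
        exact neg_mem hm1)
      refine ⟨Subtype.ext ?_, Subtype.ext ?_⟩
      · rw [Submodule.coe_sum, Submodule.coe_zero, ← h0]
        rfl
      · have h1 := hcol j
        rw [h0, zero_add] at h1
        rw [Submodule.coe_sum, Submodule.coe_zero, ← h1]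
        rfl
    refine Prod.ext (funext fun i => Subtype.ext (funext fun j => ?_)) (funext fun i => Subtype.ext (funext fun j => ?_))
    · exact Fintype.linearIndependent_iff.1 bp.linearIndependent _ (hz j).1 i
    · exact Fintype.linearIndependent_iff.1 bm.linearIndependent _ (hz j).2 i
  have hbound : Module.finrank F Ap * Module.finrank F Bp + Module.finrank F Am * Module.finrank F Bn ≤ n := by
    have h := Submodule.finrank_mono hΦT
    rw [LinearMap.finrank_range_of_inj hΦinj, Module.finrank_prod, Module.finrank_pi_fintype,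
      Module.finrank_pi_fintype, hT4] at h
    simpa using h
  have hBp0 : Module.finrank F Bp ≠ 0 := fun h => hBne (Submodule.finrank_eq_zero.1 h)
  -- the factor `A` is not scalar unless the fixed space is a multiple of three
  have hscal : ∀ ε : F, ε * ε = 1 → (∀ v, A v = ε • v) →
      n = k * Module.finrank F (LinearMap.ker (ε • Bm - LinearMap.id)) := by
    intro ε hε hAε
    have hrow : ∀ x i, TensorMax.row ((Units.val y) *ᵥ x) i = ε • Bm (TensorMax.row x i) := fun x i => by
      let R : Vv →ₗ[F] Wv := LinearMap.funLeft F F fun j => (i, j)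
      show R ((Units.val y) *ᵥ x) = ε • Bm (R x)
      conv_lhs => rw [sum_rows x, mulVec_sum, map_sum]
      conv_rhs => rw [sum_rows x, map_sum, map_sum, Finset.smul_sum]
      refine Finset.sum_congr rfl fun r _ => ?_
      show TensorMax.row ((Units.val y) *ᵥ _) i = ε • Bm (TensorMax.row (TensorMax.pure _ _) i)
      rw [hyp, hAε, row_pure, row_pure, map_smul, Pi.smul_apply, smul_eq_mul, mul_smul]
    have hTeq : T = UT k (LinearMap.ker (ε • Bm - LinearMap.id)) := by
      ext x
      rw [← hT, mem_UT]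
      constructor
      · intro h i
        rw [LinearMap.mem_ker, LinearMap.sub_apply, LinearMap.id_apply, LinearMap.smul_apply, ← hrow, h, sub_self]
      · intro h
        refine TensorMax.ext_row fun i => ?_
        have := h i
        rw [LinearMap.mem_ker, LinearMap.sub_apply, LinearMap.id_apply, LinearMap.smul_apply, sub_eq_zero] at this
        rw [hrow, this]
    have h4 := hT4
    rw [hTeq, finrank_UT] at h4
    exact h4.symm
  have hApos : Module.finrank F Ap ≠ 0 := fun h0 => by
    have hall : ∀ v, A v = (-1 : F) • v := fun v => by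
      have htop : Am = ⊤ := Submodule.eq_top_of_finrank_eq (by
        rw [Module.finrank_fintype_fun_eq_card, Fintype.card_fin]; omega)
      rw [neg_one_smul]
      exact (memn (L := A)).1 (show v ∈ Am by rw [htop]; exact Submodule.mem_top)
    have := (hscal (-1) (by ring) hall).symm.trans hn4.2
    rw [hk3] at this
    omega
  have hBn0 : Module.finrank F Bn = 0 := by
    by_contra h
    have h1 : Module.finrank F Am ≠ 0 := fun h0 => by
      have hall : ∀ v, A v = (1 : F) • v := fun v => by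
        have htop : Ap = ⊤ := Submodule.eq_top_of_finrank_eq (by
          rw [Module.finrank_fintype_fun_eq_card, Fintype.card_fin]; omega)
        rw [one_smul]
        exact (memp (L := A)).1 (show v ∈ Ap by rw [htop]; exact Submodule.mem_top)
      have := (hscal 1 (one_mul 1) hall).symm.trans hn4.2
      rw [hk3] at this
      omega
    nlinarith [Nat.pos_of_ne_zero hBp0, Nat.pos_of_ne_zero hApos, Nat.pos_of_ne_zero h, Nat.pos_of_ne_zero h1]
  have hBid : ∀ w, Bm w = w := fun w => by
    have htop : Bp = ⊤ := Submodule.eq_top_of_finrank_eq (by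
      rw [Module.finrank_fintype_fun_eq_card, Fintype.card_fin]; omega)
    exact (memp (L := Bm)).1 (show w ∈ Bp by rw [htop]; exact Submodule.mem_top)
  have hAp1 : Module.finrank F Ap = 1 := by
    have h4 : Module.finrank F Bp = n := by omega
    rw [h4, hBn0, mul_zero, add_zero] at hbound
    have := Nat.le_of_mul_le_mul_right (hbound.trans (one_mul n).ge) (by omega)
    omega
  obtain ⟨⟨w₀, hw₀⟩, hw₀0, -⟩ := finrank_eq_one_iff'.1 hAp1
  have hw0 : w₀ ≠ 0 := fun h => hw₀0 (Subtype.ext h)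
  obtain ⟨w₁, hw₁⟩ := exists_aniso_vec S.ndW (by omega)
  have hAQ : ∀ v, qU (A v) = qU v := fun v => by
    have h := map_M hO hy (pure v w₁)
    rw [hyp, hBid, Q_pure S, Q_pure S] at h
    exact mul_left_cancel₀ S.two (mul_right_cancel₀ hw₁ h)
  have hAB : ∀ v v', bU (A v) (A v') = bU v v' := fun v v' => by
    simp only [QuadraticMap.polar, ← map_add, hAQ]
  have hspan : ∀ v, A v = v → ∃ c : F, c • w₀ = v := fun v hv => by
    obtain ⟨c, hc⟩ := (finrank_eq_one_iff_of_nonzero' (⟨w₀, hw₀⟩ : Ap) hw₀0).1 hAp1 ⟨v, memp.2 hv⟩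
    exact ⟨c, congrArg Subtype.val hc⟩
  have hAw : A w₀ = w₀ := memp.1 hw₀
  have hQw : qU w₀ ≠ 0 := fun h0 => hw0 (S.ndU.1 w₀ fun v => by
    obtain ⟨c, hc⟩ := hspan (v + A v) (by rw [map_add, hA, add_comm])
    have h1 := congrArg (fun x => bU w₀ x) hc
    have h3 : bU w₀ (A v) = bU w₀ v := by conv_lhs => rw [← hAw, hAB]
    simp only [QuadraticMap.polar_smul_right, QuadraticMap.polar_add_right, polar_self', h0, h3, smul_eq_mul,
      mul_zero] at h1
    exact (mul_eq_zero.1 (show (2 : F) * bU w₀ v = 0 by linear_combination -h1)).resolve_left S.two)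
  refine ⟨w₀, hQw, fun v w => ?_⟩
  obtain ⟨c, hc⟩ := hspan (v + A v) (by rw [map_add, hA, add_comm])
  have h1 := congrArg (fun x => bU x w₀) hc
  have h3 : bU (A v) w₀ = bU v w₀ := by conv_lhs => rw [← hAw, hAB]
  simp only [QuadraticMap.polar_smul_left, QuadraticMap.polar_add_left, polar_self', h3, smul_eq_mul] at h1
  have hcv : c = (qU w₀)⁻¹ * bU v w₀ := by
    have := S.two
    field_simp
    exact mul_left_cancel₀ S.two (by linear_combination h1)
  rw [hyp, hBid, ← hcv, hc, add_sub_cancel_left]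

/-- a conjugate of an involution in the stabiliser is one of them, and the element preserves the
decomposition -/
theorem conj_in_kron (hn4 : k = 3 ∧ n = 4) {u : Uv} {t g : GLkn} (hT : IsT qU u t) (ht : t ∈ M) (hg : g ∈ M)
    (hk : g * t * g⁻¹ ∈ Cfsg.Geo.kroneckerSubgroup k n F) :
    (∃ w, IsT qU w (g * t * g⁻¹)) ∧ g ∈ Cfsg.Geo.kroneckerSubgroup k n F := by
  classical
  have S := hO.setup
  have hk3 : k = 3 := hn4.1
  set y := g * t * g⁻¹ with hy
  have hyM : y ∈ M := mul_mem (mul_mem hg ht) (inv_mem hg)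
  have hyy : y * y = 1 := by rw [hy, conj_mul, hT.sq, mul_one, mul_inv_cancel]
  obtain ⟨a, b, hab⟩ := exists_kr hk
  have hyab : ∀ v w, (Units.val y) *ᵥ pure v w = pure ((Units.val a) *ᵥ v) ((Units.val b) *ᵥ w) := fun v w => by
    rw [hab, kr_pure]
  have hsq : ∀ v w, pure ((Units.val a) *ᵥ ((Units.val a) *ᵥ v)) ((Units.val b) *ᵥ ((Units.val b) *ᵥ w)) =
      pure v w := fun v w => by
    rw [← hyab, ← hyab, ← mulVec_mul_GL, hyy, Units.val_one, one_mulVec]
  obtain ⟨w₁, hw₁⟩ := exists_aniso_vec S.ndW (by omega)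
  have hw0 : w₁ ≠ 0 := fun h => hw₁ (by rw [h, QuadraticMap.map_zero])
  set w₂ := (Units.val b) *ᵥ ((Units.val b) *ᵥ w₁) with hw₂
  have hw20 : w₂ ≠ 0 := fun h => hw0 (mulVec_inj b (mulVec_inj b (by rw [mulVec_zero, mulVec_zero]; exact h)))
  obtain ⟨j, hj⟩ := Function.ne_iff.1 hw20
  set r := w₁ j / w₂ j with hr
  have haa : ∀ v, (Units.val a) *ᵥ ((Units.val a) *ᵥ v) = r • v := fun v => funext fun i => by
    have h := congrFun (hsq v w₁) (i, j)
    rw [Pi.smul_apply, smul_eq_mul, hr]
    simp only [TensorMax.pure] at h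
    have hj' : w₂ j ≠ 0 := hj
    field_simp
    linear_combination h
  have hr0 : r ≠ 0 := fun h0 => hT.ne_zero (mulVec_inj a (mulVec_inj a (by
    rw [haa, h0, zero_smul, mulVec_zero, mulVec_zero])))
  obtain ⟨s, hs0, hs⟩ : ∃ s : F, s ≠ 0 ∧ r = s * s := by
    have h1 : (Units.val a) * (Units.val a) = r • (1 : Matrix (Fin k) (Fin k) F) :=
      Matrix.ext_iff_mulVec.2 fun v => by rw [← mulVec_mulVec, haa, smul_mulVec, one_mulVec]
    have h2 := congrArg Matrix.det h1
    rw [det_mul, det_smul, det_one, mul_one, Fintype.card_fin, show r ^ k = r ^ 3 from congrArg (r ^ ·) hk3] at h2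
    refine ⟨(Units.val a).det / r, ?_, ?_⟩
    · refine div_ne_zero (fun h0 => ?_) hr0
      rw [h0, mul_zero] at h2
      exact pow_ne_zero _ hr0 h2.symm
    · field_simp
      linear_combination -h2
  let A : Uv →ₗ[F] Uv := s⁻¹ • Matrix.toLin' (Units.val a)
  let Bm : Wv →ₗ[F] Wv := s • Matrix.toLin' (Units.val b)
  have hA : ∀ v, A (A v) = v := fun v => by
    simp only [A, LinearMap.smul_apply, map_smul, Matrix.toLin'_apply, haa, smul_smul, hs]
    rw [show s⁻¹ * (s⁻¹ * (s * s)) = 1 by field_simp, one_smul]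
  have hyp : ∀ v w, (Units.val y) *ᵥ pure v w = pure (A v) (Bm w) := fun v w => by
    simp only [A, Bm, LinearMap.smul_apply, Matrix.toLin'_apply, pure_smul_left, pure_smul_right, smul_smul,
      inv_mul_cancel₀ hs0, mul_inv_cancel₀ hs0, one_smul, hyab]
  have hB : ∀ w, Bm (Bm w) = w := fun w => by
    obtain ⟨v₁, hv₁, -⟩ := exists_sing_ne S.ndU S.hk
    refine pure_cancel_right (v := v₁) hv₁ ?_
    conv_lhs => rw [← hA v₁, ← hyp, ← hyp, ← mulVec_mul_GL, hyy, Units.val_one, one_mulVec]
  set T : Submodule F Vv := LinearMap.range ((Matrix.toLin' (Units.val g)).comp (pureL (n := n) u)) with hTdef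
  have hTfix : ∀ x, (Units.val y) *ᵥ x = x ↔ x ∈ T := fun x => by
    constructor
    · intro h
      have h1 : (Units.val t) *ᵥ ((Units.val g⁻¹) *ᵥ x) = (Units.val g⁻¹) *ᵥ x := by
        refine mulVec_inj g ?_
        rw [mulVec_inv_cancel, ← mulVec_mul_GL, ← mulVec_mul_GL]
        exact h
      refine ⟨(2 * qU u)⁻¹ • kap qU u ((Units.val g⁻¹) *ᵥ x), ?_⟩
      rw [LinearMap.comp_apply, pureL_apply, Matrix.toLin'_apply, ← hT.fixed S.two h1, mulVec_inv_cancel]
    · rintro ⟨w, rfl⟩
      rw [LinearMap.comp_apply, pureL_apply, Matrix.toLin'_apply, hy, mulVec_mul_GL, mulVec_mul_GL,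
        inv_mulVec_cancel, hT.fix_pure]
  have hT4 : Module.finrank F T = n := by
    rw [hTdef, LinearMap.finrank_range_of_inj, Module.finrank_fintype_fun_eq_card, Fintype.card_fin]
    intro w w' h
    rw [LinearMap.comp_apply, LinearMap.comp_apply, Matrix.toLin'_apply, Matrix.toLin'_apply, pureL_apply,
      pureL_apply] at h
    exact pure_cancel_right hT.ne_zero (mulVec_inj g h)
  have htype : ∃ w, IsT qU w y := by
    by_cases hB0 : LinearMap.ker (Bm - LinearMap.id) = ⊥
    · refine isT_of_fixed hO hn4 hyM (A := -A) (Bm := -Bm) (fun v w => ?_) (fun v => by simp [hA])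
        (fun w => by simp [hB]) hTfix hT4 fun h0 => ?_
      · rw [hyp, LinearMap.neg_apply, LinearMap.neg_apply, ← neg_one_smul F (A v), ← neg_one_smul F (Bm w),
          pure_smul_left, pure_smul_right, smul_smul, neg_mul_neg, one_mul, one_smul]
      · have hneg : LinearMap.ker (Bm + LinearMap.id) = ⊥ := by
          rw [← h0]
          ext w
          simp only [LinearMap.mem_ker, LinearMap.add_apply, LinearMap.sub_apply, LinearMap.neg_apply,
            LinearMap.id_apply]
          rw [← neg_eq_zero, neg_add']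
        have := (inv_split Bm hB S.two).2
        rw [hB0, hneg, finrank_bot] at this
        omega
    · exact isT_of_fixed hO hn4 hyM hyp hA hB hTfix hT4 hB0
  refine ⟨htype, ?_⟩
  obtain ⟨w, hw⟩ := htype
  obtain ⟨p, hp'⟩ := CharP.exists F
  haveI : Fact p.Prime := ⟨CharP.char_is_prime F p⟩
  obtain ⟨f, f', hp, hf0, haniso, hdim⟩ := exists_rad_group hO hn4
  obtain ⟨z, hz, hz0⟩ := Submodule.exists_mem_ne_zero_of_ne_bot (p := core qW f f')
    (fun h0 => by rw [h0, finrank_bot] at hdim; omega)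
  set e := (eich f z hp.hu (mem_core.1 hz).1 : GL (Fin n) F) with he
  set x := kr (1 : GL (Fin k) F) e with hx
  have hxM : x ∈ M := right_mem hO (eich_mem _ _ Submodule.mem_top Submodule.mem_top)
  have hxp : x ^ p = 1 := by
    have hj : ∀ j : ℕ, ∀ v w', (Units.val (x ^ j)) *ᵥ pure v w' =
        pure v (eichLin qW f ((j : F) • z) w') := by
      intro j
      induction j with
      | zero => intro v w'; simp [eichLin_zero]
      | succ j ih =>
        intro v w'
        rw [pow_succ', mulVec_mul_GL, ih, hx, kr_pure, Units.val_one, one_mulVec, he, ← act_apply, act_eich,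
          Nat.cast_succ, add_smul, one_smul, add_comm ((j : F) • z) z,
          ← eichLin_add hp.hu (mem_core.1 hz).1 (by rw [QuadraticMap.polar_smul_right]; simp [show bW f z = 0 from hz.1])]
        simp only [eichLin_apply]
    refine gl_ext_pure fun v w' => ?_
    rw [hj, CharP.cast_eq_zero, zero_smul, eichLin_zero, Units.val_one, one_mulVec]
  have hgx : Commute (g * x * g⁻¹) y := by
    have := (hT.comm_right e).symm
    show g * x * g⁻¹ * (g * t * g⁻¹) = g * t * g⁻¹ * (g * x * g⁻¹)
    rw [conj_mul, conj_mul, this.eq]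
  have hgxM : g * x * g⁻¹ ∈ M := mul_mem (mul_mem hg hxM) (inv_mem hg)
  obtain ⟨β, hβ⟩ := right_of_comm hO hn4 p hw hgxM (centralizer_le hO hN hn4 hw hgxM hgx)
    (by rw [conj_pow, hxp, mul_one, mul_inv_cancel]) hgx
  exact kron_of_conj_eich hO hN hn4 hg hp hf0 (mem_core.1 hz).1 (fun h => hz0 (haniso z hz h)) hβ

omit hN in
/-- a Kronecker product does not carry one class of vectors to the other -/
theorem not_fused (hn4 : k = 3 ∧ n = 4) {h : GLkn} (hh : h ∈ M) (hhk : h ∈ Cfsg.Geo.kroneckerSubgroup k n F)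
    {v v' : Uv} {t t' : GLkn} (hT : IsT qU v t) (hT' : IsT qU v' t') (hc : h * t * h⁻¹ = t') :
    IsSquare (qU v * qU v') := by
  have S := hO.setup
  have hk3 : k = 3 := hn4.1
  obtain ⟨a, b, rfl⟩ := exists_kr hhk
  obtain ⟨w₁, hw₁⟩ := exists_aniso_vec S.ndW (by omega)
  have hw0 : w₁ ≠ 0 := fun h0 => hw₁ (by rw [h0, QuadraticMap.map_zero])
  have hbw : (Units.val b) *ᵥ w₁ ≠ 0 := fun h0 => hw0 (mulVec_inj b (h0.trans (mulVec_zero _).symm))
  have hfix := hT'.fixed_left S.two hbw (v := (Units.val a) *ᵥ v) (by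
    rw [← kr_pure, ← hc, mulVec_mul_GL, mulVec_mul_GL, inv_mulVec_cancel, hT.fix_pure])
  set s := (2 * qU v')⁻¹ * bU ((Units.val a) *ᵥ v) v' with hs
  have hQ : ∀ x, qU ((Units.val a) *ᵥ x) * qW ((Units.val b) *ᵥ w₁) = qU x * qW w₁ := fun x => by
    have h1 := map_M hO hh (pure x w₁)
    rw [kr_pure, Q_pure S, Q_pure S] at h1
    exact mul_left_cancel₀ S.two (by linear_combination h1)
  have hbQ : qW ((Units.val b) *ᵥ w₁) ≠ 0 := fun h0 => by
    have h1 := hQ v
    rw [h0, mul_zero] at h1
    exact mul_ne_zero hT.ne hw₁ h1.symm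
  set μ := qW w₁ / qW ((Units.val b) *ᵥ w₁) with hμ
  have hμ0 : μ ≠ 0 := div_ne_zero hw₁ hbQ
  have haQ : ∀ x, qU ((Units.val a) *ᵥ x) = μ * qU x := fun x => by
    rw [hμ, div_mul_eq_mul_div, eq_div_iff hbQ, hQ, mul_comm]
  have hμs : IsSquare μ := by
    set G := LinearMap.toMatrix₂' F (polB qU) with hG
    have hc' : (polB qU).compl₁₂ (Matrix.toLin' (Units.val a)) (Matrix.toLin' (Units.val a)) = μ • polB qU := by
      refine LinearMap.ext fun x => LinearMap.ext fun x' => ?_
      simp only [LinearMap.compl₁₂_apply, polB_apply, Matrix.toLin'_apply, LinearMap.smul_apply, smul_eq_mul,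
        QuadraticMap.polar, ← mulVec_add, haQ]
      ring
    have h1 := congrArg (LinearMap.toMatrix₂' F) hc'
    rw [LinearMap.toMatrix₂'_compl₁₂, map_smul, LinearMap.toMatrix'_toLin', ← hG] at h1
    have h2 := congrArg Matrix.det h1
    rw [det_mul, det_mul, det_transpose, det_smul, Fintype.card_fin, show μ ^ k = μ ^ 3 from congrArg (μ ^ ·) hk3] at h2
    have hG0 : G.det ≠ 0 := by
      refine (LinearMap.separatingLeft_toLinearMap₂'_iff_det_ne_zero (M := G)).1 ?_
      rw [hG, Matrix.toLinearMap₂'_toMatrix']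
      exact S.ndU.1
    refine ⟨(Units.val a).det / μ, ?_⟩
    have h3 : (Units.val a).det * (Units.val a).det = μ ^ 3 :=
      mul_right_cancel₀ hG0 (by linear_combination h2)
    field_simp
    linear_combination -h3
  obtain ⟨m, hm⟩ := hμs
  have hm0 : m ≠ 0 := fun h0 => hμ0 (by rw [hm, h0, mul_zero])
  refine ⟨s * qU v' / m, ?_⟩
  have h1 := haQ v
  rw [hfix, Classical.Orth.map_smul', hm] at h1
  field_simp
  linear_combination -(qU v') * h1

/-- an overgroup without central elements preserves the decomposition -/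
theorem le_kron_four (hn4 : k = 3 ∧ n = 4) : M ≤ Cfsg.Geo.kroneckerSubgroup k n F := by
  classical
  intro g hg
  by_contra hgk
  have S := hO.setup
  have hk3 : k = 3 := hn4.1
  obtain ⟨a, b, ha, hb, hbsq⟩ := Spinor.exists_two_classes S.ndU S.two (by rw [Fintype.card_fin]; omega)
  obtain ⟨t₁, ht₁, ht₁k, hT₁⟩ := exists_isT hO hn4 (u := a) (by rw [ha]; exact one_ne_zero)
  obtain ⟨t₂, ht₂, ht₂k, hT₂⟩ := exists_isT hO hn4 hb
  set i := t₁ with hi
  set j := g * t₂ * g⁻¹ with hj
  have hjM : j ∈ M := mul_mem (mul_mem hg ht₂) (inv_mem hg)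
  have hjk : j ∉ Cfsg.Geo.kroneckerSubgroup k n F := fun h => hgk (conj_in_kron hO hN hn4 hT₂ ht₂ hg h).2
  have hii : i * i = 1 := hT₁.sq
  have hiinv : i⁻¹ = i := hT₁.inv
  have hjj : j * j = 1 := by rw [hj, conj_mul, hT₂.sq, mul_one, mul_inv_cancel]
  have hjinv : j⁻¹ = j := inv_eq_of_mul_eq_one_right hjj
  set e := i * j with he
  have heM : e ∈ M := mul_mem ht₁ hjM
  have hije : j = i * e := by rw [he, ← mul_assoc, hii, one_mul]
  have hflip : i * e * i⁻¹ = e⁻¹ := by rw [← hije, he, _root_.mul_inv_rev, hjinv]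
  have hswap : ∀ l : ℕ, i * (e ^ l)⁻¹ = e ^ l * i := fun l => by
    have h1 : i * e ^ l * i⁻¹ = (e ^ l)⁻¹ := by rw [← conj_pow, hflip, inv_pow]
    conv_lhs => rw [← h1]
    rw [hiinv, ← mul_assoc, ← mul_assoc, hii, one_mul]
  rcases Nat.even_or_odd (orderOf e) with ⟨m, hm⟩ | ⟨m, hm⟩
  swap
  · -- the two involutions are conjugate
    set d := e ^ m with hd
    have hdi : d * i * d⁻¹ = j := by
      have h1 : e ^ m * e ^ m = e⁻¹ := by
        rw [← pow_add]
        refine eq_inv_of_mul_eq_one_left ?_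
        rw [← pow_succ, show m + m + 1 = orderOf e by omega, pow_orderOf_eq_one]
      rw [hd, mul_assoc, hswap, ← mul_assoc, h1, he, _root_.mul_inv_rev, hjinv, inv_mul_cancel_right]
    set h := d⁻¹ * g with hh
    have hhM : h ∈ M := mul_mem (inv_mem (pow_mem heM m)) hg
    have hconj : h * t₂ * h⁻¹ = i := by
      rw [hh, _root_.mul_inv_rev, inv_inv]
      calc d⁻¹ * g * t₂ * (g⁻¹ * d) = d⁻¹ * j * d := by rw [hj]; group
        _ = i := by rw [← hdi]; group
    have hhk := (conj_in_kron hO hN hn4 hT₂ ht₂ hhM (by rw [hconj]; exact ht₁k)).2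
    have h3 := not_fused hO hn4 hhM hhk hT₂ hT₁ hconj
    rw [ha, mul_one] at h3
    exact hbsq h3
  · -- a third involution centralises both
    have hm0 : 0 < m := by have := orderOf_pos e; omega
    set z := e ^ m with hz
    have hzM : z ∈ M := pow_mem heM m
    have hzz : z * z = 1 := by rw [hz, ← pow_add, ← hm, pow_orderOf_eq_one]
    have hzinv : z⁻¹ = z := inv_eq_of_mul_eq_one_right hzz
    have hz1 : z ≠ 1 := fun h => by
      have := Nat.le_of_dvd hm0 (orderOf_dvd_of_pow_eq_one h)
      omega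
    have hzi : Commute z i := by
      show z * i = i * z
      rw [hz, ← hswap, ← hz, hzinv]
    have hze : Commute z e := Commute.pow_self e m
    have hzj : Commute z j := by rw [hije]; exact hzi.mul_right hze
    set y := z * i with hy
    have hyM : y ∈ M := mul_mem hzM ht₁
    have hyi : Commute y i := hzi.mul_left (Commute.refl i)
    obtain ⟨u', t', h, hT', ht', hhM, hyh⟩ :
        ∃ u' t' h, IsT qU u' t' ∧ t' ∈ M ∧ h ∈ M ∧ h * t' * h⁻¹ = y := by
      rcases Nat.even_or_odd m with ⟨l, hl⟩ | ⟨l, hl⟩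
      · refine ⟨a, i, e ^ l, hT₁, ht₁, pow_mem heM l, ?_⟩
        rw [hy, hz, hl, pow_add, mul_assoc (e ^ l) i, hswap, ← mul_assoc]
      · refine ⟨b, t₂, e ^ l * i * g, hT₂, ht₂, mul_mem (mul_mem (pow_mem heM l) ht₁) hg, ?_⟩
        have h1 : i * j * i = e * i := by rw [he]
        calc e ^ l * i * g * t₂ * (e ^ l * i * g)⁻¹ = e ^ l * (i * j * i⁻¹) * (e ^ l)⁻¹ := by rw [hj]; group
          _ = e ^ l * e * (i * (e ^ l)⁻¹) := by rw [hiinv, h1]; group
          _ = y := by rw [hswap, hy, hz, hl, ← mul_assoc, ← pow_succ, ← pow_add]; congr 2; omega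
    obtain ⟨w, hw⟩ := (conj_in_kron hO hN hn4 hT' ht' hhM (by
      rw [hyh]; exact centralizer_le hO hN hn4 hT₁ hyM hyi)).1
    rw [hyh] at hw
    obtain ⟨w₁, hw₁⟩ := exists_aniso_vec S.ndW (by omega)
    have hw0 : w₁ ≠ 0 := fun h0 => hw₁ (by rw [h0, QuadraticMap.map_zero])
    -- the two vectors are orthogonal
    have hperp : bU w a = 0 := by
      have hfx : (Units.val y) *ᵥ ((Units.val i) *ᵥ pure w w₁) = (Units.val i) *ᵥ pure w w₁ := by
        rw [← mulVec_mul_GL, hyi.eq, mulVec_mul_GL, hw.fix_pure]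
      rw [hi, hT₁.act] at hfx
      have h1 := hw.fixed_left S.two hw0 hfx
      by_contra hne
      set c := (qU a)⁻¹ * bU w a with hc
      have hc0 : c ≠ 0 := mul_ne_zero (inv_ne_zero hT₁.ne) hne
      set s := (2 * qU w)⁻¹ * bU (c • a - w) w with hs
      have ha' : a = (c⁻¹ * (1 + s)) • w := by
        rw [mul_smul, eq_inv_smul_iff₀ hc0, add_smul, one_smul, ← h1, add_sub_cancel]
      have hs0 : c⁻¹ * (1 + s) ≠ 0 := fun h0 => hT₁.ne_zero (by rw [ha', h0, zero_smul])
      have hyieq : y = i := IsT.eq (ha' ▸ hw.smul hs0) hT₁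
      refine hz1 ?_
      rwa [hy, mul_eq_right] at hyieq
    have haw : bU a w = 0 := by rw [QuadraticMap.polar_comm]; exact hperp
    obtain ⟨u₃, hu₃, hu₃0⟩ := Submodule.exists_mem_ne_zero_of_ne_bot
        (p := LinearMap.ker (polB qU a) ⊓ LinearMap.ker (polB qU w)) fun h0 => by
      have h1 := Orth.finrank_inf_ker S.ndU (LinearMap.ker (polB qU a)) w
      have h2 := Orth.finrank_inf_ker S.ndU ⊤ a
      change Module.finrank F _ ≤ Module.finrank F (LinearMap.ker (polB qU a) ⊓ LinearMap.ker (polB qU w) :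
        Submodule F Uv) + 1 at h1
      rw [h0, finrank_bot] at h1
      rw [finrank_top, Module.finrank_fintype_fun_eq_card, Fintype.card_fin, top_inf_eq] at h2
      change k ≤ Module.finrank F (LinearMap.ker (polB qU a)) + 1 at h2
      omega
    obtain ⟨ha3, hw3⟩ := Submodule.mem_inf.1 hu₃
    change bU a u₃ = 0 at ha3
    change bU w u₃ = 0 at hw3
    have h3a : bU u₃ a = 0 := by rw [QuadraticMap.polar_comm]; exact ha3
    have h3w : bU u₃ w = 0 := by rw [QuadraticMap.polar_comm]; exact hw3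
    have hli : LinearIndependent F ![a, w, u₃] := by
      rw [Fintype.linearIndependent_iff]
      intro c hc'
      simp only [Fin.sum_univ_three, Matrix.cons_val_zero, Matrix.cons_val_one, Matrix.cons_val_two,
        Matrix.head_cons, Matrix.tail_cons] at hc'
      have e1 := congrArg (fun v => bU v a) hc'
      have e2 := congrArg (fun v => bU v w) hc'
      simp only [QuadraticMap.polar_add_left, QuadraticMap.polar_smul_left, polar_self', hperp, haw, h3a, h3w,
        smul_eq_mul, mul_zero, add_zero, zero_add, QuadraticMap.polar_zero_left] at e1 e2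
      have c0 : c 0 = 0 := (mul_eq_zero.1 e1).resolve_right (mul_ne_zero S.two hT₁.ne)
      have c1 : c 1 = 0 := (mul_eq_zero.1 e2).resolve_right (mul_ne_zero S.two hw.ne)
      have c2 : c 2 = 0 := by
        rw [c0, c1, zero_smul, zero_smul, zero_add, zero_add] at hc'
        exact (smul_eq_zero.1 hc').resolve_right hu₃0
      intro l
      fin_cases l <;> assumption
    have htop := hli.span_eq_top_of_card_eq_finrank (by
      rw [Fintype.card_fin, Module.finrank_fintype_fun_eq_card, Fintype.card_fin, hk3])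
    have hQ3 : qU u₃ ≠ 0 := fun h0 => hu₃0 (S.ndU.1 u₃ fun v => by
      have hle : (⊤ : Submodule F Uv) ≤ LinearMap.ker (polB qU u₃) := by
        rw [← htop, Submodule.span_le]
        rintro _ ⟨l, rfl⟩
        fin_cases l
        · exact h3a
        · exact h3w
        · show bU u₃ u₃ = 0
          rw [polar_self', h0, mul_zero]
      exact hle Submodule.mem_top)
    have hzT : IsT qU u₃ z := by
      refine ⟨hQ3, fun v w' => ?_⟩
      obtain ⟨c, hc⟩ := (Submodule.mem_span_range_iff_exists_fun F).1 (htop ▸ Submodule.mem_top (x := v))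
      simp only [Fin.sum_univ_three, Matrix.cons_val_zero, Matrix.cons_val_one, Matrix.cons_val_two,
        Matrix.head_cons, Matrix.tail_cons] at hc
      have hzy : z = y * i := by rw [hy, mul_assoc, hii, mul_one]
      rw [hzy, mulVec_mul_GL, hi, hT₁.act, hw.act, ← hc]
      congr 1
      simp only [QuadraticMap.polar_add_left, QuadraticMap.polar_sub_left, QuadraticMap.polar_smul_left,
        polar_self', hperp, haw, h3a, h3w, ha3, hw3, smul_eq_mul, mul_zero, add_zero, zero_add, sub_zero, zero_sub]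
      have := hT₁.ne
      have := hw.ne
      match_scalars <;> field_simp <;> ring
    exact hjk (centralizer_le hO hN hn4 hzT hjM hzj.symm)

end Cfsg.Agent.Forms.Max.OrthOrth
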