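import Cfsg.Agent.Lib.Forms.Max.OrthOrth.Pairs
import Cfsg.Agent.Lib.Forms.Max.OrthOrth.Four
import Cfsg.Agent.Lib.Forms.Max.Factor
import Cfsg.Agent.Lib.Forms.Max.SubfieldLinear

/-!
# Stabilisers of tensor products of two orthogonal spaces are maximal in `Ω`
-/

set_option autoImplicit false
set_option linter.unusedSectionVars false

namespace Cfsg.Agent.Forms.Max.OrthOrth

open Matrix Cfsg.Agent.Aschbacher Cfsg.Agent.Forms.QuadStd Cfsg.Agent.Forms.Reflections
  Cfsg.Agent.Classical.Orth Cfsg.Agent.Forms.Max.TensorMax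
open scoped Kronecker
open Cfsg.Agent.Forms.Max.TensorRes (kr_mem_kron exists_kr exists_of_small)
open Cfsg.Agent.Forms.Max.TensorRes.Unitary (pure_add_left pure_smul_left pure_add_right pure_smul_right
  pure_zero_left pure_zero_right pure_ne_zero pureR pureR_apply)

variable {F : Type*} [Field F] [Fintype F] {k n : ℕ}
variable {qU : QuadraticForm F (Fin k → F)} {qW : QuadraticForm F (Fin n → F)}
  {Q : QuadraticForm F (Fin k × Fin n → F)}

local notation "B" => QuadraticMap.polar Q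

/-- `Ω` contains an element that is not a Kronecker product -/
theorem not_le_kron (S : Setup qU qW Q) : ¬ Cfsg.Geo.omegaGL ⇑Q ≤ Cfsg.Geo.kroneckerSubgroup k n F :=
    fun hle => by
  classical
  obtain ⟨e, he, hQe⟩ := exists_sing_ne S.ndU S.hk
  obtain ⟨f, hf, hQf⟩ := exists_sing_ne S.ndW (by have := S.hn; omega)
  obtain ⟨f', hp⟩ := exists_pair_of S.ndW hf hQf
  obtain ⟨w, hw, hQw⟩ := exists_aniso_core S.ndW hp (by have := S.hn; omega)
  obtain ⟨e', hpe⟩ := exists_pair_of S.ndU he hQe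
  have hperp : B (pure e f) (pure e w) = 0 := by rw [S.mul, polar_self_zero hQe, zero_mul]
  obtain ⟨g, hg, hgx⟩ := Orth.exists_eichGL S.nd (card_large S) (Q_of_sing_left S hQe f) hperp
  have hmov : Module.finrank F (mov (Units.val g)) ≤ 2 := by
    refine (Submodule.finrank_mono (t := Submodule.span F {pure e f, pure e w}) ?_).trans ?_
    · intro y hy
      obtain ⟨x, rfl⟩ := mem_mov.1 hy
      rw [hgx, eichLin_apply, Q_of_sing_left S hQe w, zero_mul, zero_smul, sub_zero]
      refine Submodule.mem_span_pair.2 ⟨-B x (pure e w), B x (pure e f), ?_⟩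
      module
    · refine (finrank_span_le_card (R := F) ({pure e f, pure e w} : Set (Fin k × Fin n → F))).trans ?_
      rw [Set.toFinset_insert, Set.toFinset_singleton]
      exact Finset.card_le_two
  obtain ⟨a, b, hab⟩ := exists_kr (hle hg)
  obtain ⟨b', hb'⟩ := exists_of_small (by have := S.hk; omega) (a := a) (b := b)
    (by rw [← hab]; have := S.hn; omega)
  have h1 : mov (Units.val g) = UT k (mov (Units.val b')) := by
    rw [hab, hb', kr_coe, Units.val_one, mov_one_kron]
  have h0 : Module.finrank F (mov (Units.val b')) = 0 := by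
    rw [h1, finrank_UT] at hmov
    by_contra h
    have := Nat.le_mul_of_pos_right k (Nat.pos_of_ne_zero h)
    have := S.hk
    omega
  have h2 : (Units.val g) *ᵥ pure e' f' - pure e' f' = 0 := by
    have hm : (Units.val g) *ᵥ pure e' f' - pure e' f' ∈ mov (Units.val g) := mem_mov.2 ⟨_, rfl⟩
    rw [h1] at hm
    refine TensorMax.ext_row fun i => ?_
    have := hm i
    rw [Submodule.finrank_eq_zero.1 h0, Submodule.mem_bot] at this
    exact this
  rw [hgx, eichLin_apply, Q_of_sing_left S hQe w, zero_mul, zero_smul, sub_zero, S.mul, S.mul, hp.hvu, hpe.hvu,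
    QuadraticMap.polar_comm _ f' w] at h2
  have h3 := congrArg (eta qW w) h2
  rw [map_zero] at h3
  simp only [map_sub, map_add, map_smul, eta_pure, hp.huv, (mem_core.1 hw).1, (mem_core.1 hw).2,
    QuadraticMap.polar_comm _ w f', mul_zero, mul_one, one_mul, zero_smul, smul_zero, sub_zero,
    one_smul, add_sub_cancel_left] at h3
  have hne : QuadraticMap.polar qW w w ≠ 0 := by
    rw [polar_self']
    exact mul_ne_zero S.two hQw
  exact smul_ne_zero hne he h3

/-- the stabiliser is maximal in the coordinates of the decomposition -/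
theorem core_maximal (S : Setup qU qW Q) (hkn : k < n) (hn : 4 ≤ n) :
    Cfsg.Geo.IsMaximalIn (Cfsg.Geo.omegaGL ⇑Q)
      (Cfsg.Geo.kroneckerSubgroup k n F ⊓ Cfsg.Geo.omegaGL ⇑Q) := by
  refine isMaximalIn_of inf_le_right (fun h => not_le_kron S fun g hg => (h hg).1) fun M hM hMK g hgM hg => ?_
  have hO : Over qU qW Q M := ⟨S, hMK, hM⟩
  by_cases hN : NoCentral qW M
  · refine absurd ⟨?_, hMK hgM⟩ hg
    by_cases h5 : 5 ≤ n
    · haveI : Fact (k < n ∧ 5 ≤ n) := ⟨hkn, h5⟩
      exact le_kron hO hN hgM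
    · exact le_kron_four hO hN (by have := S.hk; omega) hgM
  · exact omega_le hO hN

/-- half of a symmetric form as a quadratic form -/
theorem exists_quad {d : ℕ} {f : (Fin d → F) → (Fin d → F) → F} (hf : Cfsg.Geo.IsSymmetricForm f)
    (h2 : (2 : F) ≠ 0) {c : F} (hc : c ≠ 0) :
    ∃ q : QuadraticForm F (Fin d → F), (∀ x y, QuadraticMap.polar q x y = c * f x y) ∧
      (∀ x, q x = 2⁻¹ * (c * f x x)) ∧ (QuadraticMap.polarBilin q).Nondegenerate := by
  have har : ∀ v x y, f v (x + y) = f v x + f v y := fun v x y => by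
    rw [hf.symm, hf.bilinear.add_left, hf.symm x, hf.symm y]
  have hsr : ∀ (a : F) v x, f v (a • x) = a * f v x := fun a v x => by
    rw [hf.symm, hf.bilinear.smul_left, hf.symm x]
  let L : (Fin d → F) →ₗ[F] (Fin d → F) →ₗ[F] F :=
    LinearMap.mk₂ F (fun x y => 2⁻¹ * (c * f x y))
      (fun x x' y => by rw [hf.bilinear.add_left]; ring) (fun a x y => by rw [hf.bilinear.smul_left, smul_eq_mul]; ring)
      (fun x y y' => by rw [har]; ring) (fun a x y => by rw [hsr, smul_eq_mul]; ring)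
  have hq : ∀ x, LinearMap.BilinMap.toQuadraticMap L x = 2⁻¹ * (c * f x x) := fun x => rfl
  have hp : ∀ x y, QuadraticMap.polar (LinearMap.BilinMap.toQuadraticMap L) x y = c * f x y := fun x y => by
    simp only [QuadraticMap.polar, hq, hf.bilinear.add_left, har, hf.symm y x]
    field_simp
    ring
  refine ⟨LinearMap.BilinMap.toQuadraticMap L, hp, hq, ⟨fun x hx => ?_, fun y hy => ?_⟩⟩
  · by_contra h0
    obtain ⟨y, hy⟩ := (hf.nondegenerate x h0).2
    exact hy ((mul_eq_zero.1 ((hp x y).symm.trans (hx y))).resolve_left hc)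
  · by_contra h0
    obtain ⟨x, hx⟩ := (hf.nondegenerate y h0).1
    exact hx ((mul_eq_zero.1 ((hp x y).symm.trans (hy x))).resolve_left hc)

/-- stabilisers of tensor products of two orthogonal spaces are maximal, the second factor being of minus
type if it has dimension four -/
theorem orth_tensor_maximal' {ι : Type} [Fintype ι] [DecidableEq ι] (R : QuadraticForm F (ι → F))
    (hR : (QuadraticMap.polarBilin R).Nondegenerate) (h2 : (2 : F) ≠ 0) (hk : 3 ≤ k) (hkn : k < n) (hn : 4 ≤ n)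
    (hex : 5 ≤ Fintype.card F ∨ 4 ≤ k) (e : ι ≃ Fin k × Fin n) (P : GL ι F)
    (f₁ : (Fin k → F) → (Fin k → F) → F) (f₂ : (Fin n → F) → (Fin n → F) → F)
    (hf₁ : Cfsg.Geo.IsSymmetricForm f₁) (hf₂ : Cfsg.Geo.IsSymmetricForm f₂)
    (hminus : k = 4 → ¬ Cfsg.Geo.IsPlusTypeOn (fun v : Fin k → F => f₁ v v) ⊤)
    (hminusW : n = 4 → ¬ Cfsg.Geo.IsPlusTypeOn (fun v : Fin n → F => f₂ v v) ⊤)
    (hT : Cfsg.Geo.IsTensorFormStructure id (QuadraticMap.polar ⇑R) f₁ f₂ e P) :
    Cfsg.Geo.IsMaximalIn (Cfsg.Geo.omegaGL ⇑R)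
      (Cfsg.Geo.tensorProductSubgroup k n e P ⊓ Cfsg.Geo.omegaGL ⇑R) := by
  obtain ⟨κ, hκ0, hval⟩ := hT
  obtain ⟨qU, hpU, hqU, hndU⟩ := exists_quad hf₁ h2 hκ0
  obtain ⟨qW, hpW, hqW, hndW⟩ := exists_quad hf₂ h2 (one_ne_zero (α := F))
  let L : (Fin k × Fin n → F) →ₗ[F] (ι → F) :=
    (Matrix.toLin' (Units.val P)).comp (LinearMap.funLeft F F e)
  have hL : ∀ x, L x = (Units.val P) *ᵥ (x ∘ e) := fun x => rfl
  let Q' : QuadraticForm F (Fin k × Fin n → F) := R.comp L
  have hQ' : ∀ x, Q' x = R ((Units.val P) *ᵥ (x ∘ e)) := fun x => rfl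
  have hcoord : ∀ z, ∃ x, z = (Units.val P) *ᵥ (x ∘ e) := fun z =>
    ⟨((Units.val P⁻¹) *ᵥ z) ∘ e.symm, by
      rw [Function.comp_assoc, Equiv.symm_comp_self, Function.comp_id, mulVec_inv_cancel]⟩
  have hinj : ∀ x, (Units.val P) *ᵥ (x ∘ e) = 0 → x = 0 := fun x hx => by
    funext a
    have h2 := congrFun (mulVec_inj P (hx.trans (mulVec_zero _).symm)) (e.symm a)
    simpa using h2
  have hpol : ∀ x y, QuadraticMap.polar Q' x y = QuadraticMap.polar R (L x) (L y) := fun x y => by
    show R (L (x + y)) - R (L x) - R (L y) = _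
    rw [map_add]; rfl
  have hgram : ∀ {r : ℕ} {f : (Fin r → F) → (Fin r → F) → F}, Cfsg.Geo.IsSymmetricForm f →
      ∀ x y, Cfsg.Geo.formOfGram id (Cfsg.Geo.gramMatrix f) x y = f x y := fun {r f} hf x y =>
    Factor.formOfGram_gram (RingHom.id F) hf.bilinear.add_left hf.bilinear.smul_left
      (fun v x y => by rw [hf.symm, hf.bilinear.add_left, hf.symm x, hf.symm y])
      (fun c v w => by rw [hf.symm, hf.bilinear.smul_left, hf.symm w]; rfl) x y
  have hnd : (QuadraticMap.polarBilin Q').Nondegenerate := by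
    have key : ∀ x, (∀ y, QuadraticMap.polar Q' x y = 0) → x = 0 := fun x hx => hinj x <| hR.1 _ fun z => by
      obtain ⟨y, rfl⟩ := hcoord z
      rw [QuadraticMap.polarBilin_apply_apply]
      exact (hpol x y).symm.trans (hx y)
    exact ⟨fun x hx => key x hx, fun y hy => key y fun x => by
      rw [QuadraticMap.polar_comm]; exact hy x⟩
  have hmul : ∀ u w u' w', QuadraticMap.polar Q' (pure u w) (pure u' w') =
      QuadraticMap.polar qU u u' * QuadraticMap.polar qW w w' := fun u w u' w' => by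
    rw [hpol, hL, hL, hval]
    have h1 := Factor.formOfGram_pure (RingHom.id F) (Cfsg.Geo.gramMatrix f₁) (Cfsg.Geo.gramMatrix f₂) u u' w w'
    change Cfsg.Geo.formOfGram id _ (pure u w) (pure u' w') =
      Cfsg.Geo.formOfGram id _ u u' * Cfsg.Geo.formOfGram id _ w w' at h1
    rw [h1, hgram hf₁, hgram hf₂, hpU, hpW, one_mul, mul_assoc]
  have haniso : k = 4 → ∀ a u, qU a = 0 → qU u = 0 → QuadraticMap.polar qU a u = 0 → a ≠ 0 →
      u ∈ Submodule.span F {a} := by
    intro hk4 a u ha hu hau ha0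
    by_contra hu'
    refine hminus hk4 ⟨Submodule.span F {a, u}, le_top, fun v hv => ?_, ?_⟩
    · obtain ⟨x, y, rfl⟩ := Submodule.mem_span_pair.1 hv
      have h : qU (x • a + y • u) = 0 := by
        simp only [Classical.Orth.map_add', Classical.Orth.map_smul', QuadraticMap.polar_smul_left,
          QuadraticMap.polar_smul_right, ha, hu, hau, smul_eq_mul]
        ring
      rw [hqU] at h
      exact (mul_eq_zero.1 ((mul_eq_zero.1 h).resolve_left (inv_ne_zero h2))).resolve_left hκ0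
    · have hli : LinearIndependent F ![a, u] := LinearIndependent.pair_iff.2 fun x y h => by
        by_cases hy : y = 0
        · subst hy
          rw [zero_smul, add_zero, smul_eq_zero] at h
          exact ⟨h.resolve_right ha0, rfl⟩
        · exact absurd (Submodule.mem_span_singleton.2 ⟨-y⁻¹ * x, by
            rw [mul_smul, neg_smul, eq_neg_of_add_eq_zero_left h, smul_neg, neg_neg, inv_smul_smul₀ hy]⟩) hu'
      have h := finrank_span_eq_card hli
      rw [Matrix.range_cons_cons_empty, Fintype.card_fin] at h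
      rw [h, finrank_top, Module.finrank_fintype_fun_eq_card, Fintype.card_fin, hk4]
  have hanisoW : n = 4 → ∀ a u, qW a = 0 → qW u = 0 → QuadraticMap.polar qW a u = 0 → a ≠ 0 →
      u ∈ Submodule.span F {a} := by
    intro hn4 a u ha hu hau ha0
    by_contra hu'
    refine hminusW hn4 ⟨Submodule.span F {a, u}, le_top, fun v hv => ?_, ?_⟩
    · obtain ⟨x, y, rfl⟩ := Submodule.mem_span_pair.1 hv
      have h : qW (x • a + y • u) = 0 := by
        simp only [Classical.Orth.map_add', Classical.Orth.map_smul', QuadraticMap.polar_smul_left,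
          QuadraticMap.polar_smul_right, ha, hu, hau, smul_eq_mul]
        ring
      rw [hqW, one_mul] at h
      exact (mul_eq_zero.1 h).resolve_left (inv_ne_zero h2)
    · rw [IsLine.finrank_eq (qW := qW) ⟨ha0, hu', ha, hu, hau⟩, finrank_top,
        Module.finrank_fintype_fun_eq_card, Fintype.card_fin, hn4]
  have S : Setup qU qW Q' := ⟨hndU, hndW, hnd, h2, hmul, hk, by omega, hanisoW, hex, haniso⟩
  let φ : GL (Fin k × Fin n) F ≃* GL ι F := (Cfsg.Geo.glReindex e.symm).trans (MulAut.conj P)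
  have hφ : ∀ (g : GL (Fin k × Fin n) F) x,
      (Units.val (φ g)) *ᵥ ((Units.val P) *ᵥ (x ∘ e)) = (Units.val P) *ᵥ (((Units.val g) *ᵥ x) ∘ e) := by
    intro g x
    have h1 : glCoord e P (φ g) = g := by
      apply φ.injective
      exact conj_glReindex_glCoord e P (φ g)
    conv_rhs => rw [← h1]
    exact (glCoord_mulVec e P (φ g) x).symm
  have hiso : ∀ {ι : Type} [Fintype ι] [DecidableEq ι] (S : (ι → F) → F) (g : GL ι F),
      g ∈ Cfsg.isometryGroup F S ↔ ∀ x, S ((Units.val g) *ᵥ x) = S x :=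
    fun S g => ⟨fun h x => h x x, fun h x _ => h x⟩
  have hmapI : (Cfsg.isometryGroup F ⇑Q').map φ.toMonoidHom = Cfsg.isometryGroup F ⇑R := by
    ext g
    constructor
    · rintro ⟨x, hx, rfl⟩
      refine (hiso _ _).2 fun z => ?_
      obtain ⟨a, rfl⟩ := hcoord z
      show R ((Units.val (φ x)) *ᵥ _) = _
      rw [hφ x a]
      exact (hiso _ _).1 hx a
    · intro hg
      refine ⟨φ.symm g, (hiso _ _).2 fun a => ?_, φ.apply_symm_apply g⟩
      rw [hQ', hQ', ← hφ (φ.symm g) a, φ.apply_symm_apply]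
      exact (hiso _ _).1 hg _
  have hΩ : ∀ {ι : Type} [Fintype ι] [DecidableEq ι] (S : (ι → F) → F),
      Cfsg.Geo.omegaGL S = ⁅Cfsg.isometryGroup F S, Cfsg.isometryGroup F S⁆ :=
    fun S => Subgroup.map_subtype_commutator _
  have hmap : (Cfsg.Geo.omegaGL ⇑Q').map φ.toMonoidHom = Cfsg.Geo.omegaGL ⇑R := by
    rw [hΩ, hΩ, Subgroup.map_commutator, hmapI]
  have h := SubfieldLinear.isMaximalIn_map φ (core_maximal S hkn hn)
  rw [Subgroup.map_inf _ _ _ φ.injective, hmap] at h
  convert h using 2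
  rw [Cfsg.Geo.tensorProductSubgroup, Subgroup.map_map]
  rfl

/-- stabilisers of tensor products of two orthogonal spaces are maximal -/
theorem orth_tensor_maximal {ι : Type} [Fintype ι] [DecidableEq ι] (R : QuadraticForm F (ι → F))
    (hR : (QuadraticMap.polarBilin R).Nondegenerate) (h2 : (2 : F) ≠ 0) (hk : 3 ≤ k) (hkn : k < n) (hn : 5 ≤ n)
    (hex : 5 ≤ Fintype.card F ∨ 4 ≤ k) (e : ι ≃ Fin k × Fin n) (P : GL ι F)
    (f₁ : (Fin k → F) → (Fin k → F) → F) (f₂ : (Fin n → F) → (Fin n → F) → F)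
    (hf₁ : Cfsg.Geo.IsSymmetricForm f₁) (hf₂ : Cfsg.Geo.IsSymmetricForm f₂)
    (hminus : k = 4 → ¬ Cfsg.Geo.IsPlusTypeOn (fun v : Fin k → F => f₁ v v) ⊤)
    (hT : Cfsg.Geo.IsTensorFormStructure id (QuadraticMap.polar ⇑R) f₁ f₂ e P) :
    Cfsg.Geo.IsMaximalIn (Cfsg.Geo.omegaGL ⇑R)
      (Cfsg.Geo.tensorProductSubgroup k n e P ⊓ Cfsg.Geo.omegaGL ⇑R) :=
  orth_tensor_maximal' R hR h2 hk hkn (by omega) hex e P f₁ f₂ hf₁ hf₂ hminus
    (fun h => absurd h (by omega)) hT

/-- exchanging the factors -/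
theorem tensorProductSubgroup_swap {ι : Type} [Fintype ι] [DecidableEq ι] (e : ι ≃ Fin k × Fin n) (P : GL ι F) :
    Cfsg.Geo.tensorProductSubgroup k n e P =
      Cfsg.Geo.tensorProductSubgroup n k (e.trans (Equiv.prodComm _ _)) P := by
  have key : ∀ {r s : ℕ} (e : ι ≃ Fin r × Fin s),
      (Cfsg.Geo.kroneckerSubgroup r s F).map (Cfsg.Geo.glReindex e.symm).toMonoidHom ≤
        (Cfsg.Geo.kroneckerSubgroup s r F).map
          (Cfsg.Geo.glReindex (e.trans (Equiv.prodComm _ _)).symm).toMonoidHom := by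
    intro r s e
    rintro _ ⟨g, hg, rfl⟩
    obtain ⟨a, b, rfl⟩ := exists_kr hg
    refine ⟨kr b a, kr_mem_kron b a, Units.ext (Matrix.ext fun i j => ?_)⟩
    show Units.val (kr b a) ((e i).swap) ((e j).swap) = Units.val (kr a b) (e i) (e j)
    rw [kr_coe, kr_coe, Matrix.kroneckerMap_apply, Matrix.kroneckerMap_apply, mul_comm]
    rfl
  unfold Cfsg.Geo.tensorProductSubgroup
  refine congrArg (Subgroup.map _) (le_antisymm (key e) ?_)
  have h := key (e.trans (Equiv.prodComm _ _))
  rwa [show (e.trans (Equiv.prodComm _ _)).trans (Equiv.prodComm _ _) = e from Equiv.ext fun x => Prod.swap_swap _] at h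

/-- exchanging the factors of a tensor structure -/
theorem tensorForm_swap {ι : Type} [Fintype ι] [DecidableEq ι] {f : (ι → F) → (ι → F) → F}
    {f₁ : (Fin k → F) → (Fin k → F) → F} {f₂ : (Fin n → F) → (Fin n → F) → F} {e : ι ≃ Fin k × Fin n}
    {P : GL ι F} (h : Cfsg.Geo.IsTensorFormStructure id f f₁ f₂ e P) :
    Cfsg.Geo.IsTensorFormStructure id f f₂ f₁ (e.trans (Equiv.prodComm _ _)) P := by
  obtain ⟨c, hc, h⟩ := h
  refine ⟨c, hc, fun x y => ?_⟩
  have hx : ∀ z : Fin n × Fin k → F, z ∘ (e.trans (Equiv.prodComm _ _)) = (z ∘ Prod.swap) ∘ e := fun z => rfl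
  rw [hx, hx, h]
  congr 1
  simp only [Cfsg.Geo.formOfGram, Matrix.kroneckerMap_apply]
  rw [← (Equiv.prodComm (Fin k) (Fin n)).sum_comp
    (fun a : Fin n × Fin k => ∑ b, x a * (Cfsg.Geo.gramMatrix f₂ a.1 b.1 * Cfsg.Geo.gramMatrix f₁ a.2 b.2) * id (y b))]
  refine Finset.sum_congr rfl fun a _ => ?_
  rw [← (Equiv.prodComm (Fin k) (Fin n)).sum_comp]
  refine Finset.sum_congr rfl fun b _ => ?_
  simp only [Equiv.prodComm_apply, Function.comp_apply, Prod.fst_swap, Prod.snd_swap]
  ring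

end Cfsg.Agent.Forms.Max.OrthOrth
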