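import Cfsg.Agent.Lib.Forms.Max.OrthOrth.Space
import Cfsg.Agent.Lib.Forms.Max.Tensor.OmegaRadical
import Cfsg.Agent.Lib.Forms.Max.Tensor.UnitaryPairs

/-!
# An orthogonal space that is the tensor product of two orthogonal spaces
-/

set_option autoImplicit false
set_option linter.unusedSectionVars false

namespace Cfsg.Agent.Forms.Max.OrthOrth

open Matrix Cfsg.Agent.Aschbacher Cfsg.Agent.Forms.QuadStd Cfsg.Agent.Forms.Reflections
  Cfsg.Agent.Classical.Orth Cfsg.Agent.Forms.Max.TensorMax
open Cfsg.Agent.Forms.Max.TensorRes (kr_mem_kron exists_kr)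
open Cfsg.Agent.Forms.Max.TensorRes.Unitary (pure_add_left pure_smul_left pure_add_right pure_smul_right
  pure_zero_left pure_zero_right pure_ne_zero pureR pureR_apply)

variable {F : Type*} [Field F] [Fintype F] {k n : ℕ}

/-- the data of a tensor product of two orthogonal spaces -/
structure Setup (qU : QuadraticForm F (Fin k → F)) (qW : QuadraticForm F (Fin n → F))
    (Q : QuadraticForm F (Fin k × Fin n → F)) : Prop where
  ndU : (QuadraticMap.polarBilin qU).Nondegenerate
  ndW : (QuadraticMap.polarBilin qW).Nondegenerate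
  nd : (QuadraticMap.polarBilin Q).Nondegenerate
  two : (2 : F) ≠ 0
  mul : ∀ u w u' w', QuadraticMap.polar Q (pure u w) (pure u' w') =
    QuadraticMap.polar qU u u' * QuadraticMap.polar qW w w'
  hk : 3 ≤ k
  hn : 3 ≤ n
  anisoW : n = 4 → ∀ e u, qW e = 0 → qW u = 0 → QuadraticMap.polar qW e u = 0 → e ≠ 0 →
    u ∈ Submodule.span F {e}
  exU : 5 ≤ Fintype.card F ∨ 4 ≤ k
  aniso : k = 4 → ∀ e u, qU e = 0 → qU u = 0 → QuadraticMap.polar qU e u = 0 → e ≠ 0 →
    u ∈ Submodule.span F {e}

variable {qU : QuadraticForm F (Fin k → F)} {qW : QuadraticForm F (Fin n → F)}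
  {Q : QuadraticForm F (Fin k × Fin n → F)}

local notation "B" => QuadraticMap.polar Q
local notation "bU" => QuadraticMap.polar qU
local notation "bW" => QuadraticMap.polar qW
local notation "Uv" => (Fin k → F)
local notation "Wv" => (Fin n → F)
local notation "Vv" => (Fin k × Fin n → F)
local notation "GLkn" => GL (Fin k × Fin n) F

/-- contraction of the rows with a vector of the second factor -/
noncomputable def eta (qW : QuadraticForm F (Fin n → F)) (w : Fin n → F) :
    (Fin k × Fin n → F) →ₗ[F] (Fin k → F) where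
  toFun x i := QuadraticMap.polar qW (TensorMax.row x i) w
  map_add' x y := funext fun i => QuadraticMap.polar_add_left qW (TensorMax.row x i) (TensorMax.row y i) w
  map_smul' c x := funext fun i => QuadraticMap.polar_smul_left qW c (TensorMax.row x i) w

theorem eta_apply (w : Wv) (x : Vv) (i : Fin k) : eta qW w x i = bW (TensorMax.row x i) w := rfl

theorem eta_pure (w : Wv) (u : Uv) (w' : Wv) : eta qW w (pure u w') = bW w' w • u := funext fun i => by
  rw [eta_apply, row_pure, QuadraticMap.polar_smul_left, Pi.smul_apply, smul_eq_mul, smul_eq_mul, mul_comm]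

theorem eta_zero_iff {w : Wv} {x : Vv} : eta qW w x = 0 ↔ ∀ i, bW (TensorMax.row x i) w = 0 :=
  ⟨fun h i => congrFun h i, fun h => funext h⟩

theorem eta_add (w w' : Wv) (x : Vv) : eta qW (w + w') x = eta qW w x + eta qW w' x :=
  funext fun i => QuadraticMap.polar_add_right qW _ w w'

theorem eta_smul (c : F) (w : Wv) (x : Vv) : eta qW (c • w) x = c • eta qW w x :=
  funext fun i => QuadraticMap.polar_smul_right qW c _ w

/-- the columns -/
def col (x : Fin k × Fin n → F) (j : Fin n) : Fin k → F := fun i => x (i, j)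

theorem col_pure (u : Uv) (w : Wv) (j : Fin n) : col (pure u w) j = w j • u :=
  funext fun i => mul_comm (u i) (w j)

theorem sum_cols (x : Vv) : x = ∑ j, pure (col x j) (Pi.single j 1) := by
  funext ⟨i, r⟩
  rw [Finset.sum_apply, Finset.sum_eq_single r (fun j _ hj => by simp [TensorMax.pure, Pi.single_eq_of_ne' hj]) (by simp)]
  simp [TensorMax.pure, col]

/-- contraction of the columns with a vector of the first factor -/
noncomputable def kap (qU : QuadraticForm F (Fin k → F)) (u : Fin k → F) :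
    (Fin k × Fin n → F) →ₗ[F] (Fin n → F) where
  toFun x j := QuadraticMap.polar qU (col x j) u
  map_add' x y := funext fun j => QuadraticMap.polar_add_left qU (col x j) (col y j) u
  map_smul' c x := funext fun j => QuadraticMap.polar_smul_left qU c (col x j) u

theorem kap_apply (u : Uv) (x : Vv) (j : Fin n) : kap qU u x j = bU (col x j) u := rfl

theorem kap_pure (u u' : Uv) (w : Wv) : kap qU u (pure u' w) = bU u' u • w := funext fun j => by
  rw [kap_apply, col_pure, QuadraticMap.polar_smul_left, Pi.smul_apply, smul_eq_mul, smul_eq_mul, mul_comm]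

/-- tensors are determined by their pairings with pure ones -/
theorem ext_pure {L N : (Fin k × Fin n → F) →ₗ[F] (Fin k × Fin n → F)}
    (h : ∀ u w, L (pure u w) = N (pure u w)) : L = N := LinearMap.ext fun x => by
  rw [sum_rows x, map_sum, map_sum]
  exact Finset.sum_congr rfl fun i _ => h _ _

theorem gl_ext_pure {g g' : GLkn} (h : ∀ u w, (Units.val g) *ᵥ pure u w = (Units.val g') *ᵥ pure u w) :
    g = g' := gl_ext fun x => by
  have := LinearMap.congr_fun (ext_pure (L := Matrix.toLin' (Units.val g)) (N := Matrix.toLin' (Units.val g'))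
    fun u w => by simpa [Matrix.toLin'_apply] using h u w) x
  simpa [Matrix.toLin'_apply] using this

section
variable (S : Setup qU qW Q)
include S

theorem Q_pure (u : Uv) (w : Wv) : Q (pure u w) = 2 * qU u * qW w := by
  have h := polar_self' (Q := Q) (pure u w)
  rw [S.mul, polar_self', polar_self'] at h
  exact mul_left_cancel₀ S.two (by linear_combination -h)

theorem Q_of_sing_left {u : Uv} (hu : qU u = 0) (w : Wv) : Q (pure u w) = 0 := by
  rw [Q_pure S, hu, mul_zero, zero_mul]

theorem Q_of_sing_right (u : Uv) {w : Wv} (hw : qW w = 0) : Q (pure u w) = 0 := by rw [Q_pure S, hw, mul_zero]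

theorem form_pure (x : Vv) (u : Uv) (w : Wv) : B x (pure u w) = bU (eta qW w x) u := by
  have h : (polB Q).flip (pure u w) = ((polB qU).flip u).comp (eta qW w) := by
    refine LinearMap.ext fun y => ?_
    rw [sum_rows y, map_sum, map_sum]
    refine Finset.sum_congr rfl fun i _ => ?_
    show B _ _ = bU _ _
    rw [S.mul, eta_pure, QuadraticMap.polar_smul_left, smul_eq_mul, mul_comm]
  exact LinearMap.congr_fun h x

theorem form_pure' (x : Vv) (u : Uv) (w : Wv) : B x (pure u w) = bW (kap qU u x) w := by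
  have h : (polB Q).flip (pure u w) = ((polB qW).flip w).comp (kap qU u) := by
    refine LinearMap.ext fun y => ?_
    rw [sum_rows y, map_sum, map_sum]
    refine Finset.sum_congr rfl fun i _ => ?_
    show B _ _ = bW _ _
    rw [S.mul, kap_pure, QuadraticMap.polar_smul_left, smul_eq_mul]
  exact LinearMap.congr_fun h x

theorem eq_zero_of_pure {x : Vv} (h : ∀ u w, B x (pure u w) = 0) : x = 0 := by
  refine S.nd.1 x fun y => ?_
  rw [sum_rows y, map_sum]
  exact Finset.sum_eq_zero fun i _ => h _ _

theorem eta_eq_zero {w : Wv} {x : Vv} (h : ∀ u, B x (pure u w) = 0) : eta qW w x = 0 :=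
  S.ndU.1 _ fun u => by rw [QuadraticMap.polarBilin_apply_apply, ← form_pure S]; exact h u

/-- vectors orthogonal to `U ⊗ f^⊥` lie in `U ⊗ f` -/
theorem exists_of_perp {f : Wv} {x : Vv} (h : ∀ u w, bW w f = 0 → B x (pure u w) = 0) :
    ∃ u, x = pure u f := by
  refine exists_pure_of_row fun i => ?_
  by_contra hc
  obtain ⟨w, hwf, hw⟩ := Orth.exists_perp_ne S.ndW hc
  rw [QuadraticMap.polar_comm] at hwf
  exact hw (congrFun (eta_eq_zero S fun u => h u w hwf) i)

/-- an element preserving pairings of pure tensors is an isometry -/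
theorem iso_of_pure {g : GLkn}
    (h : ∀ u w u' w', B ((Units.val g) *ᵥ pure u w) ((Units.val g) *ᵥ pure u' w') = B (pure u w) (pure u' w'))
    (x : Vv) : Q ((Units.val g) *ᵥ x) = Q x := by
  set L := Matrix.toLin' (Units.val g) with hL
  have e : (polB Q).compl₁₂ L L = polB Q := by
    refine LinearMap.ext fun y => LinearMap.ext fun z => ?_
    rw [LinearMap.compl₁₂_apply, sum_rows y, sum_rows z]
    simp only [map_sum, LinearMap.sum_apply]
    exact Finset.sum_congr rfl fun j _ => Finset.sum_congr rfl fun i _ => by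
      simp only [polB_apply, hL, Matrix.toLin'_apply]
      exact h _ _ _ _
  have e2 := LinearMap.congr_fun (LinearMap.congr_fun e x) x
  rw [LinearMap.compl₁₂_apply, polB_apply, polB_apply, polar_self', polar_self', hL, Matrix.toLin'_apply] at e2
  exact mul_left_cancel₀ S.two e2

theorem kr_iso {a : GL (Fin k) F} {b : GL (Fin n) F} {μ ν : F} (hμν : μ * ν = 1)
    (ha : ∀ u u', bU ((Units.val a) *ᵥ u) ((Units.val a) *ᵥ u') = μ * bU u u')
    (hb : ∀ w w', bW ((Units.val b) *ᵥ w) ((Units.val b) *ᵥ w') = ν * bW w w') (x : Vv) :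
    Q ((Units.val (kr a b)) *ᵥ x) = Q x :=
  iso_of_pure S (fun u w u' w' => by
    rw [kr_pure, kr_pure, S.mul, S.mul, ha, hb]
    linear_combination (bU u u' * bW w w') * hμν) x

theorem card_large : 9 ≤ Fintype.card (Fin k × Fin n) := by
  rw [Fintype.card_prod, Fintype.card_fin, Fintype.card_fin]
  have := Nat.mul_le_mul S.hk S.hn
  omega

theorem rgt_eich_omega {f w : Wv} (hf : qW f = 0) (hfw : bW f w = 0) :
    kr (1 : GL (Fin k) F) (eich f w hf hfw : GL (Fin n) F) ∈ Cfsg.Geo.omegaGL ⇑Q := by
  refine Orth.omega_of_radical S.nd (card_large S) (X := LinearMap.range (pureR (k := k) f)) ?_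
    (kr_iso S (one_mul 1) (fun u u' => by rw [Units.val_one, one_mulVec, one_mulVec, one_mul])
      fun a a' => by rw [one_mul]; exact iso_polar qW (eich f w hf hfw) a a') ?_ ?_
  · rintro _ ⟨u, rfl⟩; exact Q_of_sing_right S u hf
  · rintro _ ⟨u, rfl⟩
    rw [pureR_apply, kr_pure, Units.val_one, one_mulVec, ← act_apply, act_eich_self]
  · intro z hz
    have h0 : eta qW f z = 0 := eta_eq_zero S fun u => hz _ ⟨u, rfl⟩
    refine ⟨-eta qW w z, TensorMax.ext_row fun i => ?_⟩
    show TensorMax.row (pure (-eta qW w z) f) i =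
      TensorMax.row ((Units.val (kr 1 (eich f w hf hfw : GL (Fin n) F))) *ᵥ z) i - TensorMax.row z i
    rw [row_pure, kr_coe, Units.val_one, row_one_kron, ← act_apply, act_eich, eta_zero_iff.1 h0 i, Pi.neg_apply,
      eta_apply]
    module

theorem lft_eich_omega {e v : Uv} (he : qU e = 0) (hev : bU e v = 0) :
    kr (eich e v he hev : GL (Fin k) F) (1 : GL (Fin n) F) ∈ Cfsg.Geo.omegaGL ⇑Q := by
  refine Orth.omega_of_radical S.nd (card_large S) (X := LinearMap.range (pureL (n := n) e)) ?_
    (kr_iso S (one_mul 1) (fun a a' => by rw [one_mul]; exact iso_polar qU (eich e v he hev) a a')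
      fun w w' => by rw [Units.val_one, one_mulVec, one_mulVec, one_mul]) ?_ ?_
  · rintro _ ⟨w, rfl⟩; exact Q_of_sing_left S he w
  · rintro _ ⟨w, rfl⟩
    rw [pureL_apply, kr_pure, Units.val_one, one_mulVec, ← act_apply, act_eich_self]
  · intro z hz
    have h0 : kap qU e z = 0 := S.ndW.1 _ fun w => by
      rw [QuadraticMap.polarBilin_apply_apply, ← form_pure' S]; exact hz _ ⟨w, rfl⟩
    have hcol : ∀ j, bU (col z j) e = 0 := fun j => congrFun h0 j
    have e' : (Units.val (kr (eich e v he hev : GL (Fin k) F) (1 : GL (Fin n) F))) *ᵥ z - z =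
        ∑ j, (-bU (col z j) v) • pure e (Pi.single j 1) := by
      conv_lhs => rw [sum_cols z, mulVec_sum, ← Finset.sum_sub_distrib]
      refine Finset.sum_congr rfl fun j _ => ?_
      rw [kr_pure, ← act_apply, act_eich, hcol j, Units.val_one, one_mulVec,
        show col z j + (0 : F) • v - bU (col z j) v • e - (qU v * 0) • e = col z j + (-bU (col z j) v) • e by module,
        pure_add_left, pure_smul_left, add_sub_cancel_left]
    rw [e']
    exact Submodule.sum_mem _ fun j _ => Submodule.smul_mem _ _ ⟨_, pureL_apply _ _⟩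

end

/-- the stabiliser of the decomposition in `Ω` -/
def tStab (Q : QuadraticForm F (Fin k × Fin n → F)) : Subgroup (GL (Fin k × Fin n) F) :=
  Cfsg.Geo.kroneckerSubgroup k n F ⊓ Cfsg.Geo.omegaGL ⇑Q

/-- an overgroup -/
structure Over (qU : QuadraticForm F (Fin k → F)) (qW : QuadraticForm F (Fin n → F))
    (Q : QuadraticForm F (Fin k × Fin n → F)) (M : Subgroup (GL (Fin k × Fin n) F)) : Prop where
  setup : Setup qU qW Q
  le : M ≤ Cfsg.Geo.omegaGL ⇑Q
  ge : tStab Q ≤ M

variable {M : Subgroup (GL (Fin k × Fin n) F)} (hO : Over qU qW Q M)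
include hO

theorem left_mem {a : Cfsg.isometryGroup F ⇑qU} (ha : a ∈ eGroup qU ⊤) :
    kr (a : GL (Fin k) F) (1 : GL (Fin n) F) ∈ M := by
  let φ : Cfsg.isometryGroup F ⇑qU →* GLkn :=
    MonoidHom.mk' (fun a => kr (a : GL (Fin k) F) (1 : GL (Fin n) F)) fun a a' => by
      rw [Subgroup.coe_mul, kr_mul, one_mul]
  suffices h : eGroup qU ⊤ ≤ M.comap φ from h ha
  refine (Subgroup.closure_le _).2 ?_
  rintro _ ⟨u, w, hu, huw, -, -, rfl⟩
  exact hO.ge ⟨kr_mem_kron _ _, lft_eich_omega hO.setup hu huw⟩

theorem right_mem {b : Cfsg.isometryGroup F ⇑qW} (hb : b ∈ eGroup qW ⊤) :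
    kr (1 : GL (Fin k) F) (b : GL (Fin n) F) ∈ M := by
  let φ : Cfsg.isometryGroup F ⇑qW →* GLkn :=
    MonoidHom.mk' (fun b => kr (1 : GL (Fin k) F) (b : GL (Fin n) F)) fun b b' => by
      rw [Subgroup.coe_mul, kr_mul, one_mul]
  suffices h : eGroup qW ⊤ ≤ M.comap φ from h hb
  refine (Subgroup.closure_le _).2 ?_
  rintro _ ⟨u, w, hu, huw, -, -, rfl⟩
  exact hO.ge ⟨kr_mem_kron _ _, rgt_eich_omega hO.setup hu huw⟩

theorem map_M {g : GLkn} (hg : g ∈ M) (x : Vv) : Q ((Units.val g) *ᵥ x) = Q x :=
  Orth.omegaGL_map (hO.le hg) x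

theorem polar_M {g : GLkn} (hg : g ∈ M) (x y : Vv) : B ((Units.val g) *ᵥ x) ((Units.val g) *ᵥ y) = B x y :=
  Orth.omegaGL_polar (hO.le hg) x y

end Cfsg.Agent.Forms.Max.OrthOrth
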