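import Cfsg.Agent.Lib.Forms.Max.OrthOrth.Basic

/-!
# Central elements of the radical of `U ⊗ f` in an overgroup

The endomorphisms `K` of the central elements form a group invariant under `Ω(U)`.  Since the adjoint
action of an Eichler transformation on skew maps has degree two, such a group contains with `K` all
multiples of its derivatives, and hence, unless it is trivial, all maps `e ∧ y` with `e` singular.
-/

set_option autoImplicit false
set_option linter.unusedSectionVars false

namespace Cfsg.Agent.Forms.Max.OrthOrth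

open Matrix Cfsg.Agent.Aschbacher Cfsg.Agent.Forms.QuadStd Cfsg.Agent.Forms.Reflections
  Cfsg.Agent.Classical.Orth Cfsg.Agent.Forms.Max.TensorMax
open Cfsg.Agent.Forms.Max.Orth (exists_partner_in)
open Cfsg.Agent.Forms.Max.TensorRes.Unitary (pure_add_left pure_smul_left pure_add_right pure_smul_right
  pure_zero_left pure_zero_right pure_ne_zero pureR pureR_apply)

variable {F : Type*} [Field F] [Fintype F] {k n : ℕ}
variable {qU : QuadraticForm F (Fin k → F)} {qW : QuadraticForm F (Fin n → F)}
  {Q : QuadraticForm F (Fin k × Fin n → F)} {M : Subgroup (GL (Fin k × Fin n) F)}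

local notation "B" => QuadraticMap.polar Q
local notation "bU" => QuadraticMap.polar qU
local notation "bW" => QuadraticMap.polar qW
local notation "Uv" => (Fin k → F)
local notation "Wv" => (Fin n → F)
local notation "EndU" => ((Fin k → F) →ₗ[F] (Fin k → F))

/-- the skew map of two vectors -/
noncomputable def wedge (q : QuadraticForm F (Fin k → F)) (a c : Fin k → F) :
    (Fin k → F) →ₗ[F] (Fin k → F) :=
  (polB q c).smulRight a - (polB q a).smulRight c

theorem wedge_apply (a c x : Uv) : wedge qU a c x = bU x c • a - bU x a • c := by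
  simp [wedge, polB_apply, QuadraticMap.polar_comm _ x]

theorem wedge_add_right (a c c' : Uv) : wedge qU a (c + c') = wedge qU a c + wedge qU a c' :=
  LinearMap.ext fun x => by
    simp only [LinearMap.add_apply, wedge_apply, QuadraticMap.polar_add_right]
    module

theorem wedge_smul_right (t : F) (a c : Uv) : wedge qU a (t • c) = t • wedge qU a c :=
  LinearMap.ext fun x => by
    simp only [LinearMap.smul_apply, wedge_apply, QuadraticMap.polar_smul_right, smul_eq_mul]
    module

theorem wedge_self (a : Uv) : wedge qU a a = 0 :=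
  LinearMap.ext fun x => by simp [wedge_apply]

/-- the derivative of conjugation by the Eichler transformations of `e`, `v` -/
noncomputable def deriv (q : QuadraticForm F (Fin k → F)) (e v : Fin k → F)
    (K : (Fin k → F) →ₗ[F] (Fin k → F)) : (Fin k → F) →ₗ[F] (Fin k → F) :=
  wedge q e (K v) + wedge q (K e) v

theorem deriv_smul (t : F) (e v : Uv) (K : EndU) : deriv qU e (t • v) K = t • deriv qU e v K := by
  rw [deriv, deriv, map_smul, wedge_smul_right, wedge_smul_right, smul_add]

/-- endomorphisms of central elements -/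
def InK (qW : QuadraticForm F (Fin n → F)) (M : Subgroup (GL (Fin k × Fin n) F)) (f : Fin n → F)
    (K : (Fin k → F) →ₗ[F] (Fin k → F)) : Prop :=
  ∃ c ∈ M, ∀ u w, (Units.val c) *ᵥ pure u w = pure u w + QuadraticMap.polar qW w f • pure (K u) f

/-- all multiples occur -/
def InL (qW : QuadraticForm F (Fin n → F)) (M : Subgroup (GL (Fin k × Fin n) F)) (f : Fin n → F)
    (K : (Fin k → F) →ₗ[F] (Fin k → F)) : Prop :=
  ∀ t : F, InK qW M f (t • K)

/-- moving the second factor -/
theorem InK.map_right (hO : Over qU qW Q M) {b : Cfsg.isometryGroup F ⇑qW} (hb : b ∈ eGroup qW ⊤) {f : Wv}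
    {K : EndU} (hK : InK qW M f K) : InK qW M (act b f) K := by
  obtain ⟨c, hc, hcK⟩ := hK
  have hm := right_mem hO hb
  refine ⟨kr 1 (b : GL (Fin n) F) * c * (kr 1 (b : GL (Fin n) F))⁻¹, mul_mem (mul_mem hm hc) (inv_mem hm),
    fun u w => ?_⟩
  have e : bW ((Units.val (b : GL (Fin n) F)⁻¹) *ᵥ w) f = bW w (act b f) := by
    rw [act_apply, ← iso_polar qW b, mulVec_inv_cancel]
  simp only [kr_inv, inv_one, mulVec_mul_GL, kr_pure, hcK, mulVec_add, mulVec_smul, e, mulVec_inv_cancel,
    Units.val_one, one_mulVec, act_apply]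

theorem InK.of_smul {a : F} {f : Wv} {K : EndU} (hK : InK qW M (a • f) K) : InK qW M f ((a * a) • K) := by
  obtain ⟨c, hc, hcK⟩ := hK
  refine ⟨c, hc, fun u w => ?_⟩
  rw [hcK, QuadraticMap.polar_smul_right, pure_smul_right, smul_smul, smul_eq_mul, LinearMap.smul_apply,
    pure_smul_left, smul_smul]
  ring_nf

variable {f : Fin n → F} (hO : Over qU qW Q M) (hf : qW f = 0)
include hO hf

theorem InK.add {K L : EndU} (hK : InK qW M f K) (hL : InK qW M f L) : InK qW M f (K + L) := by
  obtain ⟨c, hc, hcK⟩ := hK
  obtain ⟨d, hd, hdL⟩ := hL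
  refine ⟨d * c, mul_mem hd hc, fun u w => ?_⟩
  rw [mulVec_mul_GL, hcK, mulVec_add, mulVec_smul, hdL, hdL, polar_self_zero hf, zero_smul, add_zero,
    LinearMap.add_apply, pure_add_left, smul_add]
  abel

theorem InK.neg {K : EndU} (hK : InK qW M f K) : InK qW M f (-K) := by
  obtain ⟨c, hc, hcK⟩ := hK
  refine ⟨c⁻¹, inv_mem hc, fun u w => mulVec_inj c ?_⟩
  rw [mulVec_inv_cancel, mulVec_add, mulVec_smul, hcK, hcK, polar_self_zero hf, zero_smul, add_zero,
    LinearMap.neg_apply, ← neg_one_smul F (K u), pure_smul_left]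
  module

theorem InK.sub {K L : EndU} (hK : InK qW M f K) (hL : InK qW M f L) : InK qW M f (K - L) := by
  rw [sub_eq_add_neg]; exact hK.add hO hf (hL.neg hO hf)

theorem InK.nsmul {K : EndU} (hK : InK qW M f K) (m : ℕ) : InK qW M f (m • K) := by
  induction m with
  | zero =>
    refine ⟨1, one_mem M, fun u w => ?_⟩
    rw [zero_nsmul, LinearMap.zero_apply, pure_zero_left, smul_zero, add_zero, Units.val_one, one_mulVec]
  | succ m ih => rw [succ_nsmul]; exact ih.add hO hf hK

theorem InK.half {K : EndU} (hK : InK qW M f ((2 : F) • K)) : InK qW M f K := by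
  obtain ⟨p, hp⟩ := CharP.exists F
  have hprime := (CharP.char_is_prime_or_zero F p).resolve_right (CharP.char_ne_zero_of_finite F p)
  have hp2 : p ≠ 2 := by
    rintro rfl
    exact hO.setup.two (CharP.cast_eq_zero F 2)
  obtain ⟨j, hj⟩ := hprime.odd_of_ne_two hp2
  have hm : ((j + 1 : ℕ) : F) * 2 = 1 := by
    have h0 : ((2 * j + 1 : ℕ) : F) = 0 := hj ▸ CharP.cast_eq_zero F p
    push_cast at h0 ⊢
    linear_combination h0
  have := hK.nsmul hO hf (j + 1)
  rwa [← Nat.cast_smul_eq_nsmul F, smul_smul, hm, one_smul] at this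

theorem InK.skew {K : EndU} (hK : InK qW M f K) (hf0 : f ≠ 0) (u v : Uv) : bU (K u) v = - bU u (K v) := by
  obtain ⟨f', hp⟩ := exists_pair_of hO.setup.ndW hf0 hf
  obtain ⟨c, hc, hcK⟩ := hK
  have h := polar_M hO hc (pure u f') (pure v f')
  rw [hcK, hcK, hp.hvu, one_smul, one_smul] at h
  simp only [QuadraticMap.polar_add_left, QuadraticMap.polar_add_right, hO.setup.mul, polar_self_zero hf, hp.hvu,
    hp.huv, mul_zero, mul_one, add_zero] at h
  linear_combination h

theorem InK.conj {K K' : EndU} (hK : InK qW M f K) {a : Cfsg.isometryGroup F ⇑qU} (ha : a ∈ eGroup qU ⊤)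
    (h : ∀ u, K' (act a u) = act a (K u)) : InK qW M f K' := by
  obtain ⟨c, hc, hcK⟩ := hK
  have hm := left_mem hO ha
  refine ⟨kr (a : GL (Fin k) F) 1 * c * (kr (a : GL (Fin k) F) 1)⁻¹, mul_mem (mul_mem hm hc) (inv_mem hm),
    fun u w => ?_⟩
  have e : (Units.val (a : GL (Fin k) F)) *ᵥ K ((Units.val (a : GL (Fin k) F)⁻¹) *ᵥ u) = K' u := by
    rw [← act_apply, ← h, act_apply, mulVec_inv_cancel]
  simp only [kr_inv, inv_one, mulVec_mul_GL, kr_pure, hcK, mulVec_add, mulVec_smul, mulVec_inv_cancel,
    Units.val_one, one_mulVec, e]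

/-- derivatives occur with all multiples -/
theorem InK.deriv {K : EndU} (hK : InK qW M f K) (hf0 : f ≠ 0) {e v : Uv} (he : qU e = 0) (hev : bU e v = 0) :
    InL qW M f (deriv qU e v K) := by
  suffices h : ∀ v, bU e v = 0 → InK qW M f (OrthOrth.deriv qU e v K) by
    intro t
    rw [← deriv_smul]
    exact h _ (by rw [QuadraticMap.polar_smul_right, hev, smul_zero])
  intro v hev
  have hev' : bU e (-v) = 0 := by rw [QuadraticMap.polar_neg_right, hev, neg_zero]
  have hA : ∀ x, act (eich e v he hev) (act (eich e (-v) he hev') x) = x := fun x => by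
    rw [← act_mul, eich_mul, eich_congr (add_neg_cancel v), eich_zero_right, act_one]
  have hA' : ∀ x, act (eich e (-v) he hev') (act (eich e v he hev) x) = x := fun x => by
    rw [← act_mul, eich_mul, eich_congr (neg_add_cancel v), eich_zero_right, act_one]
  have h1 : InK qW M f ((act (eich e v he hev)).comp (K.comp (act (eich e (-v) he hev')))) :=
    hK.conj hO hf (eich_mem _ _ (Submodule.mem_top) Submodule.mem_top) fun u => by
      rw [LinearMap.comp_apply, LinearMap.comp_apply, hA']
  have h2 : InK qW M f ((act (eich e (-v) he hev')).comp (K.comp (act (eich e v he hev)))) :=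
    hK.conj hO hf (eich_mem _ _ (Submodule.mem_top) Submodule.mem_top) fun u => by
      rw [LinearMap.comp_apply, LinearMap.comp_apply, hA]
  have hs := fun a c => InK.skew hO hf hK hf0 a c
  have hKe : bU (K e) e = 0 := by
    have := hs e e
    rw [QuadraticMap.polar_comm _ e (K e)] at this
    exact mul_left_cancel₀ hO.setup.two (by linear_combination this)
  have hKv : bU (K v) v = 0 := by
    have := hs v v
    rw [QuadraticMap.polar_comm _ v (K v)] at this
    exact mul_left_cancel₀ hO.setup.two (by linear_combination this)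
  refine InK.half hO hf ?_
  convert h1.sub hO hf h2 using 1
  refine LinearMap.ext fun x => ?_
  simp only [LinearMap.smul_apply, LinearMap.sub_apply, LinearMap.add_apply, LinearMap.comp_apply, OrthOrth.deriv,
    wedge_apply, act_eich, QuadraticMap.map_neg, map_add, map_sub, map_smul, map_neg,
    QuadraticMap.polar_add_left, QuadraticMap.polar_sub_left, QuadraticMap.polar_smul_left,
    QuadraticMap.polar_neg_right, QuadraticMap.polar_neg_left, hKe, hKv, smul_eq_mul, hs x e, hs x v, hs v e,
    QuadraticMap.polar_comm _ v (K e)]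
  module

/-- a wedge with a singular vector occurs -/
theorem exists_wedge {K : EndU} (hK : InK qW M f K) (hf0 : f ≠ 0) (hK0 : K ≠ 0) :
    ∃ e x : Uv, e ≠ 0 ∧ qU e = 0 ∧ bU e x = 0 ∧ x ∉ Submodule.span F {e} ∧ InL qW M f (wedge qU e x) := by
  have S := hO.setup
  have hs := fun a c => InK.skew hO hf hK hf0 a c
  have hss : ∀ a, bU (K a) a = 0 := fun a => by
    have := hs a a
    rw [QuadraticMap.polar_comm _ a (K a)] at this
    exact mul_left_cancel₀ S.two (by linear_combination this)
  obtain ⟨e, he, hQe, hKe⟩ : ∃ e, e ≠ 0 ∧ qU e = 0 ∧ K e ∉ Submodule.span F {e} := by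
    by_contra hc
    push Not at hc
    refine hK0 (LinearMap.ext fun x => LinearMap.mem_ker.1 (eq_top_of_sing S.ndU S.hk (fun e hQe => ?_) x))
    rw [LinearMap.mem_ker]
    by_cases he : e = 0
    · rw [he, map_zero]
    obtain ⟨e', hp⟩ := exists_pair_of S.ndU he hQe
    obtain ⟨z, hz, hQz⟩ := exists_aniso_core S.ndU hp S.hk
    obtain ⟨l, hl⟩ := Submodule.mem_span_singleton.1 (hc e he hQe)
    have hval : ∀ s, qU s = 0 → bU e s = 1 → K s = (-l) • s := fun s hQs hes => by
      have hs0 : s ≠ 0 := fun h => by rw [h, QuadraticMap.polar_zero_right] at hes; exact zero_ne_one hes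
      obtain ⟨m, hm⟩ := Submodule.mem_span_singleton.1 (hc s hs0 hQs)
      have h1 := hs e s
      rw [← hl, ← hm, QuadraticMap.polar_smul_left, QuadraticMap.polar_smul_right, hes, smul_eq_mul, smul_eq_mul,
        mul_one, mul_one] at h1
      rw [← hm, h1, neg_neg]
    have hsing : ∀ y ∈ core qU e e', qU (e' + y - qU y • e) = 0 ∧ bU e (e' + y - qU y • e) = 1 := fun y hy => by
      refine ⟨?_, ?_⟩
      · simp only [Classical.Orth.map_sub', Classical.Orth.map_add', Classical.Orth.map_smul',
          QuadraticMap.polar_smul_right, QuadraticMap.polar_add_left, hp.hu, hp.hv, hp.hvu,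
          QuadraticMap.polar_comm _ y e, (mem_core.1 hy).1, (mem_core.1 hy).2, smul_eq_mul]
        ring
      · rw [QuadraticMap.polar_sub_right, QuadraticMap.polar_add_right, QuadraticMap.polar_smul_right, hp.huv,
          (mem_core.1 hy).1, polar_self_zero hQe]
        simp
    have h1 := hval _ (hsing z hz).1 (hsing z hz).2
    have h2 := hval _ (hsing (-z) (neg_mem hz)).1 (hsing (-z) (neg_mem hz)).2
    rw [QuadraticMap.map_neg] at h2
    have h3 : K z = (-l) • z := smul_right_injective Uv S.two (show (2 : F) • K z = (2 : F) • ((-l) • z) by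
      have h4 := congrArg₂ (· - ·) h1 h2
      simp only [map_add, map_sub, map_neg] at h4
      linear_combination (norm := module) h4)
    have h5 := hss z
    rw [h3, QuadraticMap.polar_smul_left, polar_self', smul_eq_mul, mul_eq_zero, neg_eq_zero] at h5
    rw [← hl, h5.resolve_right (mul_ne_zero S.two hQz), zero_smul]
  set x := K e with hx
  have hex : bU e x = 0 := by rw [QuadraticMap.polar_comm]; exact hss e
  refine ⟨e, x, he, hQe, hex, hKe, ?_⟩
  have key : ∀ v, bU e v = 0 →
      InL qW M f ((bU v v - 0) • wedge qU e x - (2 * bU v x) • wedge qU e v) := by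
    intro v hv
    have h1 : InK qW M f (deriv qU e v K) := by
      have := InK.deriv hO hf hK hf0 hQe hv 1
      rwa [one_smul] at this
    have h2 := InK.deriv hO hf h1 hf0 hQe hv
    convert h2 using 1
    refine LinearMap.ext fun y => ?_
    simp only [LinearMap.smul_apply, LinearMap.sub_apply, LinearMap.add_apply, OrthOrth.deriv, wedge_apply, ← hx,
      map_add, map_sub, map_smul, QuadraticMap.polar_add_left, QuadraticMap.polar_sub_left,
      QuadraticMap.polar_smul_left, QuadraticMap.polar_add_right, QuadraticMap.polar_sub_right,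
      QuadraticMap.polar_smul_right, smul_eq_mul, polar_self_zero hQe, hex, hv,
      show bU v (K v) = 0 by rw [QuadraticMap.polar_comm]; exact hss v,
      show bU e (K v) = -bU v x by rw [hx, QuadraticMap.polar_comm _ e, hs v e],
      QuadraticMap.polar_comm _ v e, QuadraticMap.polar_comm _ x v]
    module
  have mult : ∀ {c : F}, c ≠ 0 → InL qW M f (c • wedge qU e x) → InL qW M f (wedge qU e x) := fun {c} hc h t => by
    have := h (t * c⁻¹)
    rwa [smul_smul, mul_assoc, inv_mul_cancel₀ hc, mul_one] at this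
  by_cases hQx : qU x = 0
  · have hk5 : 5 ≤ k := by
      have h4 : k ≠ 4 := fun h4 => hKe (S.aniso h4 e x hQe hQx hex he)
      have hk := S.hk
      by_contra h5
      have hTS : ∀ y ∈ Submodule.span F ({e, x} : Set Uv), qU y = 0 := fun y hy => by
        obtain ⟨a, c, rfl⟩ := Submodule.mem_span_pair.1 hy
        simp only [Classical.Orth.map_add', Classical.Orth.map_smul', QuadraticMap.polar_smul_left,
          QuadraticMap.polar_smul_right, hQe, hQx, hex, smul_eq_mul]
        ring
      have h2 := Orth.finrank_sing_le S.ndU hTS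
      have h3 : Module.finrank F (Submodule.span F ({e, x} : Set Uv)) = 2 := by
        have hli : LinearIndependent F ![e, x] := LinearIndependent.pair_iff.2 fun a c h => by
          by_cases hc : c = 0
          · subst hc
            simp only [zero_smul, add_zero, smul_eq_zero] at h
            exact ⟨h.resolve_right he, rfl⟩
          · exact absurd (Submodule.mem_span_singleton.2 ⟨-c⁻¹ * a, by
              rw [mul_smul, neg_smul, eq_neg_of_add_eq_zero_left h, smul_neg, neg_neg, inv_smul_smul₀ hc]⟩) hKe
        have := finrank_span_eq_card hli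
        rwa [Matrix.range_cons_cons_empty, Fintype.card_fin] at this
      rw [Fintype.card_fin, h3] at h2
      omega
    obtain ⟨v, hve, hvx, hQv⟩ : ∃ v, bU e v = 0 ∧ bU x v = 0 ∧ qU v ≠ 0 := by
      by_contra hc
      push Not at hc
      have h2 := Orth.finrank_sing_le S.ndU (T := core qU e x) fun y hy => hc y (mem_core.1 hy).1 (mem_core.1 hy).2
      have h3 := finrank_core (q := qU) S.ndU e x
      rw [Fintype.card_fin] at h2
      omega
    refine mult (c := bU v v) (by rw [polar_self']; exact mul_ne_zero S.two hQv) ?_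
    have h := key v hve
    rwa [QuadraticMap.polar_comm _ v x, hvx, mul_zero, zero_smul, sub_zero, sub_zero] at h
  · refine mult (c := -bU x x) (neg_ne_zero.2 (by rw [polar_self']; exact mul_ne_zero S.two hQx)) ?_
    have h := key x hex
    convert h using 1
    module

/-- a non-trivial central element gives all wedges with a singular vector -/
theorem wedge_all {K : EndU} (hK : InK qW M f K) (hf0 : f ≠ 0) (hK0 : K ≠ 0) {e : Uv} (he : e ≠ 0)
    (hQe : qU e = 0) (y : Uv) : InL qW M f (wedge qU e y) := by
  have S := hO.setup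
  obtain ⟨e₀, x₀, he₀, hQ₀, hex₀, hx₀, hL₀⟩ := exists_wedge hO hf hK hf0 hK0
  have zL : ∀ {L : EndU}, InL qW M f L → InK qW M f L := fun h => by
    have := h 1
    rwa [one_smul] at this
  have smulL : ∀ {L : EndU} (c : F), InL qW M f L → InL qW M f (c • L) := fun c h t => by
    rw [smul_smul]; exact h _
  suffices hall : ∀ z, InL qW M f (wedge qU e₀ z) by
    obtain ⟨g, hg, a, ha, hga⟩ := exists_move S.ndU S.hk he₀ hQ₀ he hQe
    intro t
    refine InK.conj hO hf (hall (act g⁻¹ y) (t * a⁻¹)) hg fun u => ?_
    have e1 : bU (act g u) y = bU u (act g⁻¹ y) := by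
      rw [← act_polar g⁻¹ (act g u) y, Spinor.act_inv_cancel]
    have e2 : bU (act g u) e = a⁻¹ * bU u e₀ := by
      rw [← act_polar g u e₀, hga, QuadraticMap.polar_smul_right, smul_eq_mul, inv_mul_cancel_left₀ ha]
    simp only [LinearMap.smul_apply, wedge_apply, map_smul, map_sub, hga, e1, e2, act_cancel_inv]
    match_scalars <;> field_simp
  obtain ⟨e', hp⟩ := exists_pair_of S.ndU he₀ hQ₀
  -- the case of a non-singular vector of the core
  have step : ∀ z ∈ core qU e₀ e', qU z ≠ 0 → InL qW M f (wedge qU e₀ z) → ∀ z', InL qW M f (wedge qU e₀ z') := by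
    intro z hz hQz hzL z'
    obtain ⟨hz1, hz2⟩ := mem_core.1 hz
    have h1 := InK.deriv hO hf (zL hzL) hf0 hp.hv (v := z) hz2
    have e1 : deriv qU e' z (wedge qU e₀ z) = (-bU z z) • wedge qU e₀ e' := by
      refine LinearMap.ext fun w => ?_
      simp only [OrthOrth.deriv, LinearMap.add_apply, LinearMap.smul_apply, wedge_apply,
        QuadraticMap.polar_add_right, QuadraticMap.polar_sub_right, QuadraticMap.polar_smul_right,
        QuadraticMap.polar_comm _ z e₀, hz1, hz2, hp.hvu, smul_eq_mul]
      module
    rw [e1] at h1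
    have hc : -bU z z ≠ 0 := neg_ne_zero.2 (by rw [polar_self']; exact mul_ne_zero S.two hQz)
    have hee : InL qW M f (wedge qU e₀ e') := fun t => by
      have := h1 (t * (-bU z z)⁻¹)
      rwa [smul_smul, mul_assoc, inv_mul_cancel₀ hc, mul_one] at this
    have hcore : ∀ w ∈ core qU e₀ e', InL qW M f (wedge qU e₀ w) := fun w hw => by
      obtain ⟨hw1, hw2⟩ := mem_core.1 hw
      have h2 := InK.deriv hO hf (zL hee) hf0 hQ₀ (v := w) hw1
      convert h2 using 1
      refine LinearMap.ext fun x => ?_
      simp only [OrthOrth.deriv, LinearMap.add_apply, wedge_apply, QuadraticMap.polar_add_right,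
        QuadraticMap.polar_sub_right, QuadraticMap.polar_smul_right, QuadraticMap.polar_add_left,
        QuadraticMap.polar_sub_left, QuadraticMap.polar_smul_left, QuadraticMap.polar_comm _ w e₀,
        QuadraticMap.polar_comm _ w e', hw1, hw2, hp.huv, polar_self_zero hQ₀, smul_eq_mul]
      module
    rw [proj_add (Q := qU) e₀ e' z', wedge_add_right, wedge_add_right, wedge_smul_right, wedge_smul_right,
      wedge_self, smul_zero, zero_add]
    intro t
    rw [smul_add]
    exact InK.add hO hf (smulL _ hee t) (hcore _ (proj_core hp z') t)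
  -- reduce to the core
  set x := proj qU e₀ e' x₀ with hxdef
  have hxc : x ∈ core qU e₀ e' := proj_core hp x₀
  have hx₀e : x₀ = bU x₀ e' • e₀ + x := by
    conv_lhs => rw [proj_add (Q := qU) e₀ e' x₀, QuadraticMap.polar_comm _ x₀ e₀, hex₀, zero_smul, add_zero, ← hxdef]
  have hxne : x ≠ 0 := fun h => hx₀ (by
    rw [hx₀e, h, add_zero]
    exact Submodule.smul_mem _ _ (Submodule.mem_span_singleton_self _))
  have hxL : InL qW M f (wedge qU e₀ x) := by
    rwa [hx₀e, wedge_add_right, wedge_smul_right, wedge_self, smul_zero, zero_add] at hL₀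
  by_cases hQx : qU x = 0
  swap
  · exact step x hxc hQx hxL
  obtain ⟨hx1, hx2⟩ := mem_core.1 hxc
  obtain ⟨s, hs, hxs⟩ := core_nondeg S.ndU hp x hxc hxne
  obtain ⟨v, hv, hQv, hxv⟩ := exists_partner_in hxc hs hQx hxs
  obtain ⟨hv1, hv2⟩ := mem_core.1 hv
  have hpv : IsPair qU x v := ⟨hQx, hQv, hxv⟩
  have hk5 : 5 ≤ k := by
    have hk := S.hk
    have h4 : k ≠ 4 := fun h4 => hxne (by
      obtain ⟨c, hc⟩ := Submodule.mem_span_singleton.1 (S.aniso h4 e₀ x hQ₀ hQx hx1 he₀)
      rw [← hc, QuadraticMap.polar_smul_right, hp.hvu, smul_eq_mul, mul_one] at hx2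
      rw [← hc, hx2, zero_smul])
    by_contra h5
    have h3 : k = 3 := by omega
    obtain ⟨w, hw, hQw⟩ := exists_aniso_core S.ndU hp S.hk
    have hsub : Submodule.span F ({x, v, w} : Set Uv) ≤ core qU e₀ e' := by
      rw [Submodule.span_le]; rintro z (rfl | rfl | rfl) <;> assumption
    have hfr : Module.finrank F (core qU e₀ e') ≤ 1 := by
      have hd : Disjoint (core qU e₀ e') (Submodule.span F ({e₀, e'} : Set Uv)) :=
        Submodule.disjoint_def.2 fun z hz1 hz2 => by
          obtain ⟨a, c, rfl⟩ := Submodule.mem_span_pair.1 hz2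
          obtain ⟨h1, h2⟩ := mem_core.1 hz1
          simp only [QuadraticMap.polar_add_right, QuadraticMap.polar_smul_right, polar_self_zero hQ₀,
            polar_self_zero hp.hv, hp.huv, hp.hvu, smul_eq_mul, mul_zero, mul_one, zero_add, add_zero] at h1 h2
          simp [h1, h2]
      have h6 := Submodule.finrank_add_finrank_le_of_disjoint hd
      rw [Module.finrank_fintype_fun_eq_card, Fintype.card_fin] at h6
      have h7 : Module.finrank F (Submodule.span F ({e₀, e'} : Set Uv)) = 2 := by
        have hli : LinearIndependent F ![e₀, e'] := LinearIndependent.pair_iff.2 fun a c h => by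
          have g1 := congrArg (fun z => bU z e₀) h
          have g2 := congrArg (fun z => bU z e') h
          simp only [QuadraticMap.polar_add_left, QuadraticMap.polar_smul_left, polar_self_zero hQ₀,
            polar_self_zero hp.hv, hp.huv, hp.hvu, smul_eq_mul, mul_zero, mul_one, zero_add, add_zero,
            QuadraticMap.polar_zero_left] at g1 g2
          exact ⟨g2, g1⟩
        have := finrank_span_eq_card hli
        rwa [Matrix.range_cons_cons_empty, Fintype.card_fin] at this
      omega
    obtain ⟨c, hc⟩ := exists_smul_eq_of_finrank_eq_one (V := core qU e₀ e')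
      (le_antisymm hfr (Submodule.one_le_finrank_iff.2 fun h => hxne ((Submodule.mem_bot F).1 (h ▸ hxc))))
      (show (⟨x, hxc⟩ : core qU e₀ e') ≠ 0 from fun h => hxne (congrArg Subtype.val h)) ⟨v, hv⟩
    have hc' : c • x = v := congrArg Subtype.val hc
    rw [← hc', QuadraticMap.polar_smul_right, polar_self_zero hQx, smul_zero] at hxv
    exact zero_ne_one hxv
  obtain ⟨w, hwc, hwx, hwv, hQw⟩ : ∃ w ∈ core qU e₀ e', bU x w = 0 ∧ bU v w = 0 ∧ qU w ≠ 0 := by
    by_contra hc
    push Not at hc
    set T := core qU e₀ e' ⊓ core qU x v with hT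
    obtain ⟨r, hr, hr0⟩ := Submodule.exists_mem_ne_zero_of_ne_bot (p := T) fun h0 => by
      have h1 := Submodule.finrank_sup_add_finrank_inf_eq (core qU e₀ e') (core qU x v)
      have h2 := Submodule.finrank_le (core qU e₀ e' ⊔ core qU x v)
      have h3 := finrank_core (q := qU) S.ndU e₀ e'
      have h4 := finrank_core (q := qU) S.ndU x v
      rw [← hT, h0, finrank_bot] at h1
      rw [Module.finrank_fintype_fun_eq_card, Fintype.card_fin] at h2
      omega
    obtain ⟨t, ht, hrt⟩ := core_nondeg S.ndU hp r hr.1 hr0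
    have ht' : proj qU x v t ∈ T :=
      ⟨(core qU e₀ e').sub_mem ((core qU e₀ e').sub_mem ht ((core qU e₀ e').smul_mem _ hxc))
        ((core qU e₀ e').smul_mem _ hv), proj_core hpv t⟩
    refine hrt ?_
    rw [← polar_proj (e := x) (e' := v) hr.2 t]
    exact Orth.polar_of_sing (S := T) (fun z hz => hc z hz.1 (mem_core.1 hz.2).1 (mem_core.1 hz.2).2) hr ht'
  obtain ⟨hw1, hw2⟩ := mem_core.1 hwc
  have h1 := InK.deriv hO hf (zL hxL) hf0 hp.hv (v := v) hv2
  have h2 := InK.deriv hO hf (zL h1) hf0 hQ₀ (v := w) hw1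
  refine step w hwc hQw fun t => ?_
  have := h2 (-t)
  convert this using 1
  refine LinearMap.ext fun z => ?_
  simp only [OrthOrth.deriv, LinearMap.add_apply, LinearMap.smul_apply, wedge_apply,
    QuadraticMap.polar_add_right, QuadraticMap.polar_sub_right, QuadraticMap.polar_smul_right,
    QuadraticMap.polar_add_left, QuadraticMap.polar_sub_left, QuadraticMap.polar_smul_left, smul_eq_mul,
    QuadraticMap.polar_comm _ w e₀, QuadraticMap.polar_comm _ w e', QuadraticMap.polar_comm _ v e₀,
    QuadraticMap.polar_comm _ v e', QuadraticMap.polar_comm _ x e₀, QuadraticMap.polar_comm _ x e',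
    QuadraticMap.polar_comm _ v x, QuadraticMap.polar_comm _ w x, QuadraticMap.polar_comm _ w v,
    hw1, hw2, hv1, hv2, hx1, hx2, hwx, hwv, hxv, hp.huv, hp.hvu, polar_self_zero hQ₀]
  module

end Cfsg.Agent.Forms.Max.OrthOrth
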