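import Cfsg.Agent.Lib.Forms.Max.OrthOrth.Slots

/-!
# Conjugates of the quadratic elements of totally singular lines of the second factor

An element conjugating the element `1 ⊗ T` of a totally singular line `L` into the stabiliser maps
`U ⊗ L` to some `U ⊗ L'`, and then it preserves the decomposition.
-/

set_option autoImplicit false
set_option linter.unusedSectionVars false

namespace Cfsg.Agent.Forms.Max.OrthOrth

open Matrix Cfsg.Agent.Aschbacher Cfsg.Agent.Forms.QuadStd Cfsg.Agent.Forms.Reflections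
  Cfsg.Agent.Classical.Orth Cfsg.Agent.Forms.Max.TensorMax
open Cfsg.Agent.Forms.Max.TensorRes (kr_mem_kron exists_kr)
open Cfsg.Agent.Forms.Max.TensorRes.Unitary (pure_add_left pure_smul_left pure_add_right pure_smul_right
  pure_zero_left pure_zero_right pure_ne_zero pureR pureR_apply)

variable {F : Type*} [Field F] [Fintype F] {k n : ℕ}
variable {qU : QuadraticForm F (Fin k → F)} {qW : QuadraticForm F (Fin n → F)}
  {Q : QuadraticForm F (Fin k × Fin n → F)} {M : Subgroup (GL (Fin k × Fin n) F)}

local notation "B" => QuadraticMap.polar Q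
local notation "bU" => QuadraticMap.polar qU
local notation "bW" => QuadraticMap.polar qW
local notation "Uv" => (Fin k → F)
local notation "Wv" => (Fin n → F)
local notation "Vv" => (Fin k × Fin n → F)
local notation "GLkn" => GL (Fin k × Fin n) F
local notation "Mat" => Matrix (Fin k × Fin n) (Fin k × Fin n) F

/-- a basis of a totally singular line -/
structure IsLine (qW : QuadraticForm F (Fin n → F)) (a b : Fin n → F) : Prop where
  ne : a ≠ 0
  indep : b ∉ Submodule.span F {a}
  ha : qW a = 0
  hb : qW b = 0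
  hab : QuadraticMap.polar qW a b = 0

/-- the line -/
abbrev lineSp (a b : Fin n → F) : Submodule F (Fin n → F) := Submodule.span F {a, b}

theorem IsLine.smul_perp {a b : Wv} (hl : IsLine qW a b) (t : F) : bW a (t • b) = 0 := by
  rw [QuadraticMap.polar_smul_right, hl.hab, smul_zero]

theorem IsLine.finrank_eq {a b : Wv} (hl : IsLine qW a b) : Module.finrank F (lineSp (F := F) a b) = 2 := by
  have hli : LinearIndependent F ![a, b] := LinearIndependent.pair_iff.2 fun x y h => by
    by_cases hy : y = 0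
    · subst hy
      rw [zero_smul, add_zero, smul_eq_zero] at h
      exact ⟨h.resolve_right hl.ne, rfl⟩
    · exact absurd (Submodule.mem_span_singleton.2 ⟨-y⁻¹ * x, by
        rw [mul_smul, neg_smul, eq_neg_of_add_eq_zero_left h, smul_neg, neg_neg, inv_smul_smul₀ hy]⟩) hl.indep
  have := finrank_span_eq_card hli
  rwa [Matrix.range_cons_cons_empty, Fintype.card_fin] at this

theorem IsLine.sing {a b : Wv} (hl : IsLine qW a b) {v : Wv} (hv : v ∈ lineSp (F := F) a b) : qW v = 0 := by
  obtain ⟨x, y, rfl⟩ := Submodule.mem_span_pair.1 hv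
  simp only [Classical.Orth.map_add', Classical.Orth.map_smul', QuadraticMap.polar_smul_left,
    QuadraticMap.polar_smul_right, hl.ha, hl.hb, hl.hab, smul_eq_mul]
  ring

/-- the displacement of the quadratic elements of a line -/
noncomputable def dis (k : ℕ) (qW : QuadraticForm F (Fin n → F)) (a b : Fin n → F) :
    Matrix (Fin k × Fin n) (Fin k × Fin n) F :=
  LinearMap.toMatrix' ((pureR (k := k) b).comp (eta qW a) - (pureR (k := k) a).comp (eta qW b))

theorem dis_apply (a b : Wv) (x : Vv) :
    dis k qW a b *ᵥ x = pure (eta qW a x) b - pure (eta qW b x) a := by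
  rw [dis, LinearMap.toMatrix'_mulVec, LinearMap.sub_apply, LinearMap.comp_apply, LinearMap.comp_apply,
    pureR_apply, pureR_apply]

theorem dis_sq {a b : Wv} (hl : IsLine qW a b) : dis k qW a b * dis k qW a b = 0 :=
  Matrix.ext_iff_mulVec.2 fun x => by
    have hba : bW b a = 0 := by rw [QuadraticMap.polar_comm]; exact hl.hab
    rw [← Matrix.mulVec_mulVec, dis_apply, dis_apply, Matrix.zero_mulVec]
    simp only [map_sub, eta_pure, polar_self_zero hl.ha, polar_self_zero hl.hb, hl.hab, hba, zero_smul, sub_zero,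
      pure_zero_left]

theorem dis_mem (a b : Wv) (x : Vv) : dis k qW a b *ᵥ x ∈ UT k (lineSp (F := F) a b) := by
  rw [dis_apply]
  exact Submodule.sub_mem _ (pure_mem_UT _ (Submodule.subset_span (by simp)))
    (pure_mem_UT _ (Submodule.subset_span (by simp)))

theorem exists_dis {a b : Wv} (hl : IsLine qW a b) (hq : (QuadraticMap.polarBilin qW).Nondegenerate) {x : Vv}
    (hx : x ∈ UT k (lineSp (F := F) a b)) : ∃ y, dis k qW a b *ᵥ y = x := by
  have hab' : a ∉ Submodule.span F {b} := fun h => by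
    obtain ⟨c, hc⟩ := Submodule.mem_span_singleton.1 h
    have hc0 : c ≠ 0 := fun h0 => hl.ne (by rw [← hc, h0, zero_smul])
    exact hl.indep (Submodule.mem_span_singleton.2 ⟨c⁻¹, by rw [← hc, inv_smul_smul₀ hc0]⟩)
  obtain ⟨y, hy1, hy2⟩ := Orth.exists_perp_ne hq hl.indep
  obtain ⟨z, hz1, hz2⟩ := Orth.exists_perp_ne hq hab'
  set y' := (-(bW b y)⁻¹) • y
  set z' := ((bW a z)⁻¹) • z
  have hy : ∀ u, dis k qW a b *ᵥ pure u y' = pure u a := fun u => by
    rw [dis_apply, eta_pure, eta_pure, QuadraticMap.polar_comm _ y' a, QuadraticMap.polar_comm _ y' b,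
      QuadraticMap.polar_smul_right, QuadraticMap.polar_smul_right, hy1, smul_zero, zero_smul, pure_zero_left,
      smul_eq_mul, neg_mul, inv_mul_cancel₀ hy2, neg_one_smul, ← neg_one_smul F u, pure_smul_left, zero_sub]
    module
  have hz : ∀ u, dis k qW a b *ᵥ pure u z' = pure u b := fun u => by
    rw [dis_apply, eta_pure, eta_pure, QuadraticMap.polar_comm _ z' a, QuadraticMap.polar_comm _ z' b,
      QuadraticMap.polar_smul_right, QuadraticMap.polar_smul_right, hz1, smul_zero, zero_smul, pure_zero_left,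
      smul_eq_mul, inv_mul_cancel₀ hz2, one_smul, sub_zero]
  choose p q hpq using fun i => Submodule.mem_span_pair.1 (mem_UT.1 hx i)
  refine ⟨∑ i, (p i • pure (Pi.single i 1) y' + q i • pure (Pi.single i 1) z'), ?_⟩
  rw [mulVec_sum]
  conv_rhs => rw [sum_rows x]
  refine Finset.sum_congr rfl fun i _ => ?_
  rw [mulVec_add, mulVec_smul, mulVec_smul, hy, hz, ← hpq i, pure_add_right, pure_smul_right, pure_smul_right]

/-- the quadratic element -/
noncomputable def tl (k : ℕ) {a b : Fin n → F} (hl : IsLine qW a b) (t : F) : GL (Fin k × Fin n) F :=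
  kr (1 : GL (Fin k) F) (eich a (t • b) hl.ha (hl.smul_perp t) : GL (Fin n) F)

theorem tl_kron {a b : Wv} (hl : IsLine qW a b) (t : F) :
    tl k hl t ∈ Cfsg.Geo.kroneckerSubgroup k n F := kr_mem_kron _ _

variable (hO : Over qU qW Q M)
include hO

theorem tl_mem {a b : Wv} (hl : IsLine qW a b) (t : F) : tl k hl t ∈ M :=
  right_mem hO (eich_mem _ _ Submodule.mem_top Submodule.mem_top)

theorem tl_coe {a b : Wv} (hl : IsLine qW a b) (t : F) :
    (Units.val (tl k hl t) : Mat) = 1 + t • dis k qW a b :=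
  Matrix.ext_iff_mulVec.2 fun x => by
    obtain ⟨a', hp⟩ := exists_pair_of hO.setup.ndW hl.ne hl.ha
    rw [tl, eich_act hO hp (hl.smul_perp t), Matrix.add_mulVec, Matrix.one_mulVec, Matrix.smul_mulVec, dis_apply,
      Classical.Orth.map_smul', hl.hb, mul_zero, zero_smul, sub_zero, eta_smul, pure_smul_left, pure_smul_right,
      smul_sub]
    abel

theorem sing_UT {T : Submodule F Wv} (hT : ∀ v ∈ T, qW v = 0) {x y : Vv} (hx : x ∈ UT k T) (hy : y ∈ UT k T) :
    B x y = 0 := by
  have h0 : ∀ v ∈ T, eta qW v x = 0 := fun v hv => funext fun i => Orth.polar_of_sing hT (hx i) hv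
  conv_lhs => rw [sum_rows y]
  rw [← polB_apply, map_sum]
  exact Finset.sum_eq_zero fun i _ => by
    rw [polB_apply, form_pure hO.setup, h0 _ (hy i), QuadraticMap.polar_zero_left]

variable (hN : NoCentral qW M) [hd : Fact (k < n ∧ 5 ≤ n)]
include hN hd

/-- an element mapping `U ⊗ L` to `U ⊗ L'` preserves the decomposition -/
theorem mem_of_lines {g : GLkn} (hg : g ∈ M) {a b : Wv} (hl : IsLine qW a b) {L' : Submodule F Wv}
    (hL'0 : L' ≠ ⊥) (hL' : ∀ v ∈ L', qW v = 0)
    (himg : img g (UT k (lineSp (F := F) a b)) = UT k L') : g ∈ Cfsg.Geo.kroneckerSubgroup k n F := by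
  have S := hO.setup
  obtain ⟨a', hp⟩ := exists_pair_of S.ndW hl.ne hl.ha
  set L := lineSp (F := F) a b with hL
  obtain ⟨z, hz, hzL⟩ : ∃ z ∈ Orth.perp qW L, z ∉ L := SetLike.not_le_iff_exists.1 fun hle => by
    have h1 := Submodule.finrank_mono hle
    have h2 := Orth.finrank_perp S.ndW L
    rw [Fintype.card_fin, hl.finrank_eq] at h2
    rw [hl.finrank_eq] at h1
    have := hd.out.2
    omega
  have haL : a ∈ L := Submodule.subset_span (by simp)
  have hbL : b ∈ L := Submodule.subset_span (by simp)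
  have hza : bW a z = 0 := Orth.mem_perp.1 hz a haL
  obtain ⟨w, hw, hzw⟩ := Orth.not_mem_perp S.ndW hzL
  set r := kr (1 : GL (Fin k) F) (eich a z hl.ha hza : GL (Fin n) F) with hr
  have hrM : r ∈ M := right_mem hO (eich_mem _ _ Submodule.mem_top Submodule.mem_top)
  have hrperp : ∀ x, eta qW a x = 0 → (Units.val r) *ᵥ x = x - pure (eta qW z x) a := fun x hx => by
    rw [hr, eich_act hO hp hza, hx, pure_zero_left, pure_zero_left, smul_zero, add_zero, sub_zero]
  have hrfix : ∀ x ∈ UT k L, (Units.val r) *ᵥ x = x := fun x hx => by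
    have h1 : ∀ v ∈ L, qW v = 0 := fun v hv => hl.sing hv
    rw [hrperp x (funext fun i => Orth.polar_of_sing h1 (hx i) haL),
      show eta qW z x = 0 from funext fun i => Orth.mem_perp.1 hz _ (hx i), pure_zero_left, sub_zero]
  set y := g * r * g⁻¹ with hy
  have hyfix : ∀ u, ∀ v ∈ L', (Units.val y) *ᵥ pure u v = pure u v := fun u v hv => by
    obtain ⟨x, hx, hxv⟩ := mem_img.1 (himg.symm ▸ pure_mem_UT u hv : pure u v ∈ img g (UT k L))
    rw [hy, ← hxv, mulVec_mul_GL, mulVec_mul_GL, inv_mulVec_cancel, hrfix x hx]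
  obtain ⟨v₀, hv₀, hv₀0⟩ := Submodule.exists_mem_ne_zero_of_ne_bot hL'0
  have hyk := slot_kron_of hO hN (mul_mem (mul_mem hg hrM) (inv_mem hg)) hv₀0 (hL' v₀ hv₀) hv₀0 (hL' v₀ hv₀)
    fun u => ⟨u, hyfix u v₀ hv₀⟩
  obtain ⟨A, β, hAβ⟩ := exists_kr hyk
  obtain ⟨s, hs⟩ : ∃ s : F, ∀ u, (Units.val A) *ᵥ u = s • u := by
    have h0 : (Units.val β) *ᵥ v₀ ≠ 0 := mulVec_ne_zero β hv₀0
    obtain ⟨v₁, hv₁⟩ := Orth.exists_ne S.ndW h0
    refine ⟨(bW ((Units.val β) *ᵥ v₀) v₁)⁻¹ * bW v₀ v₁, fun u => ?_⟩
    have h := congrArg (eta qW v₁) (hyfix u v₀ hv₀)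
    rw [hy, hAβ, kr_pure, eta_pure, eta_pure] at h
    rw [← smul_smul, ← h, inv_smul_smul₀ hv₁]
  set c : Wv → Wv := fun v => s • ((Units.val β) *ᵥ v) - v with hc
  have hyc : ∀ u v, (Units.val y) *ᵥ pure u v - pure u v = pure u (c v) := fun u v => by
    rw [hy, hAβ, kr_pure, hs, pure_smul_left, hc]
    funext ij
    simp only [TensorMax.pure, Pi.sub_apply, Pi.smul_apply, smul_eq_mul]
    ring
  have hperp : ∀ x, (∀ l ∈ L, eta qW l x = 0) → ∀ i, TensorMax.row ((Units.val g) *ᵥ x) i ∈ Orth.perp qW L' := by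
    intro x hx i
    refine Orth.mem_perp.2 fun v hv => ?_
    rw [QuadraticMap.polar_comm]
    refine congrFun (eta_eq_zero S (w := v) (x := (Units.val g) *ᵥ x) fun u => ?_) i
    obtain ⟨x', hx', hxv⟩ := mem_img.1 (himg.symm ▸ pure_mem_UT u hv : pure u v ∈ img g (UT k L))
    rw [← hxv, polar_M hO hg, sum_rows x', ← polB_apply, map_sum]
    exact Finset.sum_eq_zero fun j _ => by rw [polB_apply, form_pure S, hx _ (hx' j), QuadraticMap.polar_zero_left]
  obtain ⟨v', hv', hcv'⟩ : ∃ v' ∈ Orth.perp qW L', c v' ≠ 0 := by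
    by_contra hcon
    push Not at hcon
    obtain ⟨u₀, hu₀, -⟩ := exists_sing_ne S.ndU S.hk
    have hxL : ∀ l ∈ L, eta qW l (pure u₀ w) = 0 := fun l hl' => by
      rw [eta_pure, QuadraticMap.polar_comm, Orth.mem_perp.1 hw l hl', zero_smul]
    have h1 : (Units.val y) *ᵥ ((Units.val g) *ᵥ pure u₀ w) = (Units.val g) *ᵥ pure u₀ w := by
      conv_lhs => rw [sum_rows ((Units.val g) *ᵥ pure u₀ w), mulVec_sum]
      conv_rhs => rw [sum_rows ((Units.val g) *ᵥ pure u₀ w)]
      refine Finset.sum_congr rfl fun i _ => sub_eq_zero.1 ?_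
      rw [hyc, hcon _ (hperp _ hxL i), pure_zero_right]
    rw [hy, mulVec_mul_GL, mulVec_mul_GL, inv_mulVec_cancel] at h1
    have h2 := mulVec_inj g h1
    rw [hrperp _ (hxL a haL), sub_eq_self, eta_pure, pure_smul_left, QuadraticMap.polar_comm] at h2
    exact smul_ne_zero hzw (pure_ne_zero hu₀ hl.ne) h2
  have hpre : ∀ p : Uv, ∃ q : Uv, (Units.val g) *ᵥ pure q a = pure p (c v') := fun p => by
    set x := (Units.val g⁻¹) *ᵥ pure p v' with hx
    have hxa : eta qW a x = 0 := eta_eq_zero S fun u => by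
      rw [← polar_M hO hg, hx, mulVec_inv_cancel]
      have h1 : (Units.val g) *ᵥ pure u a ∈ UT k L' := himg ▸ mulVec_mem_img (pure_mem_UT u haL)
      rw [sum_rows ((Units.val g) *ᵥ pure u a), ← polB_apply, map_sum]
      exact Finset.sum_eq_zero fun i _ => by
        rw [polB_apply, S.mul, QuadraticMap.polar_comm _ v', Orth.mem_perp.1 hv' _ (h1 i), mul_zero]
    refine ⟨(-1 : F) • eta qW z x, ?_⟩
    rw [← hyc, hy, mulVec_mul_GL, mulVec_mul_GL, ← hx, hrperp x hxa, mulVec_sub, pure_smul_left, mulVec_smul]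
    nth_rewrite 1 [← mulVec_inv_cancel g (pure p v')]
    rw [← hx]
    module
  choose q hq using hpre
  have hqinj : Function.Injective q := fun p p' h => by
    obtain ⟨v₁, hv₁⟩ := Orth.exists_ne S.ndW hcv'
    have h1 := congrArg (eta qW v₁) ((hq p).symm.trans ((congrArg (fun e => (Units.val g) *ᵥ pure e a) h).trans (hq p')))
    rw [eta_pure, eta_pure] at h1
    exact smul_right_injective Uv hv₁ h1
  have hqsurj : Function.Surjective q := Finite.injective_iff_surjective.1 hqinj
  obtain ⟨u₁, hu₁⟩ : ∃ u, qU u ≠ 0 := by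
    obtain ⟨e, he, hQe⟩ := exists_sing_ne S.ndU S.hk
    obtain ⟨v, -, hv⟩ := exists_nonsing_perp S.ndU S.hk he hQe
    exact ⟨v, hv⟩
  have hQc : qW (c v') = 0 := by
    have h1 := congrArg Q (hq u₁)
    rw [map_M hO hg, Q_of_sing_right S _ hl.ha, Q_pure S] at h1
    exact (mul_eq_zero.1 h1.symm).resolve_left (mul_ne_zero S.two hu₁)
  refine slot_kron_of hO hN hg hl.ne hl.ha hcv' hQc fun u => ?_
  obtain ⟨p, hp'⟩ := hqsurj u
  exact ⟨p, by rw [← hp', hq]⟩

/-- an element conjugating some quadratic element into the stabiliser preserves the decomposition -/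
theorem mem_of_conj {g : GLkn} (hg : g ∈ M) {a b : Wv} (hl : IsLine qW a b)
    (hT : g * tl k hl 1 * g⁻¹ ∈ Cfsg.Geo.kroneckerSubgroup k n F) : g ∈ Cfsg.Geo.kroneckerSubgroup k n F := by
  have S := hO.setup
  obtain ⟨A, β, hAβ⟩ := exists_kr hT
  set y := g * tl k hl 1 * g⁻¹ with hy
  have hyM : y ∈ M := mul_mem (mul_mem hg (tl_mem hO hl 1)) (inv_mem hg)
  set L := lineSp (F := F) a b with hL
  have hye : ∀ v, (Units.val y) *ᵥ v - v = (Units.val g) *ᵥ (dis k qW a b *ᵥ ((Units.val g⁻¹) *ᵥ v)) := fun v => by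
    rw [hy, mulVec_mul_GL, mulVec_mul_GL, tl_coe hO hl, one_smul, Matrix.add_mulVec, Matrix.one_mulVec, mulVec_add,
      mulVec_inv_cancel, add_sub_cancel_left]
  have hsq : ∀ v, (Units.val y) *ᵥ ((Units.val y) *ᵥ v) - (2 : F) • (Units.val y) *ᵥ v + v = 0 := fun v => by
    have h1 := hye ((Units.val y) *ᵥ v - v)
    have h2 : ∀ z, dis k qW a b *ᵥ (dis k qW a b *ᵥ z) = 0 := fun z => by
      rw [Matrix.mulVec_mulVec, dis_sq hl, Matrix.zero_mulVec]
    conv_rhs at h1 => rw [hye v, inv_mulVec_cancel, h2, mulVec_zero]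
    rw [mulVec_sub] at h1
    linear_combination (norm := module) h1
  by_cases hβ : ∃ s : F, ∀ w, (Units.val β) *ᵥ w = s • w
  · -- the displacement would have rank one on the first factor
    exfalso
    obtain ⟨s, hs⟩ := hβ
    set C : Uv →ₗ[F] Uv := s • Matrix.toLin' (Units.val A) - 1 with hC
    have hCa : ∀ u, s • ((Units.val A) *ᵥ u) = u + C u := fun u => by
      simp only [hC, LinearMap.sub_apply, LinearMap.smul_apply, Matrix.toLin'_apply, Module.End.one_apply,
        add_sub_cancel]
    have hyp : ∀ u w, (Units.val y) *ᵥ pure u w = pure (u + C u) w := fun u w => by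
      rw [hAβ, kr_pure, hs, pure_smul_right, ← pure_smul_left, hCa]
    have hmem : ∀ u w, pure (C u) w ∈ img g (UT k L) := fun u w => by
      have h1 := hye (pure u w)
      rw [hyp, pure_add_left, add_sub_cancel_left] at h1
      rw [h1]
      exact mulVec_mem_img (dis_mem a b _)
    obtain ⟨u₀, hu₀⟩ : ∃ u, C u ≠ 0 := by
      by_contra hcon
      push Not at hcon
      have hy1 : y = 1 := gl_ext_pure fun u w => by rw [hyp, hcon, add_zero, Units.val_one, one_mulVec]
      obtain ⟨x, hx⟩ := exists_dis (k := k) hl S.ndW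
        (pure_mem_UT (Pi.single ⟨0, by have := S.hk; omega⟩ 1) (Submodule.subset_span (by simp) : a ∈ L))
      have h2 := hye ((Units.val g) *ᵥ x)
      rw [hy1, Units.val_one, one_mulVec, sub_self, inv_mulVec_cancel, hx] at h2
      exact mulVec_ne_zero g (pure_ne_zero (fun h => one_ne_zero (by
        have := congrFun h ⟨0, by have := S.hk; omega⟩
        rwa [Pi.single_eq_same, Pi.zero_apply] at this : (1 : F) = 0)) hl.ne) h2.symm
    set c₀ := C u₀ with hc₀
    have hone : ∀ u, C u ∈ Submodule.span F {c₀} := by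
      intro u
      by_contra hu
      set Φ : (Wv × Wv) →ₗ[F] Vv := (pureL c₀).coprod (pureL (C u)) with hΦ
      have hinj : Function.Injective Φ := by
        refine (injective_iff_map_eq_zero _).2 fun p hp => ?_
        obtain ⟨w, w'⟩ := p
        rw [hΦ, LinearMap.coprod_apply, pureL_apply, pureL_apply] at hp
        have h0 : ∀ j, w j • c₀ + w' j • C u = 0 := fun j => by
          funext i
          have := congrFun hp (i, j)
          simp only [TensorMax.pure, Pi.add_apply, Pi.zero_apply, Pi.smul_apply, smul_eq_mul] at this ⊢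
          linear_combination this
        have h1 : ∀ j, w' j = 0 := fun j => by_contra fun hne => hu
          (Submodule.mem_span_singleton.2 ⟨-(w' j)⁻¹ * w j, by
            rw [mul_smul, neg_smul, eq_neg_of_add_eq_zero_left (h0 j), smul_neg, neg_neg, inv_smul_smul₀ hne]⟩)
        refine Prod.ext (funext fun j => ?_) (funext h1)
        have := h0 j
        rw [h1 j, zero_smul, add_zero, smul_eq_zero] at this
        exact this.resolve_right hu₀
      have h1 := LinearMap.finrank_range_of_inj hinj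
      have h2 : Module.finrank F (LinearMap.range Φ) ≤ Module.finrank F (img g (UT k L)) := Submodule.finrank_mono (by
        rintro _ ⟨⟨w, w'⟩, rfl⟩
        rw [hΦ, LinearMap.coprod_apply, pureL_apply, pureL_apply]
        exact Submodule.add_mem _ (hmem u₀ w) (hmem u w'))
      rw [h1, finrank_img, finrank_UT, hl.finrank_eq, Module.finrank_prod, Module.finrank_fintype_fun_eq_card,
        Fintype.card_fin] at h2
      have := hd.out.1
      omega
    choose φ hφ using fun u => Submodule.mem_span_singleton.1 (hone u)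
    obtain ⟨w₀, hw₀⟩ : ∃ w : Wv, w ≠ 0 := ⟨a, hl.ne⟩
    have hCC : ∀ u, C (C u) = 0 := fun u => by
      have h1 := hsq (pure u w₀)
      rw [hyp, hyp, map_add] at h1
      have h2 : pure (C (C u)) w₀ = 0 := by
        simp only [pure_add_left] at h1
        linear_combination (norm := module) h1
      by_contra hne
      exact pure_ne_zero hne hw₀ h2
    obtain ⟨w₁, hw₁⟩ := Orth.exists_ne S.ndW hw₀
    have hiso : ∀ u v, bU (u + C u) (v + C v) = bU u v := fun u v => by
      have h1 := polar_M hO hyM (pure u w₀) (pure v w₁)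
      rw [hyp, hyp, S.mul, S.mul] at h1
      exact mul_right_cancel₀ hw₁ h1
    have hφc : φ c₀ = 0 := by
      have h1 := hCC u₀
      rw [← hc₀, ← hφ c₀] at h1
      exact (smul_eq_zero.1 h1).resolve_right hu₀
    have hrel : ∀ u v, φ v * bU u c₀ + φ u * bU c₀ v + φ u * φ v * bU c₀ c₀ = 0 := fun u v => by
      have h1 := hiso u v
      rw [← hφ u, ← hφ v] at h1
      simp only [QuadraticMap.polar_add_left, QuadraticMap.polar_add_right, QuadraticMap.polar_smul_left,
        QuadraticMap.polar_smul_right, smul_eq_mul] at h1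
      linear_combination h1
    have hφ0 : φ u₀ ≠ 0 := fun h => hu₀ (by rw [hc₀, ← hφ u₀, h, zero_smul])
    have hcc : bU c₀ c₀ = 0 := by
      have h1 := hrel u₀ c₀
      rw [hφc] at h1
      exact (mul_eq_zero.1 (show φ u₀ * bU c₀ c₀ = 0 by linear_combination h1)).resolve_left hφ0
    have h0 : bU u₀ c₀ = 0 := by
      have h1 := hrel u₀ u₀
      rw [hcc, QuadraticMap.polar_comm _ c₀ u₀] at h1
      exact (mul_eq_zero.1 (show (φ u₀ * 2) * bU u₀ c₀ = 0 by linear_combination h1)).resolve_left
        (mul_ne_zero hφ0 S.two)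
    obtain ⟨v, hv⟩ := Orth.exists_ne S.ndU hu₀
    have h1 := hrel u₀ v
    rw [h0, hcc] at h1
    exact mul_ne_zero hφ0 hv (by linear_combination h1)
  · -- the first component is scalar
    push Not at hβ
    obtain ⟨s, hs⟩ : ∃ s : F, ∀ u, (Units.val A) *ᵥ u = s • u := by
      obtain ⟨w, hw⟩ : ∃ w : Wv, (Units.val β) *ᵥ w ∉ Submodule.span F {w} := by
        by_contra hcon
        push Not at hcon
        obtain ⟨t, ht⟩ := (LinearMap.exists_eq_smul_id_of_forall_notLinearIndependent
          (f := Matrix.toLin' (Units.val β)) fun v hv => by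
            obtain ⟨c, hc⟩ := Submodule.mem_span_singleton.1 (hcon v)
            have := LinearIndependent.pair_iff.1 hv c (-1) (by rw [Matrix.toLin'_apply, ← hc]; module)
            exact neg_ne_zero.2 one_ne_zero this.2)
        obtain ⟨v, hv⟩ := hβ t
        exact hv (by rw [← Matrix.toLin'_apply, ht]; rfl)
      have hw0 : w ≠ 0 := fun h => hw (by rw [h, mulVec_zero]; exact Submodule.zero_mem _)
      set w₁ := (Units.val β) *ᵥ w with hw₁
      have key : ∀ u, pure ((Units.val A) *ᵥ ((Units.val A) *ᵥ u)) ((Units.val β) *ᵥ w₁) -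
          (2 : F) • pure ((Units.val A) *ᵥ u) w₁ + pure u w = 0 := fun u => by
        have h1 := hsq (pure u w)
        rw [hAβ, kr_pure, kr_pure, ← hw₁] at h1
        exact h1
      by_cases hmem : (Units.val β) *ᵥ w₁ ∈ Submodule.span F {w, w₁}
      swap
      · exfalso
        obtain ⟨ψ, hψ, hψ'⟩ := Submodule.exists_dual_map_eq_bot_of_notMem hmem inferInstance
        obtain ⟨u₀, hu₀, -⟩ := exists_sing_ne S.ndU S.hk
        have hψ0 : ∀ v ∈ Submodule.span F {w, w₁}, ψ v = 0 := fun v hv => by
          have := Submodule.mem_map_of_mem (f := ψ) hv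
          rwa [hψ', Submodule.mem_bot] at this
        obtain ⟨i, hi⟩ := Function.ne_iff.1 (mulVec_ne_zero A (mulVec_ne_zero A hu₀))
        have h1 := congrArg (fun x => ψ (TensorMax.row x i)) (key u₀)
        simp only [show ∀ x x' : Vv, TensorMax.row (x + x') i = TensorMax.row x i + TensorMax.row x' i from fun _ _ => rfl,
          show ∀ x x' : Vv, TensorMax.row (x - x') i = TensorMax.row x i - TensorMax.row x' i from fun _ _ => rfl,
          show ∀ (c : F) (x : Vv), TensorMax.row (c • x) i = c • TensorMax.row x i from fun _ _ => rfl,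
          show TensorMax.row (0 : Vv) i = 0 from rfl, row_pure, map_add, map_sub, map_smul, map_zero,
          hψ0 w (Submodule.subset_span (by simp)), hψ0 w₁ (Submodule.subset_span (by simp)), smul_zero, sub_zero,
          add_zero, smul_eq_mul] at h1
        exact mul_ne_zero hi hψ (by linear_combination h1)
      obtain ⟨p, q, hpq⟩ := Submodule.mem_span_pair.1 hmem
      have hli : ∀ x x' : Uv, pure x w + pure x' w₁ = 0 → x = 0 ∧ x' = 0 := fun x x' h => by
        have h1 : ∀ i, x i • w + x' i • w₁ = 0 := fun i => congrArg (fun v => TensorMax.row v i) h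
        have h2 : ∀ i, x' i = 0 := fun i => by_contra fun hne => hw
          (Submodule.mem_span_singleton.2 ⟨-(x' i)⁻¹ * x i, by
            rw [mul_smul, neg_smul, eq_neg_of_add_eq_zero_left (h1 i), smul_neg, neg_neg, inv_smul_smul₀ hne, hw₁]⟩)
        refine ⟨funext fun i => ?_, funext h2⟩
        have := h1 i
        rw [h2 i, zero_smul, add_zero, smul_eq_zero] at this
        exact this.resolve_right hw0
      have hq : ∀ u, p • (Units.val A) *ᵥ ((Units.val A) *ᵥ u) + u = 0 ∧
          q • (Units.val A) *ᵥ ((Units.val A) *ᵥ u) + (-2 : F) • (Units.val A) *ᵥ u = 0 := fun u => by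
        refine hli _ _ ?_
        have h1 := key u
        rw [← hpq, pure_add_right, pure_smul_right, pure_smul_right] at h1
        rw [pure_add_left, pure_add_left, pure_smul_left, pure_smul_left, pure_smul_left]
        linear_combination (norm := module) h1
      have hq' : ∀ u, q • (Units.val A) *ᵥ u = (2 : F) • u := fun u => by
        refine mulVec_inj A ?_
        rw [mulVec_smul, mulVec_smul]
        linear_combination (norm := module) (hq u).2
      have hq0 : q ≠ 0 := fun h => by
        obtain ⟨u₀, hu₀, -⟩ := exists_sing_ne S.ndU S.hk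
        have := hq' u₀
        rw [h, zero_smul] at this
        exact smul_ne_zero S.two hu₀ this.symm
      exact ⟨q⁻¹ * 2, fun u => by rw [← smul_smul, ← hq', inv_smul_smul₀ hq0]⟩
    set β' : Wv →ₗ[F] Wv := s • Matrix.toLin' (Units.val β) - 1 with hβ'
    have hyp : ∀ u w, (Units.val y) *ᵥ pure u w = pure u w + pure u (β' w) := fun u w => by
      rw [hAβ, kr_pure, hs, pure_smul_left, ← pure_smul_right, ← pure_add_right]
      congr 1
      simp only [hβ', LinearMap.sub_apply, LinearMap.smul_apply, Matrix.toLin'_apply, Module.End.one_apply,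
        add_sub_cancel]
    set L' := LinearMap.range β' with hL'
    have himg : img g (UT k L) = UT k L' := by
      refine le_antisymm ?_ fun x hx => ?_
      · intro x hx
        obtain ⟨e, he, rfl⟩ := mem_img.1 hx
        obtain ⟨x', rfl⟩ := exists_dis hl S.ndW he
        have h1 := hye ((Units.val g) *ᵥ x')
        rw [inv_mulVec_cancel] at h1
        rw [← h1, sum_rows ((Units.val g) *ᵥ x'), mulVec_sum, ← Finset.sum_sub_distrib]
        refine Submodule.sum_mem _ fun i _ => ?_
        rw [hyp, add_sub_cancel_left]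
        exact pure_mem_UT _ (LinearMap.mem_range_self β' _)
      · rw [sum_rows x]
        refine Submodule.sum_mem _ fun i _ => ?_
        obtain ⟨w, hw⟩ := hx i
        have h1 := hye (pure (Pi.single i 1) w)
        rw [hyp, add_sub_cancel_left, hw] at h1
        rw [h1]
        exact mulVec_mem_img (dis_mem a b _)
    refine mem_of_lines hO hN hg hl ?_ ?_ himg
    · intro h0
      have h1 := finrank_img g (UT k L)
      rw [himg, finrank_UT, finrank_UT, hl.finrank_eq, h0, finrank_bot] at h1
      have := S.hk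
      omega
    · intro v hv
      obtain ⟨u₁, hu₁⟩ : ∃ u, qU u ≠ 0 := by
        obtain ⟨e, he, hQe⟩ := exists_sing_ne S.ndU S.hk
        obtain ⟨v, -, hv⟩ := exists_nonsing_perp S.ndU S.hk he hQe
        exact ⟨v, hv⟩
      have h1 : pure u₁ v ∈ img g (UT k L) := himg ▸ pure_mem_UT u₁ hv
      obtain ⟨x, hx, hxv⟩ := mem_img.1 h1
      have h2 : 2 * qU u₁ * qW v = 0 := by
        rw [← Q_pure S, ← hxv, map_M hO hg]
        exact (mul_eq_zero.1 (show (2 : F) * Q x = 0 by
          rw [← polar_self']; exact sing_UT hO (fun w hw => hl.sing hw) hx hx)).resolve_left S.two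
      exact (mul_eq_zero.1 h2).resolve_left (mul_ne_zero S.two hu₁)

/-- `p`-subgroups containing a quadratic element preserve the decomposition -/
theorem mem_of_pgroup (p : ℕ) [Fact p.Prime] {R : Subgroup GLkn} (hR : IsPGroup p R) (hRM : R ≤ M)
    {a b : Wv} (hl : IsLine qW a b) (hT : tl k hl 1 ∈ R) : R ≤ Cfsg.Geo.kroneckerSubgroup k n F := by
  by_contra hne
  haveI : Group.IsNilpotent R := hR.isNilpotent
  have hlt : (Cfsg.Geo.kroneckerSubgroup k n F).subgroupOf R < ⊤ := by
    rw [lt_top_iff_ne_top, ne_eq, Subgroup.subgroupOf_eq_top]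
    exact hne
  obtain ⟨g, hg, hgH⟩ := SetLike.exists_of_lt (Group.normalizerCondition_of_isNilpotent _ hlt)
  refine hgH ?_
  rw [Subgroup.mem_subgroupOf]
  refine mem_of_conj hO hN (hRM g.2) hl ?_
  have := (Subgroup.mem_normalizer_iff.1 hg ⟨tl k hl 1, hT⟩).1 (by
    rw [Subgroup.mem_subgroupOf]; exact tl_kron hl 1)
  rw [Subgroup.mem_subgroupOf] at this
  simpa using this

end Cfsg.Agent.Forms.Max.OrthOrth
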