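import Cfsg.Agent.Lib.Forms.Max.OrthOrth.Conj
import Cfsg.Agent.Lib.Forms.Max.SympTensor.Comp

/-!
# Pairs of quadratic elements of lines: an overgroup without central elements preserves the decomposition

If `g` does not preserve the decomposition, then for all totally singular lines `L₁`, `L` the group generated
by the elements of `L₁` and the conjugates by `g` of those of `L` contains a central involution `1 ⊗ β`, whose
`-1`-eigenspace is `U ⊗ X` with `X` of dimension four, containing `U ⊗ L₁` and `g (U ⊗ L)`, which meet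
trivially.  No `g (U ⊗ L)` can have this property for all `L₁`.
-/

set_option autoImplicit false
set_option linter.unusedSectionVars false

namespace Cfsg.Agent.Forms.Max.OrthOrth

open Matrix Cfsg.Agent.Aschbacher Cfsg.Agent.Forms.QuadStd Cfsg.Agent.Forms.Reflections
  Cfsg.Agent.Classical.Orth Cfsg.Agent.Forms.Max.TensorMax
open Cfsg.Agent.Forms.Max.TensorRes (kr_mem_kron exists_kr)
open Cfsg.Agent.Forms.Max.TensorRes.Unitary (pure_add_left pure_smul_left pure_add_right pure_smul_right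
  pure_zero_left pure_zero_right pure_ne_zero pureR pureR_apply)

variable {F : Type*} [Field F] [Fintype F] {k n : ℕ}
variable {qU : QuadraticForm F (Fin k → F)} {qW : QuadraticForm F (Fin n → F)}
  {Q : QuadraticForm F (Fin k × Fin n → F)} {M : Subgroup (GL (Fin k × Fin n) F)}

local notation "B" => QuadraticMap.polar Q
local notation "bU" => QuadraticMap.polar qU
local notation "bW" => QuadraticMap.polar qW
local notation "Uv" => (Fin k → F)
local notation "Wv" => (Fin n → F)
local notation "Vv" => (Fin k × Fin n → F)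
local notation "GLkn" => GL (Fin k × Fin n) F
local notation "Mat" => Matrix (Fin k × Fin n) (Fin k × Fin n) F

theorem dis_pure (a b : Wv) (u : Uv) (w : Wv) :
    dis k qW a b *ᵥ pure u w = pure u (bW w a • b - bW w b • a) := by
  rw [dis_apply, eta_pure, eta_pure, pure_smul_left, pure_smul_left, sub_eq_add_neg (bW w a • b), ← neg_smul,
    pure_add_right, pure_smul_right, pure_smul_right]
  module

theorem dis_perp {a b : Wv} {x : Vv} (hx : ∀ i, TensorMax.row x i ∈ Orth.perp qW (lineSp (F := F) a b)) :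
    dis k qW a b *ᵥ x = 0 := by
  have h : ∀ v ∈ lineSp (F := F) a b, eta qW v x = 0 := fun v hv => funext fun i => by
    rw [eta_apply, QuadraticMap.polar_comm]; exact Orth.mem_perp.1 (hx i) v hv
  rw [dis_apply, h a (Submodule.subset_span (by simp)), h b (Submodule.subset_span (by simp)), pure_zero_left,
    pure_zero_left, sub_zero]

theorem row_sum_single (i : Fin k) (x : Fin k → Wv) :
    TensorMax.row (∑ j, pure (Pi.single j (1 : F)) (x j)) i = x i := by
  funext r
  simp [TensorMax.row, TensorMax.pure, Finset.sum_apply, Pi.single_apply]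

/-- the totally singular lines through a singular vector -/
theorem exists_line {a : Wv} (hq : (QuadraticMap.polarBilin qW).Nondegenerate) (hn : 5 ≤ n) (ha : a ≠ 0)
    (hQa : qW a = 0) : ∃ b, IsLine qW a b := by
  obtain ⟨a', hp⟩ := exists_pair_of hq ha hQa
  obtain ⟨b, hb, hb0, hQb⟩ := Orth.exists_sing hq (S := core qW a a') (by
    have := finrank_core (q := qW) hq a a'
    omega)
  obtain ⟨hb1, hb2⟩ := mem_core.1 hb
  refine ⟨b, ha, fun h => ?_, hQa, hQb, hb1⟩
  obtain ⟨c, rfl⟩ := Submodule.mem_span_singleton.1 h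
  rw [QuadraticMap.polar_smul_right, hp.hvu, smul_eq_mul, mul_one] at hb2
  exact hb0 (by rw [hb2, zero_smul])

variable (hO : Over qU qW Q M) (hN : NoCentral qW M) [hd : Fact (k < n ∧ 5 ≤ n)]
include hO hN hd

/-- involutions centralising a quadratic element -/
theorem involution_shape {z : GLkn} (hz : z ∈ M) (hz2 : z * z = 1) (hz1 : z ≠ 1) {a b : Wv}
    (hl : IsLine qW a b)
    (hcomm : ∀ v, (Units.val z) *ᵥ (dis k qW a b *ᵥ v) = dis k qW a b *ᵥ ((Units.val z) *ᵥ v))
    (him : ∀ v, dis k qW a b *ᵥ v = 0 → ∃ w, (Units.val z) *ᵥ v - v = dis k qW a b *ᵥ w) :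
    (∀ v ∈ UT k (lineSp (F := F) a b), (Units.val z) *ᵥ v = -v) ∧
      ∃ X : Submodule F Wv, Module.finrank F X ≤ 4 ∧ lineSp (F := F) a b ≤ X ∧
        ∀ v, (Units.val z) *ᵥ v = -v → v ∈ UT k X := by
  have S := hO.setup
  set L := lineSp (F := F) a b with hL
  have haL : a ∈ L := Submodule.subset_span (by simp)
  have hbL : b ∈ L := Submodule.subset_span (by simp)
  have hzk : z ∈ Cfsg.Geo.kroneckerSubgroup k n F := by
    refine mem_of_conj hO hN hz hl ?_
    have e : z * tl k hl 1 * z⁻¹ = tl k hl 1 := by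
      rw [mul_inv_eq_iff_eq_mul]
      refine gl_ext fun v => ?_
      rw [mulVec_mul_GL, mulVec_mul_GL, tl_coe hO hl, one_smul, Matrix.add_mulVec, Matrix.one_mulVec,
        Matrix.add_mulVec, Matrix.one_mulVec, mulVec_add, hcomm]
    rw [e]
    exact tl_kron hl 1
  obtain ⟨A, β, hAβ⟩ := exists_kr hzk
  have hperpL : Module.finrank F (Orth.perp qW L) + 2 = n := by
    have h := Orth.finrank_perp S.ndW L
    rwa [Fintype.card_fin, hl.finrank_eq] at h
  obtain ⟨w₀, hw₀, hw₀L⟩ : ∃ w ∈ Orth.perp qW L, w ∉ L := SetLike.not_le_iff_exists.1 fun hle => by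
    have h1 := Submodule.finrank_mono hle
    rw [hl.finrank_eq] at h1
    have := hd.out.2
    omega
  obtain ⟨ψ, hψ, hψL⟩ : ∃ ψ : Module.Dual F Wv, ψ w₀ ≠ 0 ∧ ∀ v ∈ L, ψ v = 0 := by
    obtain ⟨ψ, h1, h2⟩ := Submodule.exists_dual_map_eq_bot_of_notMem hw₀L inferInstance
    exact ⟨ψ, h1, fun v hv => by
      have := Submodule.mem_map_of_mem (f := ψ) hv
      rwa [h2, Submodule.mem_bot] at this⟩
  have hmod : ∀ u, ∀ w ∈ Orth.perp qW L, ∀ i, TensorMax.row ((Units.val z) *ᵥ pure u w - pure u w) i ∈ L :=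
    fun u w hw i => by
      obtain ⟨w', hw'⟩ := him (pure u w) (dis_perp fun i => by
        rw [row_pure]; exact Submodule.smul_mem _ _ hw)
      rw [hw']
      exact dis_mem a b w' i
  obtain ⟨s, hs⟩ : ∃ s : F, ∀ u, (Units.val A) *ᵥ u = s • u := by
    have h1 : ∀ u i, ((Units.val A) *ᵥ u) i * ψ ((Units.val β) *ᵥ w₀) = u i * ψ w₀ := fun u i => by
      have h := hψL _ (hmod u w₀ hw₀ i)
      rw [hAβ, kr_pure, show ∀ x x' : Vv, TensorMax.row (x - x') i = TensorMax.row x i - TensorMax.row x' i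
        from fun _ _ => rfl, row_pure, row_pure, map_sub, map_smul, map_smul, smul_eq_mul, smul_eq_mul] at h
      exact sub_eq_zero.1 h
    have hne : ψ ((Units.val β) *ᵥ w₀) ≠ 0 := fun h => by
      obtain ⟨u₀, hu₀, -⟩ := exists_sing_ne S.ndU S.hk
      obtain ⟨i, hi⟩ := Function.ne_iff.1 hu₀
      have := h1 u₀ i
      rw [h, mul_zero] at this
      exact mul_ne_zero hi hψ this.symm
    refine ⟨(ψ ((Units.val β) *ᵥ w₀))⁻¹ * ψ w₀, fun u => funext fun i => ?_⟩
    rw [Pi.smul_apply, smul_eq_mul]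
    refine mul_right_cancel₀ hne ?_
    rw [h1]
    field_simp
  set β' : Wv →ₗ[F] Wv := s • Matrix.toLin' (Units.val β) with hβ'
  have hzp : ∀ u w, (Units.val z) *ᵥ pure u w = pure u (β' w) := fun u w => by
    rw [hAβ, kr_pure, hs, pure_smul_left, ← pure_smul_right, hβ', LinearMap.smul_apply, Matrix.toLin'_apply]
  have hzrow : ∀ v i, TensorMax.row ((Units.val z) *ᵥ v) i = β' (TensorMax.row v i) := fun v i => by
    conv_lhs => rw [sum_rows v, mulVec_sum]
    simp only [hzp]
    exact row_sum_single i fun j => β' (TensorMax.row v j)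
  obtain ⟨u₀, hu₀, -⟩ := exists_sing_ne S.ndU S.hk
  have hright : ∀ {w w' : Wv}, pure u₀ w = pure u₀ w' → w = w' := fun {w w'} h => by
    obtain ⟨i, hi⟩ := Function.ne_iff.1 hu₀
    have := congrArg (fun x => TensorMax.row x i) h
    simp only [row_pure] at this
    exact smul_right_injective Wv hi this
  have hinvol : ∀ w, β' (β' w) = w := fun w => hright (by
    rw [← hzp, ← hzp, ← mulVec_mul_GL, hz2, Units.val_one, one_mulVec])
  have hiso : ∀ w w', bW (β' w) (β' w') = bW w w' := by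
    obtain ⟨u₁, hu₁⟩ := Orth.exists_ne S.ndU hu₀
    intro w w'
    have h := polar_M hO hz (pure u₀ w) (pure u₁ w')
    rw [hzp, hzp, S.mul, S.mul] at h
    exact mul_left_cancel₀ hu₁ h
  have hadj : ∀ w v, bW (β' w) v = bW w (β' v) := fun w v => by rw [← hiso w, hinvol]
  have hE : ∀ w, β' (bW w a • b - bW w b • a) = bW w (β' a) • b - bW w (β' b) • a := fun w => hright (by
    rw [← hzp, ← dis_pure, hcomm, hzp, dis_pure, hadj, hadj])
  have hLmap : ∀ w ∈ L, β' w ∈ L := by
    intro w hw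
    obtain ⟨x, hx⟩ := exists_dis (k := k) hl S.ndW (pure_mem_UT u₀ hw)
    have h1 : pure u₀ (β' w) ∈ UT k L := by
      rw [← hzp, ← hx, hcomm]
      exact dis_mem a b _
    obtain ⟨i, hi⟩ := Function.ne_iff.1 hu₀
    exact (Submodule.smul_mem_iff _ hi).1 (h1 i)
  obtain ⟨p, q, hpq⟩ := Submodule.mem_span_pair.1 (hLmap a haL)
  obtain ⟨r, t, hrt⟩ := Submodule.mem_span_pair.1 (hLmap b hbL)
  have hab' : a ∉ Submodule.span F {b} := fun h => by
    obtain ⟨c, hc⟩ := Submodule.mem_span_singleton.1 h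
    have hc0 : c ≠ 0 := fun h0 => hl.ne (by rw [← hc, h0, zero_smul])
    exact hl.indep (Submodule.mem_span_singleton.2 ⟨c⁻¹, by rw [← hc, inv_smul_smul₀ hc0]⟩)
  have hb0 : b ≠ 0 := fun h => hl.indep (by rw [h]; exact Submodule.zero_mem _)
  have hcoef : ∀ {x y x' y' : F}, x • a + y • b = x' • a + y' • b → x = x' ∧ y = y' := fun {x y x' y'} h => by
    have h1 : y = y' := by
      by_contra hne
      refine hl.indep (Submodule.mem_span_singleton.2 ⟨(y - y')⁻¹ * (x' - x), ?_⟩)
      rw [mul_smul, inv_smul_eq_iff₀ (sub_ne_zero.2 hne)]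
      linear_combination (norm := module) -h
    subst h1
    exact ⟨smul_left_injective F hl.ne (add_right_cancel h), rfl⟩
  obtain ⟨y₁, hy11, hy12⟩ := Orth.exists_perp_ne S.ndW hab'
  obtain ⟨y₂, hy21, hy22⟩ := Orth.exists_perp_ne S.ndW hl.indep
  have key : ∀ w, (bW w a * r - bW w b * p) • a + (bW w a * t - bW w b * q) • b =
      (-(r * bW w a + t * bW w b)) • a + (p * bW w a + q * bW w b) • b := fun w => by
    have h := hE w
    rw [map_sub, map_smul, map_smul, ← hpq, ← hrt, QuadraticMap.polar_add_right, QuadraticMap.polar_add_right,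
      QuadraticMap.polar_smul_right, QuadraticMap.polar_smul_right, QuadraticMap.polar_smul_right,
      QuadraticMap.polar_smul_right] at h
    simp only [smul_eq_mul] at h
    linear_combination (norm := module) h
  have k1 := hcoef (key y₁)
  have k2 := hcoef (key y₂)
  rw [QuadraticMap.polar_comm _ y₁ a, QuadraticMap.polar_comm _ y₁ b, hy11] at k1
  rw [QuadraticMap.polar_comm _ y₂ a, QuadraticMap.polar_comm _ y₂ b, hy21] at k2
  have htp : t = p := mul_left_cancel₀ hy12 (by linear_combination k1.2)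
  have hr0 : r = 0 := (mul_eq_zero.1 (show bW a y₁ * 2 * r = 0 by linear_combination k1.1)).resolve_left
    (mul_ne_zero hy12 S.two)
  have hq0 : q = 0 := (mul_eq_zero.1 (show bW b y₂ * 2 * q = 0 by linear_combination -k2.2)).resolve_left
    (mul_ne_zero hy22 S.two)
  have hLp : ∀ w ∈ L, β' w = p • w := fun w hw => by
    obtain ⟨x, y, rfl⟩ := Submodule.mem_span_pair.1 hw
    rw [map_add, map_smul, map_smul, ← hpq, ← hrt, hr0, hq0, htp]
    module
  have hpp : p * p = 1 := by
    have h := hinvol a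
    rw [hLp a haL, map_smul, hLp a haL, smul_smul] at h
    exact smul_left_injective F hl.ne (h.trans (one_smul F a).symm)
  have hperpd : ∀ w ∈ Orth.perp qW L, β' w - w ∈ L := fun w hw => by
    obtain ⟨i, hi⟩ := Function.ne_iff.1 hu₀
    have h := hmod u₀ w hw i
    rw [hzp, show ∀ x x' : Vv, TensorMax.row (x - x') i = TensorMax.row x i - TensorMax.row x' i
      from fun _ _ => rfl, row_pure, row_pure, ← smul_sub] at h
    exact (Submodule.smul_mem_iff _ hi).1 h
  have hp1 : p = -1 := by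
    refine ((mul_self_eq_one_iff.1 hpp).resolve_left fun hp1 => hz1 ?_)
    have hd : ∀ w, β' w - w ∈ L → β' w = w := fun w hw => by
      have h := hLp _ hw
      rw [map_sub, hinvol, hp1, one_smul] at h
      exact smul_right_injective Wv S.two (show (2 : F) • β' w = (2 : F) • w by
        linear_combination (norm := module) -h)
    have hfix : ∀ w, β' w = w := fun w => hd w (by
      rw [← Orth.perp_perp S.ndW L]
      refine Orth.mem_perp.2 fun v hv => ?_
      rw [QuadraticMap.polar_sub_right, ← hadj, hd v (hperpd v hv), sub_self])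
    exact gl_ext_pure fun u w => by rw [hzp, hfix, Units.val_one, one_mulVec]
  subst hp1
  refine ⟨fun v hv => TensorMax.ext_row fun i => ?_, LinearMap.ker (β' + LinearMap.id), ?_, fun w hw => ?_,
    fun v hv i => ?_⟩
  · rw [hzrow, hLp _ (hv i), neg_one_smul]
    rfl
  · set X := LinearMap.ker (β' + LinearMap.id)
    have h1 : X ⊓ Orth.perp qW L ≤ L := fun w ⟨hw1, hw2⟩ => by
      have h := hperpd w hw2
      have h' : β' w + w = 0 := LinearMap.mem_ker.1 hw1
      rw [eq_neg_of_add_eq_zero_left h'] at h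
      refine (Submodule.smul_mem_iff _ (neg_ne_zero.2 S.two)).1 ?_
      convert h using 1
      module
    have h2 := Submodule.finrank_sup_add_finrank_inf_eq X (Orth.perp qW L)
    have h3 := Submodule.finrank_le (X ⊔ Orth.perp qW L)
    have h4 := Submodule.finrank_mono h1
    rw [Module.finrank_fintype_fun_eq_card, Fintype.card_fin] at h3
    rw [hl.finrank_eq] at h4
    omega
  · rw [LinearMap.mem_ker, LinearMap.add_apply, LinearMap.id_apply, hLp w hw, neg_one_smul, neg_add_cancel]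
  · rw [LinearMap.mem_ker, LinearMap.add_apply, LinearMap.id_apply, ← hzrow, hv,
      show TensorMax.row (-v) i = -TensorMax.row v i from rfl, neg_add_cancel]

/-- the two images lie in one `U ⊗ X` and meet trivially -/
theorem pair_shape {g : GLkn} (hg : g ∈ M) (hgk : g ∉ Cfsg.Geo.kroneckerSubgroup k n F) {a b a₁ b₁ : Wv}
    (hl : IsLine qW a b) (hl₁ : IsLine qW a₁ b₁) :
    (∃ X : Submodule F Wv, Module.finrank F X ≤ 4 ∧ lineSp (F := F) a₁ b₁ ≤ X ∧
        img g (UT k (lineSp (F := F) a b)) ≤ UT k X) ∧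
      Disjoint (img g (UT k (lineSp (F := F) a b))) (UT k (lineSp (F := F) a₁ b₁)) := by
  have S := hO.setup
  obtain ⟨p, hp⟩ := CharP.exists F
  haveI : Fact p.Prime := ⟨(CharP.char_is_prime_or_zero F p).resolve_right (CharP.char_ne_zero_of_finite F p)⟩
  have hp2 : p ≠ 2 := by
    rintro rfl
    exact S.two (CharP.cast_eq_zero F 2)
  haveI : Nonempty (Fin k × Fin n) :=
    ⟨(⟨0, by have := S.hk; omega⟩, ⟨0, by have := hd.out.2; omega⟩)⟩
  haveI : CharP Mat p := charP_of_injective_algebraMap (algebraMap F Mat).injective p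
  set e := dis k qW a₁ b₁ with he'
  set f := (Units.val g : Mat) * dis k qW a b * (Units.val g⁻¹ : Mat) with hf'
  have he : e * e = 0 := dis_sq hl₁
  have hf : f * f = 0 := by
    simp only [hf', mul_assoc, Units.inv_mul_cancel_left]
    rw [← mul_assoc (dis k qW a b), dis_sq hl, zero_mul, mul_zero]
  have hfv : ∀ v, f *ᵥ v = (Units.val g) *ᵥ (dis k qW a b *ᵥ ((Units.val g⁻¹) *ᵥ v)) := fun v => by
    rw [hf', ← Matrix.mulVec_mulVec, ← Matrix.mulVec_mulVec]
  have he1 : ∀ t : F, (Units.val (tl k hl₁ t) : Mat) = 1 + t • e := tl_coe hO hl₁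
  have hf1 : ∀ t : F, (Units.val (g * tl k hl t * g⁻¹) : Mat) = 1 + t • f := fun t => by
    rw [Units.val_mul, Units.val_mul, tl_coe hO hl, mul_add, add_mul, mul_one, Units.mul_inv, Matrix.mul_smul,
      Matrix.smul_mul]
  set R := Subgroup.closure (SympTensor.Pair.gens F e f) with hR
  have hRM : R ≤ M := by
    refine (Subgroup.closure_le _).2 ?_
    rintro x ⟨t, hx | hx⟩
    · rw [show x = tl k hl₁ t from Units.ext (hx.trans (he1 t).symm)]
      exact tl_mem hO hl₁ t
    · rw [show x = g * tl k hl t * g⁻¹ from Units.ext (hx.trans (hf1 t).symm)]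
      exact mul_mem (mul_mem hg (tl_mem hO hl t)) (inv_mem hg)
  have hnn : ¬ IsNilpotent (SympTensor.Pair.cen e f) := fun hn => by
    have hP := SympTensor.Pair.isPGroup_of_nilpotent (F := F) he hf p hn
    refine hgk (mem_of_conj hO hN hg hl (mem_of_pgroup hO hN p hP hRM hl₁
      (Subgroup.subset_closure ⟨1, Or.inl (he1 1)⟩) ?_))
    exact Subgroup.subset_closure ⟨1, Or.inr (hf1 1)⟩
  obtain ⟨K, -⟩ := SympTensor.CompData.exists_of_not_nilpotent he hf hnn
  obtain ⟨z, hzR, hz2, hz1⟩ := K.exists_involution p hp2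
  have hzc := SympTensor.Pair.central_of_involution he hf S.two hzR hz2
  obtain ⟨hze, hzf, -⟩ := SympTensor.Pair.comm_of_mem he hf hzc
  obtain ⟨c, y, hy, hzy⟩ := SympTensor.Pair.cenAlg_form hzc
  obtain ⟨hye, hyf, hyC⟩ := SympTensor.Pair.comm_of_mem he hf hy
  have hzv : ∀ v, (Units.val z : Mat) *ᵥ v = c • v + y *ᵥ (SympTensor.Pair.cen e f *ᵥ v) := fun v => by
    rw [hzy, Matrix.add_mulVec, Algebra.algebraMap_eq_smul_one, Matrix.smul_mulVec, Matrix.one_mulVec, ← hyC.eq,
      Matrix.mulVec_mulVec]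
  -- the common kernel is fixed
  obtain ⟨x, hx, hx'⟩ : ∃ x, x ≠ 0 ∧ (e *ᵥ x = 0 ∧ f *ᵥ x = 0) := by
    set P₁ := UT k (Orth.perp qW (lineSp (F := F) a₁ b₁))
    set P := img g (UT k (Orth.perp qW (lineSp (F := F) a b)))
    have h1 : Module.finrank F P₁ = k * (n - 2) := by
      have h := Orth.finrank_perp S.ndW (lineSp (F := F) a₁ b₁)
      rw [hl₁.finrank_eq, Fintype.card_fin] at h
      rw [finrank_UT, show Module.finrank F (Orth.perp qW (lineSp (F := F) a₁ b₁)) = n - 2 by omega]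
    have h2 : Module.finrank F P = k * (n - 2) := by
      have h := Orth.finrank_perp S.ndW (lineSp (F := F) a b)
      rw [hl.finrank_eq, Fintype.card_fin] at h
      rw [finrank_img, finrank_UT, show Module.finrank F (Orth.perp qW (lineSp (F := F) a b)) = n - 2 by omega]
    have h3 := Submodule.finrank_sup_add_finrank_inf_eq P₁ P
    have h4 := Submodule.finrank_le (P₁ ⊔ P)
    rw [Module.finrank_fintype_fun_eq_card, Fintype.card_prod, Fintype.card_fin, Fintype.card_fin] at h4
    obtain ⟨x, ⟨hx1, hx2⟩, hx0⟩ := Submodule.exists_mem_ne_zero_of_ne_bot (p := P₁ ⊓ P) fun h0 => by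
      rw [h0, finrank_bot, h1, h2] at h3
      have hn := hd.out.2
      have h5 : k * 5 ≤ k * n := Nat.mul_le_mul_left _ hn
      rw [Nat.mul_sub_left_distrib] at h3
      have := S.hk
      omega
    obtain ⟨w, hw, rfl⟩ := mem_img.1 hx2
    exact ⟨_, hx0, dis_perp hx1, by rw [hfv, inv_mulVec_cancel, dis_perp hw, mulVec_zero]⟩
  have hfixx : ∀ r ∈ R, ∀ v, e *ᵥ v = 0 → f *ᵥ v = 0 → (Units.val r : Mat) *ᵥ v = v := by
    intro r hr v hev hfv'
    induction hr using Subgroup.closure_induction with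
    | mem r hr =>
      obtain ⟨t, hr | hr⟩ := hr <;> rw [hr, Matrix.add_mulVec, Matrix.one_mulVec, Matrix.smul_mulVec]
      · rw [hev, smul_zero, add_zero]
      · rw [hfv', smul_zero, add_zero]
    | one => rw [Units.val_one, one_mulVec]
    | mul r s _ _ h1 h2 => rw [mulVec_mul_GL, h2, h1]
    | inv r _ h1 => exact mulVec_inj r (by rw [mulVec_inv_cancel, h1])
  have hCv : ∀ v, SympTensor.Pair.cen e f *ᵥ v = e *ᵥ (f *ᵥ v) + f *ᵥ (e *ᵥ v) := fun v => by
    simp only [SympTensor.Pair.cen, Matrix.add_mulVec, ← Matrix.mulVec_mulVec]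
  have hc1 : c = 1 := by
    have h := hfixx z hzR x hx'.1 hx'.2
    rw [hzv, hCv, hx'.1, hx'.2, mulVec_zero, mulVec_zero, add_zero, mulVec_zero, add_zero] at h
    exact smul_left_injective F hx (h.trans (one_smul F x).symm)
  subst hc1
  have hzM : z ∈ M := hRM hzR
  obtain ⟨hneg, X, hX4, hLX, hX⟩ := involution_shape hO hN hzM hz2 hz1 hl₁
    (fun v => by rw [Matrix.mulVec_mulVec, Matrix.mulVec_mulVec, hze.eq])
    (fun v hv => ⟨y *ᵥ (f *ᵥ v), by
      change e *ᵥ v = 0 at hv
      rw [hzv, hCv, hv, mulVec_zero, add_zero, one_smul, add_sub_cancel_left, Matrix.mulVec_mulVec, hye.eq,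
        ← Matrix.mulVec_mulVec]⟩)
  set z' := g⁻¹ * z * g with hz'
  have hz'v : ∀ v, (Units.val g) *ᵥ ((Units.val z') *ᵥ v) = (Units.val z) *ᵥ ((Units.val g) *ᵥ v) := fun v => by
    rw [← mulVec_mul_GL, ← mulVec_mul_GL, hz', ← mul_assoc, mul_inv_cancel_left]
  have hdis : ∀ v, (Units.val g) *ᵥ (dis k qW a b *ᵥ v) = f *ᵥ ((Units.val g) *ᵥ v) := fun v => by
    rw [hfv, inv_mulVec_cancel]
  obtain ⟨hneg', -⟩ := involution_shape hO hN (z := z') (mul_mem (mul_mem (inv_mem hg) hzM) hg)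
    (by rw [hz', show g⁻¹ * z * g * (g⁻¹ * z * g) = g⁻¹ * (z * z) * g by group, hz2, mul_one, inv_mul_cancel])
    (fun h => hz1 (by
      have := congrArg (fun r => g * r * g⁻¹) h
      simpa [hz', mul_assoc] using this))
    hl
    (fun v => mulVec_inj g (by
      rw [hz'v, hdis, hdis, hz'v, Matrix.mulVec_mulVec, hzf.eq, ← Matrix.mulVec_mulVec]))
    (fun v hv => ⟨(Units.val g⁻¹) *ᵥ (y *ᵥ (e *ᵥ ((Units.val g) *ᵥ v))), mulVec_inj g (by
      rw [mulVec_sub, hz'v, hdis, mulVec_inv_cancel, hzv, hCv, show f *ᵥ ((Units.val g) *ᵥ v) = 0 by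
        rw [← hdis, hv, mulVec_zero], mulVec_zero, zero_add, one_smul, add_sub_cancel_left,
        Matrix.mulVec_mulVec, hyf.eq, ← Matrix.mulVec_mulVec])⟩)
  have hnegg : ∀ v ∈ img g (UT k (lineSp (F := F) a b)), (Units.val z) *ᵥ v = -v := fun v hv => by
    obtain ⟨w, hw, rfl⟩ := mem_img.1 hv
    rw [← hz'v, hneg' w hw, mulVec_neg]
  refine ⟨⟨X, hX4, hLX, fun v hv => hX v (hnegg v hv)⟩, Submodule.disjoint_def.2 fun v hv hv' => ?_⟩
  obtain ⟨w, hw⟩ := exists_dis hl₁ S.ndW hv'
  obtain ⟨w', hw', hwv⟩ := mem_img.1 hv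
  obtain ⟨w'', hw''⟩ := exists_dis hl S.ndW hw'
  have h1 : e *ᵥ v = 0 := by
    change e *ᵥ w = v at hw
    rw [← hw, Matrix.mulVec_mulVec, he, Matrix.zero_mulVec]
  have h2 : f *ᵥ v = 0 := by
    have h0 : dis k qW a b *ᵥ (dis k qW a b *ᵥ w'') = 0 := by
      rw [Matrix.mulVec_mulVec, dis_sq hl, Matrix.zero_mulVec]
    rw [← hwv, ← hw'', ← hdis, h0, mulVec_zero]
  have h3 := (hfixx z hzR v h1 h2).symm.trans (hnegg v hv)
  refine smul_right_injective Vv S.two (show (2 : F) • v = (2 : F) • (0 : Vv) from ?_)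
  linear_combination (norm := module) h3

/-- an overgroup without central elements preserves the decomposition -/
theorem le_kron : M ≤ Cfsg.Geo.kroneckerSubgroup k n F := by
  intro g hg
  by_contra hgk
  have S := hO.setup
  have hn := hd.out.2
  obtain ⟨a, ha, hQa⟩ := exists_sing_ne S.ndW (by omega)
  obtain ⟨b, hl⟩ := exists_line S.ndW hn ha hQa
  set T₀ := img g (UT k (lineSp (F := F) a b)) with hT₀
  have hdT : Module.finrank F T₀ = k * 2 := by rw [hT₀, finrank_img, finrank_UT, hl.finrank_eq]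
  have hTS : ∀ x ∈ T₀, ∀ y ∈ T₀, B x y = 0 := fun x hx y hy => by
    obtain ⟨x', hx', rfl⟩ := mem_img.1 hx
    obtain ⟨y', hy', rfl⟩ := mem_img.1 hy
    rw [polar_M hO hg]
    exact sing_UT hO (fun v hv => hl.sing hv) hx' hy'
  set Y : Submodule F Wv := Submodule.span F {v | ∃ x ∈ T₀, ∃ i, TensorMax.row x i = v} with hY
  have hTY : T₀ ≤ UT k Y := fun x hx i => Submodule.subset_span ⟨x, hx, i, rfl⟩
  have hYX : ∀ X : Submodule F Wv, T₀ ≤ UT k X → Y ≤ X := fun X hX => Submodule.span_le.2 (by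
    rintro v ⟨x, hx, i, rfl⟩
    exact hX hx i)
  have hY4 : Module.finrank F Y ≤ 3 := by
    by_contra hY4
    have hall : ∀ v, qW v = 0 → v ∈ Y := fun v hv => by
      rcases eq_or_ne v 0 with rfl | hv0
      · exact Y.zero_mem
      obtain ⟨b₁, hl₁⟩ := exists_line S.ndW hn hv0 hv
      obtain ⟨⟨X, hX4, hLX, hTX⟩, -⟩ := pair_shape hO hN hg hgk hl hl₁
      rw [Submodule.eq_of_le_of_finrank_le (hYX X hTX) (by omega)]
      exact hLX (Submodule.subset_span (by simp))
    obtain ⟨b₁, hl₁⟩ := exists_line S.ndW hn ha hQa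
    obtain ⟨⟨X, hX4, -, hTX⟩, -⟩ := pair_shape hO hN hg hgk hl hl₁
    have htop : (⊤ : Submodule F Wv) ≤ X := fun x _ => hYX X hTX (eq_top_of_sing S.ndW (by omega) hall x)
    have h5 := Submodule.finrank_mono htop
    rw [finrank_top, Module.finrank_fintype_fun_eq_card, Fintype.card_fin] at h5
    omega
  -- a non-zero vector of `T₀` with rows in the radical of `Y`
  set R := Y ⊓ Orth.perp qW Y with hR
  obtain ⟨x, hxT, hxR, hx0⟩ : ∃ x ∈ T₀, x ∈ UT k R ∧ x ≠ 0 := by
    set P := Orth.perp Q (UT k Y)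
    obtain ⟨x, ⟨hx1, hx2⟩, hx0⟩ := Submodule.exists_mem_ne_zero_of_ne_bot (p := T₀ ⊓ P) fun h0 => by
      have h1 := Submodule.finrank_sup_add_finrank_inf_eq T₀ P
      have h2 := Submodule.finrank_mono (show T₀ ⊔ P ≤ Orth.perp Q T₀ from sup_le
        (fun x hx => Orth.mem_perp.2 fun w hw => hTS w hw x hx)
        (fun x hx => Orth.mem_perp.2 fun w hw => Orth.mem_perp.1 hx w (hTY hw)))
      have h3 := Orth.finrank_perp S.nd T₀
      have h4 : Module.finrank F P + Module.finrank F (UT k Y) = Fintype.card (Fin k × Fin n) :=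
        Orth.finrank_perp S.nd (UT k Y)
      rw [Fintype.card_prod, Fintype.card_fin, Fintype.card_fin] at h3 h4
      rw [h0, finrank_bot] at h1
      rw [hdT] at h1 h3
      rw [finrank_UT] at h4
      have h6 := Nat.mul_le_mul_left k hY4
      have := S.hk
      omega
    refine ⟨x, hx1, fun i => ⟨hTY hx1 i, Orth.mem_perp.2 fun v hv => ?_⟩, hx0⟩
    rw [QuadraticMap.polar_comm]
    exact congrFun (eta_eq_zero S fun u => Orth.perp_comm hx2 (pure_mem_UT u hv)) i
  have hRTS : ∀ v ∈ R, qW v = 0 := fun v hv => by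
    have h := Orth.mem_perp.1 (Submodule.mem_inf.1 hv).2 v (Submodule.mem_inf.1 hv).1
    rw [polar_self'] at h
    exact (mul_eq_zero.1 h).resolve_left S.two
  obtain ⟨i, hi⟩ : ∃ i, TensorMax.row x i ≠ 0 := by
    by_contra hc
    push Not at hc
    exact hx0 (TensorMax.ext_row fun i => by rw [hc i]; rfl)
  set a₁ := TensorMax.row x i
  have ha₁ : a₁ ∈ R := hxR i
  obtain ⟨b₁, hl₁, hb₁⟩ : ∃ b₁, IsLine qW a₁ b₁ ∧ (b₁ ∈ R ∨ R ≤ Submodule.span F {a₁}) := by
    by_cases hR1 : R ≤ Submodule.span F {a₁}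
    · obtain ⟨b₁, hl₁⟩ := exists_line S.ndW hn hi (hRTS _ ha₁)
      exact ⟨b₁, hl₁, Or.inr hR1⟩
    · obtain ⟨b₁, hb₁, hb₁'⟩ := SetLike.not_le_iff_exists.1 hR1
      exact ⟨b₁, ⟨hi, hb₁', hRTS _ ha₁, hRTS _ hb₁, Orth.polar_of_sing hRTS ha₁ hb₁⟩, Or.inl hb₁⟩
  obtain ⟨-, hdisj⟩ := pair_shape hO hN hg hgk hl hl₁
  rcases hb₁ with hb₁ | hR1
  · have hL1R : lineSp (F := F) a₁ b₁ ≤ R := Submodule.span_le.2 (by rintro v (rfl | rfl) <;> assumption)
    by_cases hRL : R ≤ lineSp (F := F) a₁ b₁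
    · exact hx0 (Submodule.disjoint_def.1 hdisj x hxT fun j => hRL (hxR j))
    have hlt := Submodule.finrank_lt_finrank_of_lt (lt_of_le_not_ge hL1R hRL)
    rw [hl₁.finrank_eq] at hlt
    have h1 := Submodule.finrank_add_finrank_le_of_disjoint hdisj
    have h2 : T₀ ⊔ UT k (lineSp (F := F) a₁ b₁) ≤ UT k Y :=
      sup_le hTY fun v hv j => (Submodule.mem_inf.1 (hL1R (hv j))).1
    have h3 := Submodule.finrank_mono h2
    have h4 := Submodule.finrank_sup_add_finrank_inf_eq T₀ (UT k (lineSp (F := F) a₁ b₁))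
    rw [disjoint_iff.1 hdisj, finrank_bot, hdT, finrank_UT, hl₁.finrank_eq] at h4
    rw [finrank_UT] at h3
    have := Nat.mul_le_mul_left k hY4
    have := S.hk
    omega
  · exact hx0 (Submodule.disjoint_def.1 hdisj x hxT fun j =>
      Submodule.span_mono (Set.singleton_subset_iff.2 (by simp)) (hR1 (hxR j)))

end Cfsg.Agent.Forms.Max.OrthOrth
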