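import Cfsg.Agent.Lib.Forms.Max.OrthOrth.Basic

/-!
# A self-adjoint map commuting with its conjugates is scalar

The span of the conjugates is a commutative space of self-adjoint maps, invariant under `Ω(U)`.  The
abelian unipotent group of the Eichler transformations of a singular vector `e` fixes an element of it
modulo scalars, and such an element is a multiple of `x ↦ (x, e) e` modulo scalars; two of these do
not commute.
-/

set_option autoImplicit false
set_option linter.unusedSectionVars false

namespace Cfsg.Agent.Forms.Max.OrthOrth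

open Matrix Cfsg.Agent.Forms.QuadStd Cfsg.Agent.Forms.Reflections Cfsg.Agent.Classical.Orth

variable {F : Type*} [Field F] [Fintype F] {k n : ℕ}
variable {qU : QuadraticForm F (Fin k → F)} {qW : QuadraticForm F (Fin n → F)}
  {Q : QuadraticForm F (Fin k × Fin n → F)}

local notation "bU" => QuadraticMap.polar qU
local notation "Uv" => (Fin k → F)
local notation "EndU" => Module.End F (Fin k → F)

/-- conjugation -/
noncomputable def conjU (a : Cfsg.isometryGroup F ⇑qU) :
    Module.End F (Module.End F (Fin k → F)) :=
  LinearMap.mulLeft F (act a : Module.End F (Fin k → F)) *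
    LinearMap.mulRight F (act a⁻¹ : Module.End F (Fin k → F))

theorem conjU_apply (a : Cfsg.isometryGroup F ⇑qU) (X : EndU) (u : Uv) :
    conjU a X u = act a (X (act a⁻¹ u)) := rfl

theorem conjU_mul (a b : Cfsg.isometryGroup F ⇑qU) (X : EndU) : conjU a (conjU b X) = conjU (a * b) X :=
  LinearMap.ext fun u => by rw [conjU_apply, conjU_apply, conjU_apply, _root_.mul_inv_rev, act_mul, act_mul]

theorem conjU_map_mul (a : Cfsg.isometryGroup F ⇑qU) (X Y : EndU) :
    conjU a (X * Y) = conjU a X * conjU a Y :=
  LinearMap.ext fun u => by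
    simp only [conjU_apply, Module.End.mul_apply]
    rw [← act_mul a⁻¹ a, inv_mul_cancel, act_one]

theorem conjU_one (a : Cfsg.isometryGroup F ⇑qU) : conjU a (1 : EndU) = 1 :=
  LinearMap.ext fun u => by rw [conjU_apply, Module.End.one_apply, act_cancel_inv, Module.End.one_apply]

theorem eich_sub_nilpotent {e v : Uv} (he : qU e = 0) (hev : bU e v = 0) :
    IsNilpotent ((act (eich e v he hev) : EndU) - 1) := by
  have hve : bU v e = 0 := by rw [QuadraticMap.polar_comm]; exact hev
  refine ⟨3, LinearMap.ext fun x => ?_⟩
  simp only [pow_succ, pow_zero, one_mul, Module.End.mul_apply, LinearMap.sub_apply, Module.End.one_apply,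
    act_eich, map_add, map_sub, map_smul, LinearMap.zero_apply, QuadraticMap.polar_add_left,
    QuadraticMap.polar_sub_left, QuadraticMap.polar_smul_left, hve, hev, polar_self_zero he, smul_eq_mul]
  module

theorem conjU_eich_nilpotent {e v : Uv} (he : qU e = 0) (hev : bU e v = 0) :
    IsNilpotent (conjU (eich e v he hev) - 1) := by
  set a := eich e v he hev with ha
  have hev' : bU e (-v) = 0 := by rw [QuadraticMap.polar_neg_right, hev, neg_zero]
  have hinv : a⁻¹ = eich e (-v) he hev' := inv_eq_of_mul_eq_one_right (by
    rw [ha, eich_mul, eich_congr (add_neg_cancel v), eich_zero_right])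
  have h1 : IsNilpotent ((act a : EndU) - 1) := eich_sub_nilpotent he hev
  have h2 : IsNilpotent ((act a⁻¹ : EndU) - 1) := by rw [hinv]; exact eich_sub_nilpotent he hev'
  have e1 : conjU a - 1 = LinearMap.mulLeft F ((act a : EndU) - 1) * LinearMap.mulRight F (act a⁻¹ : EndU) +
      LinearMap.mulRight F ((act a⁻¹ : EndU) - 1) := LinearMap.ext fun X => by
    simp only [conjU, LinearMap.sub_apply, LinearMap.add_apply, Module.End.mul_apply, Module.End.one_apply,
      LinearMap.mulLeft_apply, LinearMap.mulRight_apply, sub_mul, mul_sub, one_mul, mul_one, mul_assoc]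
    abel
  have hl : IsNilpotent (LinearMap.mulLeft F ((act a : EndU) - 1)) := by
    obtain ⟨m, hm⟩ := h1
    exact ⟨m, by rw [LinearMap.pow_mulLeft, hm, LinearMap.mulLeft_zero_eq_zero]⟩
  have hr : IsNilpotent (LinearMap.mulRight F ((act a⁻¹ : EndU) - 1)) := by
    obtain ⟨m, hm⟩ := h2
    exact ⟨m, by rw [LinearMap.pow_mulRight, hm, LinearMap.mulRight_zero_eq_zero]⟩
  rw [e1]
  have hc1 : Commute (LinearMap.mulLeft F ((act a : EndU) - 1)) (LinearMap.mulRight F (act a⁻¹ : EndU)) :=
    LinearMap.commute_mulLeft_right _ _
  refine Commute.isNilpotent_add (Commute.mul_left (LinearMap.commute_mulLeft_right _ _) ?_)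
    (hc1.isNilpotent_mul_right hl) hr
  exact LinearMap.ext fun X => by
    simp only [Module.End.mul_apply, LinearMap.mulRight_apply, sub_mul, mul_sub, one_mul, mul_one, mul_assoc]

/-- a scalar map -/
def IsScal (X : Module.End F (Fin k → F)) : Prop := ∃ c : F, X = c • 1

/-- an element fixed modulo scalars by all `eich e v` -/
theorem exists_fixed {A : Submodule F EndU}
    (hA : ∀ a ∈ eGroup qU ⊤, ∀ X ∈ A, conjU a X ∈ A) {X₀ : EndU} (hX₀ : X₀ ∈ A) (h₀ : ¬ IsScal X₀)
    {e : Uv} (he : qU e = 0) :
    ∃ X ∈ A, ¬ IsScal X ∧ ∀ v (hev : bU e v = 0), IsScal (conjU (eich e v he hev) X - X) := by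
  classical
  suffices h : ∀ s : Finset Uv, ∃ X ∈ A, ¬ IsScal X ∧
      ∀ v ∈ s, ∀ (hev : bU e v = 0), IsScal (conjU (eich e v he hev) X - X) by
    obtain ⟨X, hX, hns, hfix⟩ := h Finset.univ
    exact ⟨X, hX, hns, fun v => hfix v (Finset.mem_univ v)⟩
  intro s
  induction s using Finset.induction with
  | empty => exact ⟨X₀, hX₀, h₀, fun v hv => absurd hv (Finset.notMem_empty v)⟩
  | @insert v s hvs ih =>
    obtain ⟨X, hX, hns, hfix⟩ := ih
    by_cases hev : bU e v = 0
    swap
    · exact ⟨X, hX, hns, fun w hw hew => hfix w ((Finset.mem_insert.1 hw).resolve_left fun h => hev (h ▸ hew)) hew⟩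
    set D : Module.End F EndU := conjU (eich e v he hev) - 1 with hD
    obtain ⟨m, hm⟩ := conjU_eich_nilpotent he hev
    have hex : ∃ j, IsScal ((D ^ j) X) := ⟨m, 0, by rw [hD, hm, LinearMap.zero_apply, zero_smul]⟩
    have hj : Nat.find hex ≠ 0 := fun h => hns (by
      have := Nat.find_spec hex
      rwa [h, pow_zero, Module.End.one_apply] at this)
    set j := Nat.find hex - 1 with hjdef
    have hmem : ∀ i, (D ^ i) X ∈ A := by
      intro i
      induction i with
      | zero => rwa [pow_zero, Module.End.one_apply]
      | succ i hi =>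
        rw [pow_succ', Module.End.mul_apply, hD, LinearMap.sub_apply, Module.End.one_apply, ← hD]
        exact A.sub_mem (hA _ (eich_mem he hev Submodule.mem_top Submodule.mem_top) _ hi) hi
    refine ⟨(D ^ j) X, hmem j, Nat.find_min hex (by omega), fun w hw hew => ?_⟩
    rcases Finset.mem_insert.1 hw with rfl | hw
    · show IsScal (D ((D ^ j) X))
      rw [← Module.End.mul_apply, ← pow_succ', show j + 1 = Nat.find hex by omega]
      exact Nat.find_spec hex
    · obtain ⟨c, hc⟩ := hfix w hw hew
      have hcomm : Commute D (conjU (eich e w he hew) - 1) := by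
        rw [hD]
        suffices h : Commute (conjU (eich e v he hev)) (conjU (eich e w he hew)) by
          refine LinearMap.ext fun Y => ?_
          have h' := LinearMap.congr_fun h.eq Y
          simp only [Module.End.mul_apply, LinearMap.sub_apply, Module.End.one_apply, map_sub] at h' ⊢
          rw [h']
          abel
        exact LinearMap.ext fun Y => by
          rw [Module.End.mul_apply, Module.End.mul_apply, conjU_mul, conjU_mul, eich_mul, eich_mul,
            eich_congr (add_comm v w)]
      show IsScal ((conjU (eich e w he hew) - 1) ((D ^ j) X))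
      rw [← Module.End.mul_apply, ← (hcomm.pow_left j).eq, Module.End.mul_apply, LinearMap.sub_apply,
        Module.End.one_apply, hc]
      have hD1 : D (1 : EndU) = 0 := by
        rw [hD, LinearMap.sub_apply, Module.End.one_apply, conjU_one, sub_self]
      rcases j with _ | j
      · exact ⟨c, by rw [pow_zero, Module.End.one_apply]⟩
      · exact ⟨0, by rw [pow_succ, Module.End.mul_apply, map_smul, hD1, smul_zero, map_zero, zero_smul]⟩

/-- vectors are determined by their pairings -/
theorem ext_bU (hq : (QuadraticMap.polarBilin qU).Nondegenerate) {a b : Uv} (h : ∀ x, bU a x = bU b x) : a = b :=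
  sub_eq_zero.1 (hq.1 _ fun x => by rw [QuadraticMap.polarBilin_apply_apply, QuadraticMap.polar_sub_left, h, sub_self])

variable (S : Setup qU qW Q)
include S

/-- the elements fixed modulo scalars -/
theorem fixed_eq {X : EndU} (hs : ∀ u v, bU (X u) v = bU u (X v)) {e e' : Uv} (hp : IsPair qU e e')
    (hfix : ∀ v (hev : bU e v = 0), IsScal (conjU (eich e v hp.hu hev) X - X)) :
    ∃ l m : F, ∀ u, X u = l • u + (m * bU u e) • e := by
  have h2 := S.two
  have base : ∀ v, bU e v = 0 → ∃ c : F, ∀ u, bU (X u) e • v - bU (X u) v • e - (qU v * bU (X u) e) • e -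
      (bU u e • X v - bU u v • X e - (qU v * bU u e) • X e) = c • (u + bU u e • v - bU u v • e - (qU v * bU u e) • e) := by
    intro v hev
    obtain ⟨c, hc⟩ := hfix v hev
    refine ⟨c, fun u => ?_⟩
    have h1 := LinearMap.congr_fun hc (act (eich e v hp.hu hev) u)
    rw [LinearMap.sub_apply, conjU_apply, Spinor.act_inv_cancel, LinearMap.smul_apply, Module.End.one_apply] at h1
    rw [act_eich, act_eich] at h1
    rw [map_sub, map_sub, map_add, map_smul, map_smul, map_smul] at h1
    linear_combination (norm := module) h1
  obtain ⟨z, hz, hQz⟩ := exists_aniso_core S.ndU hp S.hk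
  obtain ⟨hz1, hz2⟩ := mem_core.1 hz
  set y := X e with hy
  have hye : bU y e = 0 := by
    obtain ⟨c, hc⟩ := base z hz1
    have h1 := congrArg (fun x => bU x z) (hc e)
    simp only [QuadraticMap.polar_add_left, QuadraticMap.polar_sub_left, QuadraticMap.polar_smul_left,
      polar_self_zero hp.hu, hz1, ← hy, smul_eq_mul] at h1
    rw [polar_self'] at h1
    exact (mul_eq_zero.1 (show bU y e * (2 * qU z) = 0 by linear_combination h1)).resolve_right
      (mul_ne_zero h2 hQz)
  have hc0 : ∀ v, bU e v = 0 → ∀ u, bU (X u) e • v - bU (X u) v • e - (qU v * bU (X u) e) • e -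
      (bU u e • X v - bU u v • y - (qU v * bU u e) • y) = (-bU y v) • (u + bU u e • v - bU u v • e - (qU v * bU u e) • e) := by
    intro v hev u
    obtain ⟨c, hc⟩ := base v hev
    have h1 := congrArg (fun x => bU x e') (hc e)
    simp only [QuadraticMap.polar_add_left, QuadraticMap.polar_sub_left, QuadraticMap.polar_smul_left,
      polar_self_zero hp.hu, hev, ← hy, hye, hp.huv, smul_eq_mul] at h1
    rw [show -bU y v = c by linear_combination h1]
    exact hc u
  -- pairing of two vectors of `e^⊥` with a vector of the core
  have tri : ∀ x v w, bU e x = 0 → bU e v = 0 → w ∈ core qU e e' →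
      bU x y * bU v w + bU x v * bU y w + bU y v * bU x w = 0 := by
    intro x v w hx hv hw
    have h1 := congrArg (fun r => bU r w) (hc0 v hv x)
    simp only [QuadraticMap.polar_add_left, QuadraticMap.polar_sub_left, QuadraticMap.polar_smul_left,
      hs x e, ← hy, (mem_core.1 hw).1, QuadraticMap.polar_comm _ x e, hx, smul_eq_mul] at h1
    linear_combination h1
  have hycore : ∀ w ∈ core qU e e', bU y w = 0 := by
    by_cases hk4 : 4 ≤ k
    · obtain ⟨w₀, hw₀, hzw, hQw₀⟩ : ∃ w₀ ∈ core qU e e', bU z w₀ = 0 ∧ qU w₀ ≠ 0 := by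
        by_contra hc
        push Not at hc
        obtain ⟨r, hr, hr0⟩ := Submodule.exists_mem_ne_zero_of_ne_bot
            (p := core qU e e' ⊓ LinearMap.ker (polB qU z)) fun h0 => by
          have h1 := Submodule.finrank_sup_add_finrank_inf_eq (core qU e e') (LinearMap.ker (polB qU z))
          have h2 := Submodule.finrank_le (core qU e e' ⊔ LinearMap.ker (polB qU z))
          have h3 := finrank_core (q := qU) S.ndU e e'
          have h4 := LinearMap.finrank_range_add_finrank_ker (polB qU z)
          have h5 := Submodule.finrank_le (LinearMap.range (polB qU z))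
          rw [h0, finrank_bot] at h1
          rw [Module.finrank_self] at h5
          rw [Module.finrank_fintype_fun_eq_card, Fintype.card_fin] at h2 h4
          omega
        obtain ⟨hr1, hr2⟩ := Submodule.mem_inf.1 hr
        obtain ⟨s, hs', hrs⟩ := core_nondeg S.ndU hp r hr1 hr0
        have hzz : bU z z ≠ 0 := by rw [polar_self']; exact mul_ne_zero h2 hQz
        have hzr : bU z r = 0 := hr2
        refine hrs ?_
        have hs2 : s - (bU z s * (bU z z)⁻¹) • z ∈ core qU e e' ⊓ LinearMap.ker (polB qU z) := by
          refine ⟨Submodule.sub_mem _ hs' (Submodule.smul_mem _ _ hz), ?_⟩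
          show bU z _ = 0
          rw [QuadraticMap.polar_sub_right, QuadraticMap.polar_smul_right, smul_eq_mul,
            inv_mul_cancel_right₀ hzz, sub_self]
        have h3 := Orth.polar_of_sing (S := core qU e e' ⊓ LinearMap.ker (polB qU z))
          (fun w hw => hc w (Submodule.mem_inf.1 hw).1 (Submodule.mem_inf.1 hw).2) hr hs2
        rwa [QuadraticMap.polar_sub_right, QuadraticMap.polar_smul_right, QuadraticMap.polar_comm _ r z, hzr,
          smul_zero, sub_zero] at h3
      have hw0 := (mem_core.1 hw₀).1
      have hyz : bU y z = 0 := by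
        have h1 := tri z w₀ w₀ hz1 hw0 hw₀
        rw [hzw, polar_self', QuadraticMap.polar_comm _ z y] at h1
        exact (mul_eq_zero.1 (show bU y z * (2 * qU w₀) = 0 by linear_combination h1)).resolve_right
          (mul_ne_zero h2 hQw₀)
      intro w hw
      have h1 := tri z z w hz1 hz1 hw
      rw [polar_self', QuadraticMap.polar_comm _ z y, hyz] at h1
      exact (mul_eq_zero.1 (show bU y w * (2 * qU z) = 0 by linear_combination h1)).resolve_right
        (mul_ne_zero h2 hQz)
    · -- `k = 3` and `5 ≤ |F|`
      have hq5 : 5 ≤ Fintype.card F := S.exU.resolve_right hk4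
      obtain ⟨t, ht0, ht⟩ : ∃ t : F, t ≠ 0 ∧ t * t ≠ 1 := by
        classical
        obtain ⟨t, -, ht⟩ := Finset.exists_mem_notMem_of_card_lt_card (s := ({0, 1, -1} : Finset F))
          (t := Finset.univ) (by
            have : ({0, 1, -1} : Finset F).card ≤ 3 := Finset.card_le_three
            rw [Finset.card_univ]; omega)
        simp only [Finset.mem_insert, Finset.mem_singleton, not_or] at ht
        exact ⟨t, ht.1, fun h => (mul_self_eq_one_iff.1 h).elim ht.2.1 ht.2.2⟩
      have cub : ∀ s : F, bU y z * qU z * (s * s * s) + 2 * bU (X e') z * s = 0 := fun s => by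
        have hev : bU e (s • z) = 0 := by rw [QuadraticMap.polar_smul_right, hz1, smul_zero]
        have h1 := congrArg (fun r => bU r e') (hc0 (s • z) hev e')
        simp only [QuadraticMap.polar_add_left, QuadraticMap.polar_sub_left, QuadraticMap.polar_smul_left,
          QuadraticMap.polar_smul_right, Classical.Orth.map_smul', map_smul, hs e' e, hs z e', ← hy, hp.huv,
          hp.hvu, polar_self_zero hp.hv, QuadraticMap.polar_comm _ z e', hz2, QuadraticMap.polar_comm _ e' y,
          QuadraticMap.polar_comm _ z (X e'), smul_eq_mul] at h1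
        linear_combination -h1
      have h1 := cub 1
      have ht' : bU y z * qU z * (t * (t * t - 1)) = 0 := by linear_combination cub t - t * h1
      have hyz : bU y z = 0 := by
        have := (mul_eq_zero.1 ht').resolve_right (mul_ne_zero ht0 (sub_ne_zero.2 ht))
        exact (mul_eq_zero.1 this).resolve_right hQz
      intro w hw
      have hfr : Module.finrank F (core qU e e') ≤ 1 := by
        have hd : Disjoint (core qU e e') (Submodule.span F ({e, e'} : Set Uv)) :=
          Submodule.disjoint_def.2 fun r hr1 hr2 => by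
            obtain ⟨a, c, rfl⟩ := Submodule.mem_span_pair.1 hr2
            obtain ⟨g1, g2⟩ := mem_core.1 hr1
            simp only [QuadraticMap.polar_add_right, QuadraticMap.polar_smul_right, polar_self_zero hp.hu,
              polar_self_zero hp.hv, hp.huv, hp.hvu, smul_eq_mul, mul_zero, mul_one, zero_add, add_zero] at g1 g2
            simp [g1, g2]
        have h6 := Submodule.finrank_add_finrank_le_of_disjoint hd
        rw [Module.finrank_fintype_fun_eq_card, Fintype.card_fin] at h6
        have h7 : Module.finrank F (Submodule.span F ({e, e'} : Set Uv)) = 2 := by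
          have hli : LinearIndependent F ![e, e'] := LinearIndependent.pair_iff.2 fun a c h => by
            have g1 := congrArg (fun r => bU r e) h
            have g2 := congrArg (fun r => bU r e') h
            simp only [QuadraticMap.polar_add_left, QuadraticMap.polar_smul_left, polar_self_zero hp.hu,
              polar_self_zero hp.hv, hp.huv, hp.hvu, smul_eq_mul, mul_zero, mul_one, zero_add, add_zero,
              QuadraticMap.polar_zero_left] at g1 g2
            exact ⟨g2, g1⟩
          have := finrank_span_eq_card hli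
          rwa [Matrix.range_cons_cons_empty, Fintype.card_fin] at this
        omega
      have hz0 : z ≠ 0 := fun h => hQz (by rw [h, QuadraticMap.map_zero])
      obtain ⟨c, hc⟩ := exists_smul_eq_of_finrank_eq_one (V := core qU e e')
        (le_antisymm hfr (Submodule.one_le_finrank_iff.2 fun h => hz0 ((Submodule.mem_bot F).1 (h ▸ hz))))
        (show (⟨z, hz⟩ : core qU e e') ≠ 0 from fun h => hz0 (congrArg Subtype.val h)) ⟨w, hw⟩
      rw [show w = c • z from (congrArg Subtype.val hc).symm, QuadraticMap.polar_smul_right, hyz, smul_zero]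
  -- now `X e = l e` and all commute
  set l := bU y e' with hl
  have hyl : y = l • e := by
    refine ext_bU S.ndU fun x => ?_
    rw [proj_add (Q := qU) e e' x, QuadraticMap.polar_add_right, QuadraticMap.polar_add_right,
      hycore _ (proj_core hp x), QuadraticMap.polar_smul_right, QuadraticMap.polar_smul_right, hye, ← hl]
    simp only [QuadraticMap.polar_smul_left, QuadraticMap.polar_add_right, QuadraticMap.polar_smul_right,
      polar_self_zero hp.hu, hp.huv, (mem_core.1 (proj_core hp x)).1, smul_eq_mul]
    ring
  have hcore : ∀ v ∈ core qU e e', X v = l • v ∧ bU (X e') v = 0 := by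
    intro v hv
    obtain ⟨hv1, hv2⟩ := mem_core.1 hv
    have h1 := hc0 v hv1 e'
    rw [hs e' e, ← hy, hycore v hv, hp.hvu, hv2, QuadraticMap.polar_comm _ e' y, ← hl, hyl] at h1
    have h3 : X v = l • v - bU (X e') v • e := by linear_combination (norm := module) -h1
    have h4 := congrArg (fun r => bU r e') h3
    simp only [QuadraticMap.polar_sub_left, QuadraticMap.polar_smul_left, hp.huv, hs v e', smul_eq_mul,
      QuadraticMap.polar_comm _ v e', hv2, QuadraticMap.polar_comm _ v (X e')] at h4
    have h5 : bU (X e') v = 0 := (mul_eq_zero.1 (show (2 : F) * bU (X e') v = 0 by linear_combination h4)).resolve_left h2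
    exact ⟨by rw [h3, h5, zero_smul, sub_zero], h5⟩
  set m := bU (X e') e' with hm
  have he' : X e' = l • e' + m • e := by
    refine ext_bU S.ndU fun x => ?_
    rw [proj_add (Q := qU) e e' x]
    simp only [QuadraticMap.polar_add_left, QuadraticMap.polar_smul_left, QuadraticMap.polar_add_right,
      QuadraticMap.polar_smul_right, (hcore _ (proj_core hp x)).2, hs e' e, ← hy, hyl, ← hm,
      polar_self_zero hp.hu, polar_self_zero hp.hv, hp.huv, hp.hvu, (mem_core.1 (proj_core hp x)).1,
      (mem_core.1 (proj_core hp x)).2, smul_eq_mul]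
    ring
  refine ⟨l, m, fun u => ?_⟩
  conv_lhs => rw [proj_add (Q := qU) e e' u, map_add, map_add, map_smul, map_smul, (hcore _ (proj_core hp u)).1,
    he', ← hy, hyl]
  nth_rewrite 4 [proj_add (Q := qU) e e' u]
  module

/-- a self-adjoint map commuting with all its conjugates is scalar -/
theorem scalar_of_comm {X : EndU} (hs : ∀ u v, bU (X u) v = bU u (X v))
    (hc : ∀ a ∈ eGroup qU ⊤, Commute (conjU a X) X) : IsScal X := by
  by_contra hns
  set A := Submodule.span F {Y : EndU | ∃ a ∈ eGroup qU ⊤, Y = conjU a X} with hA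
  have hXA : X ∈ A := Submodule.subset_span ⟨1, one_mem _, by
    refine LinearMap.ext fun u => ?_
    rw [conjU_apply, inv_one, act_one, act_one]⟩
  have hinv : ∀ a ∈ eGroup qU ⊤, ∀ Y ∈ A, conjU a Y ∈ A := fun a ha Y hY => by
    induction hY using Submodule.span_induction with
    | mem Y hY =>
      obtain ⟨b, hb, rfl⟩ := hY
      exact Submodule.subset_span ⟨a * b, mul_mem ha hb, conjU_mul a b X⟩
    | zero => rw [map_zero]; exact A.zero_mem
    | add Y Z _ _ h1 h2 => rw [map_add]; exact A.add_mem h1 h2
    | smul c Y _ h1 => rw [map_smul]; exact A.smul_mem c h1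
  have hcomm : ∀ Y ∈ A, ∀ Z ∈ A, Commute Y Z := by
    have h1 : ∀ a ∈ eGroup qU ⊤, ∀ b ∈ eGroup qU ⊤, Commute (conjU a X) (conjU b X) := fun a ha b hb => by
      have h := hc _ (mul_mem (inv_mem hb) ha)
      have h' := congrArg (conjU b) h.eq
      rwa [conjU_map_mul, conjU_map_mul, conjU_mul, mul_inv_cancel_left] at h'
    intro Y hY Z hZ
    induction hY using Submodule.span_induction with
    | mem Y hY =>
      obtain ⟨a, ha, rfl⟩ := hY
      induction hZ using Submodule.span_induction with
      | mem Z hZ => obtain ⟨b, hb, rfl⟩ := hZ; exact h1 a ha b hb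
      | zero => exact Commute.zero_right _
      | add _ _ _ _ g1 g2 => exact g1.add_right g2
      | smul c _ _ g1 => exact g1.smul_right c
    | zero => exact Commute.zero_left _
    | add _ _ _ _ g1 g2 => exact g1.add_left g2
    | smul c _ _ g1 => exact g1.smul_left c
  have hsa : ∀ Y ∈ A, ∀ u v, bU (Y u) v = bU u (Y v) := fun Y hY => by
    induction hY using Submodule.span_induction with
    | mem Y hY =>
      obtain ⟨a, ha, rfl⟩ := hY
      intro u v
      rw [conjU_apply, conjU_apply, ← act_polar a⁻¹ (act a _) v, Spinor.act_inv_cancel, hs,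
        ← act_polar a (act a⁻¹ u), act_cancel_inv]
    | zero => intro u v; simp
    | add Y Z _ _ h1 h2 =>
      intro u v
      rw [LinearMap.add_apply, LinearMap.add_apply, QuadraticMap.polar_add_left, QuadraticMap.polar_add_right,
        h1, h2]
    | smul c Y _ h1 =>
      intro u v
      rw [LinearMap.smul_apply, LinearMap.smul_apply, QuadraticMap.polar_smul_left, QuadraticMap.polar_smul_right, h1]
  obtain ⟨e, he, hQe⟩ := exists_sing_ne S.ndU S.hk
  obtain ⟨e', hp⟩ := exists_pair_of S.ndU he hQe
  have he'0 : e' ≠ 0 := fun h => by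
    have h1 := hp.huv
    rw [h, QuadraticMap.polar_zero_right] at h1
    exact zero_ne_one h1
  obtain ⟨Y, hY, hYns, hfix⟩ := exists_fixed hinv hXA hns hQe
  obtain ⟨l, m, hY'⟩ := fixed_eq S (hsa Y hY) hp hfix
  have hm : m ≠ 0 := fun h => hYns ⟨l, LinearMap.ext fun u => by
    rw [hY', h, zero_mul, zero_smul, add_zero, LinearMap.smul_apply, Module.End.one_apply]⟩
  obtain ⟨g, hg, a, ha, hga⟩ := exists_move S.ndU S.hk he hQe he'0 hp.hv
  have hZ : ∀ u, conjU g Y u = l • u + (m * a * a * bU u e') • e' := fun u => by
    rw [conjU_apply, hY', map_add, map_smul, map_smul, act_cancel_inv, hga, ← act_polar g (act g⁻¹ u) e,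
      act_cancel_inv, hga, QuadraticMap.polar_smul_right, smul_smul]
    simp only [smul_eq_mul]
    ring_nf
  have h1 := congrArg (fun r => bU r e') (LinearMap.congr_fun (hcomm Y hY _ (hinv g hg Y hY)).eq e)
  simp only [Module.End.mul_apply, hZ, hY', map_add, map_smul, QuadraticMap.polar_add_left,
    QuadraticMap.polar_smul_left, polar_self_zero hQe, polar_self_zero hp.hv, hp.huv, hp.hvu, smul_eq_mul,
    mul_zero, zero_mul, mul_one, add_zero, zero_add] at h1
  exact mul_ne_zero (mul_ne_zero hm hm) (mul_ne_zero ha ha) (by linear_combination h1)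

end Cfsg.Agent.Forms.Max.OrthOrth
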