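import Cfsg.Agent.Lib.Forms.Max.OrthOrth.Scalar

/-!
# Pairs of self-adjoint maps whose weighted commutators with all conjugates vanish

The two maps are the contractions of a radical element with an orthogonal basis of an anisotropic plane.
The span of the conjugates of the pairs contains, unless all are scalar, a pair of the form
`(mᵢ (x, e) e)` modulo scalars, and the weights form an anisotropic form, so this pair does not
commute with its translate at an opposite singular vector.
-/

set_option autoImplicit false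
set_option linter.unusedSectionVars false

namespace Cfsg.Agent.Forms.Max.OrthOrth

open Matrix Cfsg.Agent.Forms.QuadStd Cfsg.Agent.Forms.Reflections Cfsg.Agent.Classical.Orth

variable {F : Type*} [Field F] [Fintype F] {k n : ℕ}
variable {qU : QuadraticForm F (Fin k → F)} {qW : QuadraticForm F (Fin n → F)}
  {Q : QuadraticForm F (Fin k × Fin n → F)}

local notation "bU" => QuadraticMap.polar qU
local notation "Uv" => (Fin k → F)
local notation "EndU" => Module.End F (Fin k → F)

variable (S : Setup qU qW Q)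
include S

/-- weighted commutators of conjugates vanish only for scalar pairs -/
theorem scalar_pair {T : Set (EndU × EndU)}
    (hs : ∀ p ∈ T, (∀ u v, bU (p.1 u) v = bU u (p.1 v)) ∧ ∀ u v, bU (p.2 u) v = bU u (p.2 v))
    (hinv : ∀ a ∈ eGroup qU ⊤, ∀ p ∈ T, (conjU a p.1, conjU a p.2) ∈ T) {d₁ d₂ : F}
    (hrel : ∀ p ∈ T, ∀ r ∈ T, d₁ • (p.1 * r.1 - r.1 * p.1) + d₂ • (p.2 * r.2 - r.2 * p.2) = 0)
    (hd : ∀ m₁ m₂ : F, d₁ * m₁ ^ 2 + d₂ * m₂ ^ 2 = 0 → m₁ = 0 ∧ m₂ = 0) {p : EndU × EndU} (hp : p ∈ T) :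
    IsScal p.1 ∧ IsScal p.2 := by
  set A := Submodule.span F T with hA
  have hsA : ∀ r ∈ A, (∀ u v, bU (r.1 u) v = bU u (r.1 v)) ∧ ∀ u v, bU (r.2 u) v = bU u (r.2 v) := by
    intro r hr
    induction hr using Submodule.span_induction with
    | mem r hr => exact hs r hr
    | zero => exact ⟨fun u v => by simp, fun u v => by simp⟩
    | add r r' _ _ h h' =>
      refine ⟨fun u v => ?_, fun u v => ?_⟩ <;>
        simp only [Prod.fst_add, Prod.snd_add, LinearMap.add_apply, QuadraticMap.polar_add_left,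
          QuadraticMap.polar_add_right, h.1 u v, h'.1 u v, h.2 u v, h'.2 u v]
    | smul c r _ h =>
      refine ⟨fun u v => ?_, fun u v => ?_⟩ <;>
        simp only [Prod.smul_fst, Prod.smul_snd, LinearMap.smul_apply, QuadraticMap.polar_smul_left,
          QuadraticMap.polar_smul_right, h.1 u v, h.2 u v]
  have hiA : ∀ a ∈ eGroup qU ⊤, ∀ r ∈ A, (conjU a r.1, conjU a r.2) ∈ A := by
    intro a ha r hr
    have hle : A ≤ A.comap ((conjU a).prodMap (conjU a)) :=
      Submodule.span_le.2 fun r hr => Submodule.subset_span (hinv a ha r hr)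
    exact hle hr
  have hrA : ∀ p ∈ A, ∀ r ∈ A, d₁ • (p.1 * r.1 - r.1 * p.1) + d₂ • (p.2 * r.2 - r.2 * p.2) = 0 := by
    intro p hp r hr
    induction hp using Submodule.span_induction with
    | mem p hp =>
      induction hr using Submodule.span_induction with
      | mem r hr => exact hrel p hp r hr
      | zero => simp
      | add r r' _ _ h h' =>
        simp only [Prod.fst_add, Prod.snd_add, mul_add, add_mul]
        linear_combination (norm := module) h + h'
      | smul c r _ h =>
        simp only [Prod.smul_fst, Prod.smul_snd, mul_smul_comm, smul_mul_assoc]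
        linear_combination (norm := module) c • h
    | zero => simp
    | add p p' _ _ h h' =>
      simp only [Prod.fst_add, Prod.snd_add, mul_add, add_mul]
      linear_combination (norm := module) h + h'
    | smul c p _ h =>
      simp only [Prod.smul_fst, Prod.smul_snd, mul_smul_comm, smul_mul_assoc]
      linear_combination (norm := module) c • h
  obtain ⟨e, he, hQe⟩ := exists_sing_ne S.ndU S.hk
  obtain ⟨e', hpe⟩ := exists_pair_of S.ndU he hQe
  have he'0 : e' ≠ 0 := fun h => by
    have h1 := hpe.huv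
    rw [h, QuadraticMap.polar_zero_right] at h1
    exact zero_ne_one h1
  obtain ⟨g, hg, a, ha, hga⟩ := exists_move S.ndU S.hk he hQe he'0 hpe.hv
  -- pairs fixed modulo scalars are scalar
  have key : ∀ r ∈ A, (∀ v (hev : bU e v = 0), IsScal (conjU (eich e v hQe hev) r.1 - r.1)) →
      (∀ v (hev : bU e v = 0), IsScal (conjU (eich e v hQe hev) r.2 - r.2)) → IsScal r.1 ∧ IsScal r.2 := by
    intro r hr h1 h2
    obtain ⟨l₁, m₁, e1⟩ := fixed_eq S (hsA r hr).1 hpe h1
    obtain ⟨l₂, m₂, e2⟩ := fixed_eq S (hsA r hr).2 hpe h2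
    have hZ : ∀ (l m : F) (X : EndU), (∀ u, X u = l • u + (m * bU u e) • e) →
        ∀ u, conjU g X u = l • u + (m * a * a * bU u e') • e' := fun l m X hX u => by
      rw [conjU_apply, hX, map_add, map_smul, map_smul, act_cancel_inv, hga, ← act_polar g (act g⁻¹ u) e,
        act_cancel_inv, hga, QuadraticMap.polar_smul_right, smul_smul]
      simp only [smul_eq_mul]
      ring_nf
    have h := congrArg (fun X : EndU => bU (X e) e') (hrA r hr _ (hiA g hg r hr))
    simp only [LinearMap.add_apply, LinearMap.sub_apply, LinearMap.smul_apply, Module.End.mul_apply, hZ _ _ _ e1,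
      hZ _ _ _ e2, e1, e2, QuadraticMap.polar_add_left, QuadraticMap.polar_sub_left,
      QuadraticMap.polar_smul_left, polar_self_zero hQe, polar_self_zero hpe.hv, hpe.huv, hpe.hvu, smul_eq_mul,
      mul_zero, mul_one, add_zero, zero_add, LinearMap.zero_apply, QuadraticMap.polar_zero_left] at h
    have h0 : (a * a) * (d₁ * m₁ ^ 2 + d₂ * m₂ ^ 2) = 0 := by linear_combination h
    obtain ⟨hm₁, hm₂⟩ := hd m₁ m₂ ((mul_eq_zero.1 h0).resolve_left (mul_ne_zero ha ha))
    exact ⟨⟨l₁, LinearMap.ext fun u => by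
        rw [e1, hm₁, zero_mul, zero_smul, add_zero, LinearMap.smul_apply, Module.End.one_apply]⟩,
      ⟨l₂, LinearMap.ext fun u => by
        rw [e2, hm₂, zero_mul, zero_smul, add_zero, LinearMap.smul_apply, Module.End.one_apply]⟩⟩
  -- the second map is scalar when the first one is
  have h2A : ∀ r ∈ A, IsScal r.1 → IsScal r.2 := by
    intro r hr hr1
    by_contra hns
    let A₂ : Submodule F EndU :=
      ((A ⊓ (Submodule.span F {(1 : EndU)}).comap (LinearMap.fst F EndU EndU))).map (LinearMap.snd F EndU EndU)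
    have hmem : ∀ r ∈ A, IsScal r.1 → r.2 ∈ A₂ := fun r hr ⟨c, hc⟩ =>
      ⟨r, ⟨hr, show r.1 ∈ Submodule.span F {(1 : EndU)} from Submodule.mem_span_singleton.2 ⟨c, hc.symm⟩⟩, rfl⟩
    have hback : ∀ X ∈ A₂, ∃ r ∈ A, IsScal r.1 ∧ r.2 = X := by
      rintro X ⟨r, ⟨h1, h2⟩, rfl⟩
      obtain ⟨c, hc⟩ := Submodule.mem_span_singleton.1 (h2 : r.1 ∈ Submodule.span F {(1 : EndU)})
      exact ⟨r, h1, ⟨c, hc.symm⟩, rfl⟩
    have hi2 : ∀ b ∈ eGroup qU ⊤, ∀ X ∈ A₂, conjU b X ∈ A₂ := fun b hb X hX => by
      obtain ⟨r, hr, ⟨c, hc⟩, rfl⟩ := hback X hX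
      exact hmem _ (hiA b hb r hr) ⟨c, by rw [hc, map_smul, conjU_one]⟩
    obtain ⟨X, hX, hXns, hfix⟩ := exists_fixed hi2 (hmem r hr hr1) hns hQe
    obtain ⟨r', hr', ⟨c, hc⟩, rfl⟩ := hback X hX
    exact hXns (key r' hr' (fun v hev => ⟨0, by rw [hc, map_smul, conjU_one, sub_self, zero_smul]⟩) hfix).2
  have h1A : ∀ r ∈ A, IsScal r.1 := by
    intro r hr
    by_contra hns
    have hi1 : ∀ b ∈ eGroup qU ⊤, ∀ X ∈ A.map (LinearMap.fst F EndU EndU),
        conjU b X ∈ A.map (LinearMap.fst F EndU EndU) := by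
      rintro b hb X ⟨r, hr, rfl⟩
      exact ⟨_, hiA b hb r hr, rfl⟩
    obtain ⟨X, ⟨r', hr', rfl⟩, hXns, hfix⟩ := exists_fixed hi1 ⟨r, hr, rfl⟩ hns hQe
    refine hXns (key r' hr' hfix fun v hev => ?_).1
    exact h2A ((conjU (eich e v hQe hev) r'.1, conjU (eich e v hQe hev) r'.2) - r')
      (A.sub_mem (hiA _ (eich_mem hQe hev Submodule.mem_top Submodule.mem_top) r' hr') hr') (hfix v hev)
  exact ⟨h1A p (Submodule.subset_span hp), h2A p (Submodule.subset_span hp) (h1A p (Submodule.subset_span hp))⟩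

end Cfsg.Agent.Forms.Max.OrthOrth
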