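import Cfsg.Agent.Lib.Forms.Max.OrthOrth.Spread
import Cfsg.Agent.Lib.Forms.Max.OrthOrth.Scalar
import Cfsg.Agent.Lib.Forms.Max.OrthOrth.ScalarPair

/-!
# The radical of `U ⊗ f` in an overgroup without central elements

An element fixing `U ⊗ f` pointwise and trivial on `U ⊗ f^⊥` modulo `U ⊗ f` gives a linear family `X_w` of
endomorphisms of `U`.  Commuting it with the Eichler elements of the second factor makes `X_w`
self-adjoint, commuting it with its conjugates makes `X_g` commute with all its conjugates for singular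
`g`, so all `X_w` are scalar and the element is an Eichler element of the second factor.
-/

set_option autoImplicit false
set_option linter.unusedSectionVars false

namespace Cfsg.Agent.Forms.Max.OrthOrth

open Matrix Cfsg.Agent.Aschbacher Cfsg.Agent.Forms.QuadStd Cfsg.Agent.Forms.Reflections
  Cfsg.Agent.Classical.Orth Cfsg.Agent.Forms.Max.TensorMax
open Cfsg.Agent.Forms.Max.TensorRes.Unitary (pure_add_left pure_smul_left pure_add_right pure_smul_right
  pure_zero_left pure_zero_right pure_ne_zero pureR pureR_apply)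

variable {F : Type*} [Field F] [Fintype F] {k n : ℕ}
variable {qU : QuadraticForm F (Fin k → F)} {qW : QuadraticForm F (Fin n → F)}
  {Q : QuadraticForm F (Fin k × Fin n → F)} {M : Subgroup (GL (Fin k × Fin n) F)}

local notation "B" => QuadraticMap.polar Q
local notation "bU" => QuadraticMap.polar qU
local notation "bW" => QuadraticMap.polar qW
local notation "Uv" => (Fin k → F)
local notation "Wv" => (Fin n → F)
local notation "Vv" => (Fin k × Fin n → F)
local notation "GLkn" => GL (Fin k × Fin n) F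

/-- the elements of the radical of `U ⊗ f` in `M` -/
structure Rad (qW : QuadraticForm F (Fin n → F)) (M : Subgroup (GL (Fin k × Fin n) F))
    (f : Fin n → F) (x : GL (Fin k × Fin n) F) : Prop where
  mem : x ∈ M
  fix : ∀ u, (Units.val x) *ᵥ pure u f = pure u f
  shift : ∀ u w, QuadraticMap.polar qW w f = 0 → ∃ p, (Units.val x) *ᵥ pure u w = pure u w + pure p f

/-- the displacement of `u ⊗ w` -/
noncomputable def disp (x : GL (Fin k × Fin n) F) (w : Fin n → F) :
    (Fin k → F) →ₗ[F] (Fin k × Fin n → F) :=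
  (Matrix.toLin' (Units.val x) - 1).comp (pureR w)

theorem disp_apply (x : GLkn) (w : Wv) (u : Uv) :
    disp x w u = (Units.val x) *ᵥ pure u w - pure u w := by
  rw [disp, LinearMap.comp_apply, LinearMap.sub_apply, Matrix.toLin'_apply, Module.End.one_apply, pureR_apply]

theorem disp_eq (x : GLkn) (w : Wv) (u : Uv) :
    (Units.val x) *ᵥ pure u w = pure u w + disp x w u := by rw [disp_apply, add_sub_cancel]

theorem disp_add (x : GLkn) (w w' : Wv) (u : Uv) : disp x (w + w') u = disp x w u + disp x w' u := by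
  simp only [disp_apply, pure_add_right, mulVec_add]
  abel

theorem disp_smul (x : GLkn) (c : F) (w : Wv) (u : Uv) : disp x (c • w) u = c • disp x w u := by
  simp only [disp_apply, pure_smul_right, mulVec_smul, smul_sub]

/-- the endomorphism of a vector orthogonal to `f` -/
noncomputable def xMap (qW : QuadraticForm F (Fin n → F)) (x : GL (Fin k × Fin n) F) (f' w : Fin n → F) :
    (Fin k → F) →ₗ[F] (Fin k → F) :=
  (eta qW f').comp (disp x w)

theorem Rad.mul {f : Wv} {x y : GLkn} (hx : Rad qW M f x) (hy : Rad qW M f y) : Rad qW M f (x * y) := by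
  refine ⟨mul_mem hx.mem hy.mem, fun u => by rw [mulVec_mul_GL, hy.fix, hx.fix], fun u w hw => ?_⟩
  obtain ⟨p, hp⟩ := hy.shift u w hw
  obtain ⟨p', hp'⟩ := hx.shift u w hw
  exact ⟨p' + p, by rw [mulVec_mul_GL, hp, mulVec_add, hp', hx.fix, pure_add_left, add_assoc]⟩

variable (hO : Over qU qW Q M) {f f' : Fin n → F} (hp : IsPair qW f f')
include hO hp

theorem Rad.shift_eq {x : GLkn} (hx : Rad qW M f x) (u : Uv) {w : Wv} (hw : bW w f = 0) :
    (Units.val x) *ᵥ pure u w = pure u w + pure (xMap qW x f' w u) f := by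
  obtain ⟨p, hp'⟩ := hx.shift u w hw
  rw [hp', xMap, LinearMap.comp_apply, disp_apply, hp', add_sub_cancel_left, eta_pure, hp.huv, one_smul]

theorem eta_f_disp {x : GLkn} (hx : Rad qW M f x) (u : Uv) : eta qW f (disp x f' u) = 0 :=
  eta_eq_zero hO.setup fun u' => by
    rw [disp_apply, QuadraticMap.polar_sub_left]
    conv_lhs => arg 1; rw [← hx.fix u']
    rw [polar_M hO hx.mem, sub_self]

theorem eq_sum_perp {r : Vv} (hr : eta qW f r = 0) : r = ∑ i, pure (Pi.single i 1) (TensorMax.row r i) ∧
    ∀ i, bW (TensorMax.row r i) f = 0 :=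
  ⟨sum_rows r, fun i => eta_zero_iff.1 hr i⟩

/-- vectors orthogonal to `U ⊗ f` are displaced in `U ⊗ f` only -/
theorem Rad.shift_perp {x : GLkn} (hx : Rad qW M f x) {r : Vv} (hr : eta qW f r = 0) :
    ∃ p, (Units.val x) *ᵥ r = r + pure p f := by
  obtain ⟨hs, hrow⟩ := eq_sum_perp hO hp hr
  choose p hp' using fun i => hx.shift (Pi.single i 1) (TensorMax.row r i) (hrow i)
  refine ⟨∑ i, p i, ?_⟩
  conv_lhs => rw [hs, mulVec_sum]
  conv_rhs => rw [hs, ← pureR_apply, map_sum, ← Finset.sum_add_distrib]
  exact Finset.sum_congr rfl fun i _ => by rw [hp' i, pureR_apply]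

theorem polar_shift {x : GLkn} (hx : Rad qW M f x) {r : Vv} (hr : eta qW f r = 0) (v : Uv) :
    B ((Units.val x) *ᵥ r - r) (pure v f') = - B r (disp x f' v) := by
  obtain ⟨p, hp'⟩ := hx.shift_perp hO hp hr
  have h1 := polar_M hO hx.mem r (pure v f')
  have h2 : B (pure p f) (disp x f' v) = 0 := by
    rw [QuadraticMap.polar_comm, form_pure hO.setup, eta_f_disp hO hp hx, QuadraticMap.polar_zero_left]
  rw [disp_eq, hp', QuadraticMap.polar_add_right, QuadraticMap.polar_add_left, QuadraticMap.polar_add_left, h2,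
    add_zero] at h1
  rw [hp', add_sub_cancel_left]
  linear_combination h1

variable (hN : NoCentral qW M) (hf0 : f ≠ 0)
include hN hf0

/-- elements of the radical agreeing on `U ⊗ f^⊥` and modulo `U ⊗ f` are equal -/
theorem central_eq {y y' : GLkn} (hy : y ∈ M) (hy' : Rad qW M f y')
    (h1 : ∀ u w, bW w f = 0 → (Units.val y) *ᵥ pure u w = (Units.val y') *ᵥ pure u w)
    (h2 : ∀ u, ∃ p, (Units.val y) *ᵥ pure u f' = (Units.val y') *ᵥ pure u f' + pure p f) : y = y' := by
  set c := y * y'⁻¹ with hc
  have hcy : ∀ v, (Units.val c) *ᵥ ((Units.val y') *ᵥ v) = (Units.val y) *ᵥ v := fun v => by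
    rw [← mulVec_mul_GL, hc, inv_mul_cancel_right]
  have hc1 : ∀ u w, bW w f = 0 → (Units.val c) *ᵥ pure u w = pure u w := fun u w hw => by
    obtain ⟨p, hp'⟩ := hy'.shift u w hw
    have e : (Units.val y') *ᵥ (pure u w - pure p f) = pure u w := by
      rw [mulVec_sub, hp', hy'.fix, add_sub_cancel_right]
    conv_lhs => rw [← e]
    rw [hcy, mulVec_sub, h1 u w hw, h1 p f (polar_self_zero hp.hu), ← mulVec_sub, e]
  have hc2 : ∀ u, ∃ p, (Units.val c) *ᵥ pure u f' = pure u f' + pure p f := fun u => by
    obtain ⟨p, hp'⟩ := h2 u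
    obtain ⟨hs, hrow⟩ := eq_sum_perp hO hp (eta_f_disp hO hp hy' u)
    have hr : (Units.val c) *ᵥ disp y' f' u = disp y' f' u := by
      conv_lhs => rw [hs, mulVec_sum]
      conv_rhs => rw [hs]
      exact Finset.sum_congr rfl fun i _ => hc1 _ _ (hrow i)
    refine ⟨p, ?_⟩
    have h := hcy (pure u f')
    rw [hp', disp_eq, mulVec_add, hr] at h
    linear_combination (norm := module) h
  have hK : ∀ u, (Units.val c) *ᵥ pure u f' = pure u f' + pure ((eta qW f').comp (disp c f') u) f := fun u => by
    obtain ⟨p, hp'⟩ := hc2 u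
    rw [hp', LinearMap.comp_apply, disp_apply, hp', add_sub_cancel_left, eta_pure, hp.huv, one_smul]
  have hK0 : (eta qW f').comp (disp c f') = 0 := by
    refine hN f _ hf0 hp.hu ⟨c, mul_mem hy (inv_mem hy'.mem), fun u w => ?_⟩
    have hw : bW (w - bW w f • f') f = 0 := by
      rw [QuadraticMap.polar_sub_left, QuadraticMap.polar_smul_left, hp.hvu, smul_eq_mul, mul_one, sub_self]
    conv_lhs => rw [show w = (w - bW w f • f') + bW w f • f' by rw [sub_add_cancel], pure_add_right, mulVec_add,
      hc1 _ _ hw, pure_smul_right, mulVec_smul, hK]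
    rw [smul_add, ← pure_smul_right, ← add_assoc, ← pure_add_right, sub_add_cancel]
  have hce : c = 1 := gl_ext_pure fun u w => by
    rw [show w = (w - bW w f • f') + bW w f • f' by rw [sub_add_cancel], pure_add_right, mulVec_add,
      hc1 _ _ (by rw [QuadraticMap.polar_sub_left, QuadraticMap.polar_smul_left, hp.hvu, smul_eq_mul, mul_one, sub_self]),
      pure_smul_right, mulVec_smul, hK, hK0, LinearMap.zero_apply, pure_zero_left, add_zero, Units.val_one,
      one_mulVec]
  exact mul_inv_eq_one.1 hce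

omit hN hf0 in
/-- the Eichler elements of the second factor lie in the radical -/
theorem rad_eich {z : Wv} (hz : bW f z = 0) :
    Rad qW M f (kr (1 : GL (Fin k) F) (eich f z hp.hu hz : GL (Fin n) F)) := by
  refine ⟨right_mem hO (eich_mem _ _ Submodule.mem_top Submodule.mem_top), fun u => ?_, fun u w hw => ?_⟩
  · rw [kr_pure, Units.val_one, one_mulVec, ← act_apply, act_eich_self]
  · refine ⟨(-bW w z) • u, ?_⟩
    rw [kr_pure, Units.val_one, one_mulVec, ← act_apply, act_eich, hw, pure_smul_left,
      show w + (0 : F) • z - bW w z • f - (qW z * 0) • f = w + (-bW w z) • f by module, pure_add_right,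
      pure_smul_right]

omit hN hf0 in
/-- the contractions of the displacement of `u ⊗ f'` -/
theorem eta_disp {x : GLkn} (hx : Rad qW M f x) {z : Wv} (hz : z ∈ core qW f f') (u v : Uv) :
    bU (eta qW z (disp x f' u)) v = - bU u (xMap qW x f' z v) := by
  obtain ⟨hz1, hz2⟩ := mem_core.1 hz
  have hzf : bW z f = 0 := by rw [QuadraticMap.polar_comm]; exact hz1
  have h := polar_M hO hx.mem (pure u f') (pure v z)
  rw [disp_eq, hx.shift_eq hO hp v hzf] at h
  simp only [QuadraticMap.polar_add_left, QuadraticMap.polar_add_right, hO.setup.mul, hz2, hp.hvu, mul_zero,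
    mul_one, zero_add] at h
  have h2 : B (disp x f' u) (pure (xMap qW x f' z v) f) = 0 := by
    rw [form_pure hO.setup, eta_f_disp hO hp hx, QuadraticMap.polar_zero_left]
  rw [h2, add_zero, form_pure hO.setup] at h
  linear_combination h

/-- the endomorphisms are self-adjoint -/
theorem xMap_symm {x : GLkn} (hx : Rad qW M f x) {z : Wv} (hz : z ∈ core qW f f') (u : Uv) :
    eta qW z (disp x f' u) = - xMap qW x f' z u := by
  obtain ⟨hz1, hz2⟩ := mem_core.1 hz
  have hzf : bW z f = 0 := by rw [QuadraticMap.polar_comm]; exact hz1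
  set t := kr (1 : GL (Fin k) F) (eich f z hp.hu hz1 : GL (Fin n) F) with ht
  have hT : Rad qW M f t := rad_eich hO hp hz1
  have htf : ∀ v, (Units.val t) *ᵥ pure v f' = pure v f' + pure v z + (-qW z) • pure v f := fun v => by
    rw [ht, kr_pure, Units.val_one, one_mulVec, ← act_apply, act_eich, hp.hvu, QuadraticMap.polar_comm _ f' z,
      QuadraticMap.polar_comm _ z f', hz2, show f' + (1 : F) • z - (0 : F) • f - (qW z * 1) • f = f' + z + (-qW z) • f by module,
      pure_add_right, pure_add_right, pure_smul_right]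
  have htp : ∀ r, eta qW f r = 0 → (Units.val t) *ᵥ r = r - pure (eta qW z r) f := fun r hr => by
    obtain ⟨hs, hrow⟩ := eq_sum_perp hO hp hr
    conv_lhs => rw [hs, mulVec_sum]
    conv_rhs => rw [hs, map_sum, ← pureR_apply, map_sum, ← Finset.sum_sub_distrib]
    refine Finset.sum_congr rfl fun i _ => ?_
    rw [ht, kr_pure, Units.val_one, one_mulVec, ← act_apply, act_eich, hrow i, eta_pure, pureR_apply, pure_smul_left,
      show TensorMax.row r i + (0 : F) • z - bW (TensorMax.row r i) z • f - (qW z * 0) • f =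
        TensorMax.row r i + (-bW (TensorMax.row r i) z) • f by module, pure_add_right, pure_smul_right, neg_smul,
      sub_eq_add_neg]
  have e1 : ∀ v, (Units.val (x * t)) *ᵥ pure v f' = pure v f' + disp x f' v + pure v z +
      pure (xMap qW x f' z v) f + (-qW z) • pure v f := fun v => by
    rw [mulVec_mul_GL, htf, mulVec_add, mulVec_add, mulVec_smul, disp_eq, hx.shift_eq hO hp v hzf, hx.fix]
    module
  have e2 : ∀ v, (Units.val (t * x)) *ᵥ pure v f' = pure v f' + pure v z + (-qW z) • pure v f + disp x f' v -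
      pure (eta qW z (disp x f' v)) f := fun v => by
    rw [mulVec_mul_GL, disp_eq, mulVec_add, htf, htp _ (eta_f_disp hO hp hx v)]
    abel
  have he := central_eq hO hp hN hf0 (y := x * t) (mul_mem hx.mem hT.mem) (hT.mul hx)
    (fun v w hw => by
      obtain ⟨p, hp1⟩ := hx.shift v w hw
      obtain ⟨p', hp2⟩ := hT.shift v w hw
      rw [mulVec_mul_GL, mulVec_mul_GL, hp1, hp2, mulVec_add, mulVec_add, hp1, hp2, hx.fix, hT.fix]
      abel)
    (fun v => ⟨xMap qW x f' z v + eta qW z (disp x f' v), by rw [e1, e2, pure_add_left]; abel⟩)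
  have h := congrArg (fun g : GLkn => eta qW f' ((Units.val g) *ᵥ pure u f')) he
  rw [e1, e2] at h
  simp only [map_add, map_sub, map_smul, eta_pure, hp.huv, one_smul] at h
  linear_combination (norm := module) h

/-- two radical elements commute -/
theorem disp_comm {x x' : GLkn} (hx : Rad qW M f x) (hx' : Rad qW M f x') (u v : Uv) :
    B (disp x' f' u) (disp x f' v) = B (disp x f' u) (disp x' f' v) := by
  have h2 := fun w => (hx.shift_perp hO hp (eta_f_disp hO hp hx' w))
  have h2' := fun w => (hx'.shift_perp hO hp (eta_f_disp hO hp hx w))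
  have he := central_eq hO hp hN hf0 (y := x * x') (mul_mem hx.mem hx'.mem) (hx'.mul hx)
    (fun v w hw => by
      obtain ⟨p, hp1⟩ := hx.shift v w hw
      obtain ⟨p', hp2⟩ := hx'.shift v w hw
      rw [mulVec_mul_GL, mulVec_mul_GL, hp1, hp2, mulVec_add, mulVec_add, hp1, hp2, hx.fix, hx'.fix]
      abel)
    (fun w => by
      obtain ⟨p, hp1⟩ := h2 w
      obtain ⟨p', hp2⟩ := h2' w
      refine ⟨p - p', ?_⟩
      rw [mulVec_mul_GL, mulVec_mul_GL, disp_eq x' f', disp_eq x f', mulVec_add, mulVec_add, disp_eq x f',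
        disp_eq x' f', hp1, hp2, ← pureR_apply (w := f) (u := p - p'), map_sub, pureR_apply, pureR_apply]
      abel)
  have h := congrArg (fun g : GLkn => (Units.val g) *ᵥ pure u f') he
  simp only [mulVec_mul_GL] at h
  rw [disp_eq x' f', disp_eq x f', mulVec_add, mulVec_add, disp_eq x f', disp_eq x' f'] at h
  have h' : (Units.val x) *ᵥ disp x' f' u - disp x' f' u = (Units.val x') *ᵥ disp x f' u - disp x f' u := by
    linear_combination (norm := module) h
  have h3 := congrArg (fun r => B r (pure v f')) h'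
  rw [polar_shift hO hp hx (eta_f_disp hO hp hx' u), polar_shift hO hp hx' (eta_f_disp hO hp hx u)] at h3
  exact neg_inj.1 h3

omit hN hf0 in
/-- conjugates of radical elements -/
theorem Rad.conj {x : GLkn} (hx : Rad qW M f x) {a : Cfsg.isometryGroup F ⇑qU} (ha : a ∈ eGroup qU ⊤)
    {b : Cfsg.isometryGroup F ⇑qW} (hb : b ∈ eGroup qW ⊤) (hbf : act b f = f) (hbf' : act b f' = f') :
    ∃ x' : GLkn, Rad qW M f x' ∧ ∀ u, disp x' f' (act a u) =
      (Units.val (kr (a : GL (Fin k) F) (b : GL (Fin n) F))) *ᵥ disp x f' u := by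
  set g := kr (a : GL (Fin k) F) (b : GL (Fin n) F) with hg
  have hgM : g ∈ M := by
    have := mul_mem (left_mem hO ha) (right_mem hO hb)
    rwa [kr_mul, mul_one, one_mul] at this
  have hgp : ∀ u w, (Units.val g) *ᵥ pure u w = pure (act a u) (act b w) := fun u w => by
    rw [hg, kr_pure, act_apply, act_apply]
  have hgi : ∀ u w, (Units.val g⁻¹) *ᵥ pure u w = pure (act a⁻¹ u) (act b⁻¹ w) := fun u w => by
    refine mulVec_inj g ?_
    rw [mulVec_inv_cancel, hgp, act_cancel_inv, act_cancel_inv]
  have hbi : act b⁻¹ f = f ∧ act b⁻¹ f' = f' :=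
    ⟨by conv_lhs => rw [← hbf]; rw [Spinor.act_inv_cancel], by conv_lhs => rw [← hbf']; rw [Spinor.act_inv_cancel]⟩
  refine ⟨g * x * g⁻¹, ⟨mul_mem (mul_mem hgM hx.mem) (inv_mem hgM), fun u => ?_, fun u w hw => ?_⟩, fun u => ?_⟩
  · rw [mulVec_mul_GL, mulVec_mul_GL, hgi, hbi.1, hx.fix, hgp, hbf, act_cancel_inv]
  · obtain ⟨p, hp'⟩ := hx.shift (act a⁻¹ u) (act b⁻¹ w) (by
      rw [← hbi.1, act_polar]; exact hw)
    exact ⟨act a p, by rw [mulVec_mul_GL, mulVec_mul_GL, hgi, hp', mulVec_add, hgp, hgp, act_cancel_inv,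
      act_cancel_inv, hbf]⟩
  · rw [disp_apply, mulVec_mul_GL, mulVec_mul_GL, hgi, Spinor.act_inv_cancel, hbi.2, disp_eq, mulVec_add, hgp, hbf',
      add_sub_cancel_left]

/-- the endomorphisms of singular vectors are scalar -/
theorem xMap_scalar {x : GLkn} (hx : Rad qW M f x) {g : Wv} (hg : g ∈ core qW f f') (hQg : qW g = 0) (hn5 : 5 ≤ n) :
    IsScal (xMap qW x f' g) := by
  have S := hO.setup
  obtain ⟨hg1, hg2⟩ := mem_core.1 hg
  obtain ⟨w, hw, hgw, hQw⟩ : ∃ w ∈ core qW f f', bW g w = 0 ∧ qW w ≠ 0 := by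
    by_contra hc
    push Not at hc
    set T := core qW f f' ⊓ LinearMap.ker (polB qW g) with hT
    have hTS : ∀ y ∈ Submodule.span F {f} ⊔ T, qW y = 0 := fun y hy => by
      obtain ⟨s, hs, r, hr, rfl⟩ := Submodule.mem_sup.1 hy
      obtain ⟨c, rfl⟩ := Submodule.mem_span_singleton.1 hs
      obtain ⟨hr1, hr2⟩ := Submodule.mem_inf.1 hr
      rw [Classical.Orth.map_add', Classical.Orth.map_smul', QuadraticMap.polar_smul_left, hp.hu, hc r hr1 hr2,
        (mem_core.1 hr1).1]
      simp
    have h0 : Submodule.span F {f} ⊓ T = ⊥ := by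
      rw [eq_bot_iff]
      rintro y ⟨hy1, hy2⟩
      obtain ⟨c, rfl⟩ := Submodule.mem_span_singleton.1 hy1
      have := (mem_core.1 (Submodule.mem_inf.1 hy2).1).2
      rw [QuadraticMap.polar_smul_right, hp.hvu, smul_eq_mul, mul_one] at this
      simp [this]
    have h1 := Submodule.finrank_sup_add_finrank_inf_eq (Submodule.span F {f}) T
    rw [h0, finrank_bot, finrank_span_singleton hf0] at h1
    have h2 := Orth.finrank_sing_le S.ndW hTS
    have h3 := finrank_core (q := qW) S.ndW f f'
    have h4 := Orth.finrank_inf_ker S.ndW (core qW f f') g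
    change Module.finrank F (core qW f f') ≤ Module.finrank F T + 1 at h4
    rw [Fintype.card_fin] at h2
    omega
  have hgw' : bW g (-w) = 0 := by rw [QuadraticMap.polar_neg_right, hgw, neg_zero]
  have hfg : bW f g = 0 := hg1
  have hf'g : bW f' g = 0 := hg2
  have hfw : bW f w = 0 := (mem_core.1 hw).1
  have hf'w : bW f' w = 0 := (mem_core.1 hw).2
  have hfix : ∀ (z : Wv) (hz : bW g z = 0), bW f z = 0 → bW f' z = 0 →
      act (eich g z hQg hz) f = f ∧ act (eich g z hQg hz) f' = f' := fun z hz h1 h2 =>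
    ⟨by rw [act_eich, hfg, h1]; module, by rw [act_eich, hf'g, h2]; module⟩
  refine scalar_of_comm S (qW := qW) (Q := Q) (fun u v => ?_) fun a ha => ?_
  · have h1 := eta_disp hO hp hx hg u v
    rw [xMap_symm hO hp hN hf0 hx hg, QuadraticMap.polar_neg_left] at h1
    linear_combination -h1
  · obtain ⟨x₁, hx₁, hd₁⟩ := hx.conj hO hp ha (eich_mem hQg hgw Submodule.mem_top Submodule.mem_top)
      (hfix w hgw hfw hf'w).1 (hfix w hgw hfw hf'w).2
    obtain ⟨x₂, hx₂, hd₂⟩ := hx.conj hO hp ha (eich_mem hQg hgw' Submodule.mem_top Submodule.mem_top)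
      (hfix (-w) hgw' (by rw [QuadraticMap.polar_neg_right, hfw, neg_zero]) (by
        rw [QuadraticMap.polar_neg_right, hf'w, neg_zero])).1
      (hfix (-w) hgw' (by rw [QuadraticMap.polar_neg_right, hfw, neg_zero]) (by
        rw [QuadraticMap.polar_neg_right, hf'w, neg_zero])).2
    obtain ⟨x₀, hx₀, hd₀⟩ := hx.conj hO hp ha (one_mem _) (act_one f) (act_one f')
    set Y := xMap qW x f' g with hY
    have key : ∀ r : Vv, (Units.val (kr (a : GL (Fin k) F) (eich g w hQg hgw : GL (Fin n) F))) *ᵥ r +
        (Units.val (kr (a : GL (Fin k) F) (eich g (-w) hQg hgw' : GL (Fin n) F))) *ᵥ r -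
        (2 : F) • (Units.val (kr (a : GL (Fin k) F) ((1 : Cfsg.isometryGroup F ⇑qW) : GL (Fin n) F))) *ᵥ r =
        (-2 * qW w) • pure (act a (eta qW g r)) g := fun r => by
      conv_lhs => rw [sum_rows r, mulVec_sum, mulVec_sum, mulVec_sum, Finset.smul_sum, ← Finset.sum_add_distrib,
        ← Finset.sum_sub_distrib]
      conv_rhs => rw [sum_rows r, map_sum, map_sum, ← pureR_apply, map_sum, Finset.smul_sum]
      refine Finset.sum_congr rfl fun i _ => ?_
      rw [kr_pure, kr_pure, kr_pure, ← act_apply, ← act_apply, ← act_apply, ← act_apply, act_eich, act_eich, act_one,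
        eta_pure, pureR_apply, map_smul, pure_smul_left, QuadraticMap.map_neg, QuadraticMap.polar_neg_right]
      simp only [sub_eq_add_neg, ← neg_smul, pure_add_right, pure_smul_right, ← neg_one_smul F w]
      module
    have hsY : ∀ u v, bU (Y u) v = bU u (Y v) := fun u v => by
      have h1 := eta_disp hO hp hx hg u v
      rw [xMap_symm hO hp hN hf0 hx hg, QuadraticMap.polar_neg_left] at h1
      linear_combination -h1
    have rel : ∀ u v, bU (conjU a Y u) (Y v) = bU (Y u) (conjU a Y v) := by
      intro u v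
      have g0 := disp_comm hO hp hN hf0 hx hx₀ u v
      have g1 := disp_comm hO hp hN hf0 hx hx₁ u v
      have g2 := disp_comm hO hp hN hf0 hx hx₂ u v
      rw [← act_cancel_inv a u, ← act_cancel_inv a v, hd₀, hd₀] at g0
      rw [← act_cancel_inv a u, ← act_cancel_inv a v, hd₁, hd₁] at g1
      rw [← act_cancel_inv a u, ← act_cancel_inv a v, hd₂, hd₂] at g2
      rw [act_cancel_inv, act_cancel_inv] at g0 g1 g2
      have h1 := congrArg (fun r => B r (disp x f' v)) (key (disp x f' (act a⁻¹ u)))
      have h2 := congrArg (fun r => B (disp x f' u) r) (key (disp x f' (act a⁻¹ v)))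
      simp only [QuadraticMap.polar_sub_left, QuadraticMap.polar_add_left, QuadraticMap.polar_smul_left,
        QuadraticMap.polar_sub_right, QuadraticMap.polar_add_right, QuadraticMap.polar_smul_right,
        smul_eq_mul] at h1 h2
      rw [QuadraticMap.polar_comm _ (pure _ g), form_pure hO.setup, xMap_symm hO hp hN hf0 hx hg,
        xMap_symm hO hp hN hf0 hx hg, map_neg, QuadraticMap.polar_neg_left, QuadraticMap.polar_neg_right,
        neg_neg, QuadraticMap.polar_comm _ (Y v), ← hY, ← conjU_apply] at h1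
      rw [form_pure hO.setup, xMap_symm hO hp hN hf0 hx hg, xMap_symm hO hp hN hf0 hx hg, map_neg,
        QuadraticMap.polar_neg_left, QuadraticMap.polar_neg_right, neg_neg, ← hY, ← conjU_apply] at h2
      exact mul_left_cancel₀ (mul_ne_zero (neg_ne_zero.2 S.two) hQw)
        (by linear_combination -h1 + h2 + g1 + g2 - 2 * g0)
    refine LinearMap.ext fun u => ext_bU S.ndU fun v => ?_
    rw [Module.End.mul_apply, Module.End.mul_apply, hsY (conjU a Y u) v, rel]
    rw [conjU_apply, conjU_apply, ← act_polar a⁻¹ (act a _) v, Spinor.act_inv_cancel, hsY (act a⁻¹ (Y u)),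
      ← act_polar a (act a⁻¹ (Y u)), act_cancel_inv]

/-- in dimension three the endomorphism of the core is scalar -/
theorem xMap_scalar_three {x : GLkn} (hx : Rad qW M f x) (hn3 : n = 3) {z : Wv} (hz : z ∈ core qW f f')
    (hQz : qW z ≠ 0) : IsScal (xMap qW x f' z) := by
  have S := hO.setup
  have hzz : bW z z ≠ 0 := by rw [polar_self']; exact mul_ne_zero S.two hQz
  have hz0 : z ≠ 0 := fun h => hQz (by rw [h, QuadraticMap.map_zero])
  have hline : ∀ w ∈ core qW f f', ∃ c : F, c • z = w := fun w hw => by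
    obtain ⟨c, hc⟩ := exists_smul_eq_of_finrank_eq_one (V := core qW f f')
      (le_antisymm (by have := finrank_core_le (q := qW) hp; omega)
        (Submodule.one_le_finrank_iff.2 fun h => hz0 ((Submodule.mem_bot F).1 (h ▸ hz))))
      (show (⟨z, hz⟩ : core qW f f') ≠ 0 from fun h => hz0 (congrArg Subtype.val h)) ⟨w, hw⟩
    exact ⟨c, congrArg Subtype.val hc⟩
  have hform : ∀ r r' : Vv, eta qW f r = 0 → eta qW f r' = 0 →
      B r r' = (bW z z)⁻¹ * bU (eta qW z r) (eta qW z r') := by
    intro r r' hr hr'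
    have e : r = pure ((bW z z)⁻¹ • eta qW z r) z + pure (eta qW f' r) f := TensorMax.ext_row fun i => by
      have h1 := eta_zero_iff.1 hr i
      obtain ⟨c, hc⟩ := hline _ (proj_core hp (TensorMax.row r i))
      have h2 : TensorMax.row r i = bW (TensorMax.row r i) f' • f + c • z := by
        conv_lhs => rw [proj_add (Q := qW) f f' (TensorMax.row r i), h1, zero_smul, add_zero, ← hc]
      have h3 : bW (TensorMax.row r i) z = c * bW z z := by
        rw [h2, QuadraticMap.polar_add_left, QuadraticMap.polar_smul_left, QuadraticMap.polar_smul_left,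
          (mem_core.1 hz).1, smul_zero, zero_add, smul_eq_mul]
      show _ = TensorMax.row (pure ((bW z z)⁻¹ • eta qW z r) z) i + TensorMax.row (pure (eta qW f' r) f) i
      rw [row_pure, row_pure, Pi.smul_apply, eta_apply, eta_apply, h3, smul_eq_mul,
        show (bW z z)⁻¹ * (c * bW z z) = c by field_simp, add_comm]
      exact h2
    rw [QuadraticMap.polar_comm _ r r', e, QuadraticMap.polar_add_right, form_pure S, form_pure S, hr',
      QuadraticMap.polar_zero_left, add_zero, QuadraticMap.polar_smul_right, smul_eq_mul,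
      QuadraticMap.polar_comm _ (eta qW z r') (eta qW z r), ← e]
  refine scalar_of_comm S (qW := qW) (Q := Q) (fun u v => ?_) fun a ha => ?_
  · have h1 := eta_disp hO hp hx hz u v
    rw [xMap_symm hO hp hN hf0 hx hz, QuadraticMap.polar_neg_left] at h1
    linear_combination -h1
  · obtain ⟨x₀, hx₀, hd₀⟩ := hx.conj hO hp ha (one_mem _) (act_one f) (act_one f')
    set Y := xMap qW x f' z with hY
    have hsY : ∀ u v, bU (Y u) v = bU u (Y v) := fun u v => by
      have h1 := eta_disp hO hp hx hz u v
      rw [xMap_symm hO hp hN hf0 hx hz, QuadraticMap.polar_neg_left] at h1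
      linear_combination -h1
    have hkr : ∀ r : Vv, eta qW z ((Units.val (kr (a : GL (Fin k) F)
        ((1 : Cfsg.isometryGroup F ⇑qW) : GL (Fin n) F))) *ᵥ r) = act a (eta qW z r) := fun r => by
      conv_lhs => rw [sum_rows r, mulVec_sum, map_sum]
      conv_rhs => rw [sum_rows r, map_sum, map_sum]
      refine Finset.sum_congr rfl fun i _ => ?_
      rw [kr_pure, eta_pure, eta_pure, ← act_apply, ← act_apply, act_one, map_smul]
    have h0 : ∀ u, eta qW z (disp x₀ f' u) = -conjU a Y u := fun u => by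
      conv_lhs => rw [← act_cancel_inv a u, hd₀]
      rw [hkr, xMap_symm hO hp hN hf0 hx hz, map_neg, ← hY, conjU_apply]
    have rel : ∀ u v, bU (conjU a Y u) (Y v) = bU (Y u) (conjU a Y v) := by
      intro u v
      have g0 := disp_comm hO hp hN hf0 hx hx₀ u v
      rw [hform _ _ (eta_f_disp hO hp hx₀ u) (eta_f_disp hO hp hx v),
        hform _ _ (eta_f_disp hO hp hx u) (eta_f_disp hO hp hx₀ v), h0, h0, xMap_symm hO hp hN hf0 hx hz,
        xMap_symm hO hp hN hf0 hx hz, QuadraticMap.polar_neg_left, QuadraticMap.polar_neg_left,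
        QuadraticMap.polar_neg_right, QuadraticMap.polar_neg_right, neg_neg, neg_neg, ← hY] at g0
      exact mul_left_cancel₀ (inv_ne_zero hzz) g0
    refine LinearMap.ext fun u => ext_bU S.ndU fun v => ?_
    rw [Module.End.mul_apply, Module.End.mul_apply, hsY (conjU a Y u) v, rel]
    rw [conjU_apply, conjU_apply, ← act_polar a⁻¹ (act a _) v, Spinor.act_inv_cancel, hsY (act a⁻¹ (Y u)),
      ← act_polar a (act a⁻¹ (Y u)), act_cancel_inv]

omit hN hf0 in
theorem xMap_add (x : GLkn) (w w' : Wv) : xMap qW x f' (w + w') = xMap qW x f' w + xMap qW x f' w' :=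
  LinearMap.ext fun u => by
    simp only [xMap, LinearMap.comp_apply, LinearMap.add_apply, disp_add, map_add]

omit hN hf0 in
theorem xMap_smul (x : GLkn) (c : F) (w : Wv) : xMap qW x f' (c • w) = c • xMap qW x f' w :=
  LinearMap.ext fun u => by
    simp only [xMap, LinearMap.comp_apply, LinearMap.smul_apply, disp_smul, map_smul]

/-- the endomorphisms of an anisotropic plane are scalar -/
theorem xMap_scalar_four {x : GLkn} (hx : Rad qW M f x) (hn4 : n = 4) {z : Wv} (hz : z ∈ core qW f f') :
    IsScal (xMap qW x f' z) := by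
  have S := hO.setup
  have haniso : ∀ y ∈ core qW f f', qW y = 0 → y = 0 := fun y hy hQy => by
    obtain ⟨hy1, hy2⟩ := mem_core.1 hy
    obtain ⟨c, rfl⟩ := Submodule.mem_span_singleton.1 (S.anisoW hn4 f y hp.hu hQy hy1 hf0)
    rw [QuadraticMap.polar_smul_right, hp.hvu, smul_eq_mul, mul_one] at hy2
    rw [hy2, zero_smul]
  have hC2 : Module.finrank F (core qW f f') ≤ 2 := by
    have hd : Disjoint (core qW f f') (Submodule.span F ({f, f'} : Set Wv)) :=
      Submodule.disjoint_def.2 fun y hy1 hy2 => by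
        obtain ⟨a, c, rfl⟩ := Submodule.mem_span_pair.1 hy2
        obtain ⟨g1, g2⟩ := mem_core.1 hy1
        simp only [QuadraticMap.polar_add_right, QuadraticMap.polar_smul_right, polar_self_zero hp.hu,
          polar_self_zero hp.hv, hp.huv, hp.hvu, smul_eq_mul, mul_zero, mul_one, zero_add, add_zero] at g1 g2
        simp [g1, g2]
    have h1 := Submodule.finrank_add_finrank_le_of_disjoint hd
    have h2 : Module.finrank F (Submodule.span F ({f, f'} : Set Wv)) = 2 := by
      have hli : LinearIndependent F ![f, f'] := LinearIndependent.pair_iff.2 fun a c h => by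
        have g1 := congrArg (fun y => bW y f) h
        have g2 := congrArg (fun y => bW y f') h
        simp only [QuadraticMap.polar_add_left, QuadraticMap.polar_smul_left, polar_self_zero hp.hu,
          polar_self_zero hp.hv, hp.huv, hp.hvu, smul_eq_mul, mul_zero, mul_one, zero_add, add_zero,
          QuadraticMap.polar_zero_left] at g1 g2
        exact ⟨g2, g1⟩
      have := finrank_span_eq_card hli
      rwa [Matrix.range_cons_cons_empty, Fintype.card_fin] at this
    rw [Module.finrank_fintype_fun_eq_card, Fintype.card_fin] at h1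
    omega
  obtain ⟨z₁, hz₁, hQz₁⟩ := exists_aniso_core S.ndW hp (by omega)
  have hc₁ : bW z₁ z₁ ≠ 0 := by rw [polar_self']; exact mul_ne_zero S.two hQz₁
  set K := core qW f f' ⊓ LinearMap.ker (polB qW z₁) with hK
  have hK1 : Module.finrank F K ≤ 1 := by
    have hlt : K < core qW f f' := lt_of_le_not_ge inf_le_left fun h => hc₁ (h hz₁).2
    have := Submodule.finrank_lt_finrank_of_lt hlt
    omega
  obtain ⟨z₂, hz₂K, hz₂0⟩ := Submodule.exists_mem_ne_zero_of_ne_bot (p := K) fun h0 => by
    have h1 := Orth.finrank_inf_ker S.ndW (core qW f f') z₁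
    have h2 := finrank_core (q := qW) S.ndW f f'
    change Module.finrank F (core qW f f') ≤ Module.finrank F K + 1 at h1
    rw [h0, finrank_bot] at h1
    omega
  obtain ⟨hz₂, hz12⟩ := Submodule.mem_inf.1 hz₂K
  change bW z₁ z₂ = 0 at hz12
  have hQz₂ : qW z₂ ≠ 0 := fun h => hz₂0 (haniso z₂ hz₂ h)
  have hc₂ : bW z₂ z₂ ≠ 0 := by rw [polar_self']; exact mul_ne_zero S.two hQz₂
  set d₁ := (bW z₁ z₁)⁻¹ with hd₁
  set d₂ := (bW z₂ z₂)⁻¹ with hd₂
  have hexp : ∀ y ∈ core qW f f', y = (d₁ * bW y z₁) • z₁ + (d₂ * bW y z₂) • z₂ := by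
    intro y hy
    set r := y - (d₁ * bW y z₁) • z₁ with hr
    have hr₁ : bW z₁ r = 0 := by
      rw [hr, QuadraticMap.polar_sub_right, QuadraticMap.polar_smul_right, QuadraticMap.polar_comm _ z₁ y, hd₁,
        smul_eq_mul, mul_comm _⁻¹, inv_mul_cancel_right₀ hc₁, sub_self]
    have hrK : r ∈ K := ⟨Submodule.sub_mem _ hy (Submodule.smul_mem _ _ hz₁), hr₁⟩
    have hKs : K ≤ Submodule.span F {z₂} := by
      rw [Submodule.eq_of_le_of_finrank_le ((Submodule.span_singleton_le_iff_mem z₂ K).2 hz₂K)
        (by rw [finrank_span_singleton hz₂0]; exact hK1)]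
    obtain ⟨c, hc⟩ := Submodule.mem_span_singleton.1 (hKs hrK)
    have h1 := congrArg (fun v => bW v z₂) hc
    simp only [hr, QuadraticMap.polar_smul_left, QuadraticMap.polar_sub_left, hz12, smul_eq_mul, mul_zero,
      sub_zero] at h1
    rw [← h1, hd₂, mul_comm c, inv_mul_cancel_left₀ hc₂, hc, hr, add_sub_cancel]
  -- pairings of vectors orthogonal to `U ⊗ f`
  have hB : ∀ r r' : Vv, eta qW f r = 0 → eta qW f r' = 0 →
      B r r' = d₁ * bU (eta qW z₁ r') (eta qW z₁ r) + d₂ * bU (eta qW z₂ r') (eta qW z₂ r) := by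
    intro r r' hr hr'
    obtain ⟨hs, hrow⟩ := eq_sum_perp hO hp hr
    have hone : ∀ (a : Uv) (w : Wv), bW w f = 0 → B (pure a w) r' =
        d₁ * bW w z₁ * bU (eta qW z₁ r') a + d₂ * bW w z₂ * bU (eta qW z₂ r') a := fun a w hw => by
      have hw' := hexp _ (proj_core hp w)
      have e : w = bW w f' • f + ((d₁ * bW w z₁) • z₁ + (d₂ * bW w z₂) • z₂) := by
        conv_lhs => rw [proj_add (Q := qW) f f' w, hw, zero_smul, add_zero, hw']
        rw [QuadraticMap.polar_comm _ (proj qW f f' w), polar_proj hz₁, QuadraticMap.polar_comm _ (proj qW f f' w),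
          polar_proj hz₂, QuadraticMap.polar_comm _ z₁, QuadraticMap.polar_comm _ z₂]
      rw [QuadraticMap.polar_comm, form_pure S]
      conv_lhs => rw [e, eta_add, eta_add, eta_smul, eta_smul, eta_smul, hr', smul_zero, zero_add]
      rw [QuadraticMap.polar_add_left, QuadraticMap.polar_smul_left, QuadraticMap.polar_smul_left, smul_eq_mul,
        smul_eq_mul]
    have he : ∀ y : Wv, eta qW y r = ∑ i, bW (TensorMax.row r i) y • Pi.single i (1 : F) := fun y => by
      conv_lhs => rw [hs, map_sum]
      exact Finset.sum_congr rfl fun i _ => eta_pure _ _ _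
    conv_lhs => rw [hs, ← polB_apply, map_sum, LinearMap.sum_apply]
    rw [he, he, ← polB_apply, ← polB_apply (Q := qU), map_sum, map_sum, Finset.mul_sum, Finset.mul_sum,
      ← Finset.sum_add_distrib]
    refine Finset.sum_congr rfl fun i _ => ?_
    rw [map_smul, map_smul, polB_apply, polB_apply, polB_apply, hone _ _ (hrow i), smul_eq_mul, smul_eq_mul]
    ring
  set T : Set (Module.End F Uv × Module.End F Uv) :=
    {p | ∃ y : GLkn, Rad qW M f y ∧ p = (xMap qW y f' z₁, xMap qW y f' z₂)} with hT
  have hself : ∀ (y : GLkn), Rad qW M f y → ∀ w ∈ core qW f f', ∀ u v,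
      bU (xMap qW y f' w u) v = bU u (xMap qW y f' w v) := fun y hy w hw u v => by
    have h1 := eta_disp hO hp hy hw u v
    rw [xMap_symm hO hp hN hf0 hy hw, QuadraticMap.polar_neg_left] at h1
    linear_combination -h1
  obtain ⟨hs₁, hs₂⟩ := scalar_pair S (T := T) (d₁ := d₁) (d₂ := d₂)
    (p := (xMap qW x f' z₁, xMap qW x f' z₂))
    (by rintro p ⟨y, hy, rfl⟩; exact ⟨hself y hy z₁ hz₁, hself y hy z₂ hz₂⟩)
    (by
      rintro a ha p ⟨y, hy, rfl⟩
      obtain ⟨y', hy', hd'⟩ := hy.conj hO hp ha (one_mem _) (act_one f) (act_one f')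
      have hconj : ∀ w ∈ core qW f f', conjU a (xMap qW y f' w) = xMap qW y' f' w := by
        intro w hw
        refine LinearMap.ext fun u => ?_
        have hk : ∀ r : Vv, eta qW w ((Units.val (kr (a : GL (Fin k) F)
            ((1 : Cfsg.isometryGroup F ⇑qW) : GL (Fin n) F))) *ᵥ r) = act a (eta qW w r) := fun r => by
          rw [sum_rows r, mulVec_sum, map_sum, map_sum, map_sum]
          refine Finset.sum_congr rfl fun i _ => ?_
          rw [kr_pure, eta_pure, eta_pure, map_smul, ← act_apply, ← act_apply, act_one]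
        have h1 := congrArg (eta qW w) (hd' (act a⁻¹ u))
        rw [act_cancel_inv, hk, xMap_symm hO hp hN hf0 hy' hw, xMap_symm hO hp hN hf0 hy hw, map_neg, neg_inj] at h1
        rw [conjU_apply, h1]
      exact ⟨y', hy', by rw [hconj z₁ hz₁, hconj z₂ hz₂]⟩)
    (by
      rintro _ ⟨y, hy, rfl⟩ _ ⟨y', hy', rfl⟩
      refine LinearMap.ext fun u => ext_bU S.ndU fun v => ?_
      have h := disp_comm hO hp hN hf0 hy hy' u v
      rw [hB _ _ (eta_f_disp hO hp hy' u) (eta_f_disp hO hp hy v), hB _ _ (eta_f_disp hO hp hy u)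
        (eta_f_disp hO hp hy' v)] at h
      simp only [xMap_symm hO hp hN hf0 hy hz₁, xMap_symm hO hp hN hf0 hy hz₂, xMap_symm hO hp hN hf0 hy' hz₁,
        xMap_symm hO hp hN hf0 hy' hz₂, QuadraticMap.polar_neg_left, QuadraticMap.polar_neg_right, neg_neg] at h
      rw [hself y hy z₁ hz₁, hself y hy z₂ hz₂, hself y' hy' z₁ hz₁, hself y' hy' z₂ hz₂,
        QuadraticMap.polar_comm _ v, QuadraticMap.polar_comm _ v, QuadraticMap.polar_comm _ v,
        QuadraticMap.polar_comm _ v] at h
      simp only [LinearMap.add_apply, LinearMap.smul_apply, LinearMap.sub_apply, Module.End.mul_apply,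
        LinearMap.zero_apply, QuadraticMap.polar_zero_left, QuadraticMap.polar_add_left,
        QuadraticMap.polar_sub_left, QuadraticMap.polar_smul_left, smul_eq_mul]
      linear_combination h)
    (fun m₁ m₂ hm => by
      have h0 := haniso ((d₁ * m₁) • z₁ + (d₂ * m₂) • z₂)
        (Submodule.add_mem _ (Submodule.smul_mem _ _ hz₁) (Submodule.smul_mem _ _ hz₂)) (by
          refine mul_left_cancel₀ S.two ?_
          rw [mul_zero, ← polar_self']
          simp only [QuadraticMap.polar_add_left, QuadraticMap.polar_add_right, QuadraticMap.polar_smul_left,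
            QuadraticMap.polar_smul_right, hz12, QuadraticMap.polar_comm _ z₂ z₁, smul_eq_mul]
          rw [hd₁, hd₂] at hm ⊢
          field_simp at hm ⊢
          linear_combination hm)
      have g1 := congrArg (fun y => bW z₁ y) h0
      have g2 := congrArg (fun y => bW z₂ y) h0
      simp only [QuadraticMap.polar_add_right, QuadraticMap.polar_smul_right, QuadraticMap.polar_zero_right, hz12,
        QuadraticMap.polar_comm _ z₂ z₁, smul_eq_mul, mul_zero, add_zero, zero_add, hd₁, hd₂] at g1 g2
      field_simp at g1 g2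
      exact ⟨g1, g2⟩)
    ⟨x, hx, rfl⟩
  rw [hexp z hz, xMap_add hO hp, xMap_smul hO hp, xMap_smul hO hp]
  obtain ⟨c₁, hc₁'⟩ := hs₁
  obtain ⟨c₂, hc₂'⟩ := hs₂
  exact ⟨d₁ * bW z z₁ * c₁ + d₂ * bW z z₂ * c₂, by
    simp only at hc₁' hc₂'
    rw [hc₁', hc₂']; module⟩

/-- the radical consists of the Eichler elements of the second factor -/
theorem rad_eq {x : GLkn} (hx : Rad qW M f x) :
    ∃ (z : Wv) (hz : bW f z = 0), x = kr (1 : GL (Fin k) F) (eich f z hp.hu hz : GL (Fin n) F) := by
  classical
  have S := hO.setup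
  let T : Submodule F Wv :=
    { carrier := {w | IsScal (xMap qW x f' w)}
      zero_mem' := ⟨0, by
        rw [show (0 : Wv) = (0 : F) • (0 : Wv) by rw [zero_smul], xMap_smul hO hp, zero_smul, zero_smul]⟩
      add_mem' := fun {w w'} ⟨c, hc⟩ ⟨c', hc'⟩ => ⟨c + c', by rw [xMap_add hO hp, hc, hc', add_smul]⟩
      smul_mem' := fun a w ⟨c, hc⟩ => ⟨a * c, by rw [xMap_smul hO hp, hc, smul_smul]⟩ }
  have hT : core qW f f' ≤ T := by
    rcases eq_or_ne n 3 with hn3 | hn3
    · intro w hw
      by_cases hw0 : qW w = 0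
      · obtain ⟨z, hz, hQz⟩ := exists_aniso_core S.ndW hp (by omega)
        rw [eq_zero_of_core hp hn3 hz hQz hw hw0]
        exact T.zero_mem
      · exact xMap_scalar_three hO hp hN hf0 hx hn3 hw hw0
    · rcases eq_or_ne n 4 with hn4 | hn4
      · exact fun v hv => xMap_scalar_four hO hp hN hf0 hx hn4 hv
      · refine Orth.sing_span' S.ndW (core_nondeg S.ndW hp) ?_ fun v hv hQv =>
          xMap_scalar hO hp hN hf0 hx hv hQv (by have := S.hn; omega)
        have := finrank_core (q := qW) S.ndW f f'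
        have := S.hn
        omega
  obtain ⟨u₀, hu₀, hQu₀⟩ := exists_sing_ne S.ndU S.hk
  obtain ⟨u₁, hp₀⟩ := exists_pair_of S.ndU hu₀ hQu₀
  -- the scalar as a linear functional
  set lam : Module.Dual F Wv := (polB qU u₁).comp ((eta qW f').comp
    ((Matrix.toLin' (Units.val x) - 1).comp (pureL u₀))) with hlam
  have hlam' : ∀ w, lam w = bU u₁ (xMap qW x f' w u₀) := fun w => by
    rw [hlam, LinearMap.comp_apply, LinearMap.comp_apply, LinearMap.comp_apply, polB_apply, xMap,
      LinearMap.comp_apply, disp_apply, LinearMap.sub_apply, Matrix.toLin'_apply, Module.End.one_apply, pureL_apply]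
  have hval : ∀ w ∈ core qW f f', ∀ u, xMap qW x f' w u = lam w • u := fun w hw u => by
    obtain ⟨c, hc⟩ := hT hw
    rw [hlam', hc, LinearMap.smul_apply, Module.End.one_apply, LinearMap.smul_apply, Module.End.one_apply,
      QuadraticMap.polar_smul_right, hp₀.hvu, smul_eq_mul, mul_one]
  set y := (LinearMap.BilinForm.toDual (polB qW) S.ndW).symm lam with hy
  have hyl : ∀ w, bW y w = lam w := fun w =>
    LinearMap.BilinForm.apply_toDual_symm_apply (hB := S.ndW) lam w
  set z := -proj qW f f' y with hz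
  have hzc : z ∈ core qW f f' := neg_mem (proj_core hp y)
  have hz1 : bW f z = 0 := (mem_core.1 hzc).1
  refine ⟨z, hz1, ?_⟩
  have hE := rad_eich hO hp hz1
  refine central_eq hO hp hN hf0 hx.mem hE (fun u w hw => ?_) (fun u => ?_)
  · set w₀ := proj qW f f' w
    have hw₀ : w₀ ∈ core qW f f' := proj_core hp w
    have h1 : xMap qW x f' w₀ u = (-bW w₀ z) • u := by
      rw [hval w₀ hw₀, hz, QuadraticMap.polar_neg_right, neg_neg, polar_proj hw₀, QuadraticMap.polar_comm,
        hyl]
    have hw₀f : bW w₀ f = 0 := by rw [QuadraticMap.polar_comm]; exact (mem_core.1 hw₀).1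
    have e : w = bW w f' • f + w₀ := by
      conv_lhs => rw [proj_add (Q := qW) f f' w, hw, zero_smul, add_zero]
    conv_lhs => rw [e, pure_add_right, mulVec_add, pure_smul_right, mulVec_smul, hx.fix, hx.shift_eq hO hp u hw₀f, h1]
    rw [kr_pure, Units.val_one, one_mulVec, ← act_apply, act_eich, hw]
    rw [show w + (0 : F) • z - bW w z • f - (qW z * 0) • f = w + (-bW w z) • f by module, pure_add_right,
      pure_smul_right, show bW w z = bW w₀ z by
        conv_lhs => rw [e, QuadraticMap.polar_add_left, QuadraticMap.polar_smul_left, hz1, smul_zero, zero_add],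
      pure_smul_left]
    conv_rhs => rw [e, pure_add_right, pure_smul_right]
    abel
  · -- the contractions of the two displacements agree on the core
    set E := kr (1 : GL (Fin k) F) (eich f z hp.hu hz1 : GL (Fin n) F) with hEdef
    set r := disp x f' u - disp E f' u with hr
    have hr1 : eta qW f r = 0 := by rw [hr, map_sub, eta_f_disp hO hp hx, eta_f_disp hO hp hE, sub_zero]
    have hcore : ∀ w ∈ core qW f f', eta qW w r = 0 := fun w hw => by
      have hwf : bW w f = 0 := by rw [QuadraticMap.polar_comm]; exact (mem_core.1 hw).1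
      rw [hr, map_sub, xMap_symm hO hp hN hf0 hx hw, xMap_symm hO hp hN hf0 hE hw]
      have h2 : xMap qW E f' w u = (-bW w z) • u := by
        rw [xMap, LinearMap.comp_apply, disp_apply, hEdef, kr_pure, Units.val_one, one_mulVec, ← act_apply, act_eich,
          hwf, show w + (0 : F) • z - bW w z • f - (qW z * 0) • f = w + (-bW w z) • f by module, pure_add_right,
          pure_smul_right, add_sub_cancel_left, map_smul, eta_pure, hp.huv, one_smul]
      rw [h2, hval w hw, hz, QuadraticMap.polar_neg_right, neg_neg, polar_proj hw, QuadraticMap.polar_comm, hyl,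
        sub_self]
    refine ⟨eta qW f' r, ?_⟩
    have e : r = pure (eta qW f' r) f := TensorMax.ext_row fun i => by
      rw [row_pure]
      refine ext_bU S.ndW fun w => ?_
      rw [QuadraticMap.polar_smul_left, eta_apply, smul_eq_mul, proj_add (Q := qW) f f' w]
      simp only [QuadraticMap.polar_add_right, QuadraticMap.polar_smul_right,
        eta_zero_iff.1 hr1 i, eta_zero_iff.1 (hcore _ (proj_core hp w)) i, polar_self_zero hp.hu, hp.huv,
        (mem_core.1 (proj_core hp w)).1, smul_eq_mul]
      ring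
    rw [← e, hr, disp_eq x f' u, disp_eq E f' u]
    abel

end Cfsg.Agent.Forms.Max.OrthOrth
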