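import Cfsg.Agent.Lib.Forms.Max.OrthBase

/-!
# Singular vectors of a quadratic space of odd characteristic
-/

set_option autoImplicit false
set_option linter.unusedSectionVars false

namespace Cfsg.Agent.Forms.Max.OrthOrth

open Matrix Cfsg.Agent.Forms.QuadStd Cfsg.Agent.Forms.Reflections Cfsg.Agent.Classical.Orth
open Cfsg.Agent.Forms.Max.Orth (mem_perp finrank_perp exists_ne exists_sing exists_partner_in sing_span
  exists_perp_ne)

variable {F : Type*} [Field F] [Fintype F] {d : ℕ} {q : QuadraticForm F (Fin d → F)}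

local notation "Vd" => (Fin d → F)
local notation "b" => QuadraticMap.polar q

/-- the orthogonal of a pair -/
noncomputable def core (q : QuadraticForm F (Fin d → F)) (e e' : Fin d → F) : Submodule F (Fin d → F) :=
  LinearMap.ker (polB q e) ⊓ LinearMap.ker (polB q e')

theorem mem_core {e e' x : Vd} : x ∈ core q e e' ↔ b e x = 0 ∧ b e' x = 0 := Iff.rfl

theorem proj_core {e e' : Vd} (hp : IsPair q e e') (x : Vd) : proj q e e' x ∈ core q e e' :=
  mem_core.2 ⟨by rw [QuadraticMap.polar_comm]; exact (proj_perp hp x).1,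
    by rw [QuadraticMap.polar_comm]; exact (proj_perp hp x).2⟩

theorem polar_proj {e e' w : Vd} (hw : w ∈ core q e e') (x : Vd) : b w (proj q e e' x) = b w x := by
  rw [proj, QuadraticMap.polar_sub_right, QuadraticMap.polar_sub_right, QuadraticMap.polar_smul_right,
    QuadraticMap.polar_smul_right, QuadraticMap.polar_comm _ w e, QuadraticMap.polar_comm _ w e',
    (mem_core.1 hw).1, (mem_core.1 hw).2]
  simp

/-- the dimension of the orthogonal of a pair -/
theorem finrank_core_le {e e' : Vd} (hp : IsPair q e e') : Module.finrank F (core q e e') + 2 ≤ d := by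
  have hd : Disjoint (core q e e') (Submodule.span F ({e, e'} : Set Vd)) :=
    Submodule.disjoint_def.2 fun z hz1 hz2 => by
      obtain ⟨a, c, rfl⟩ := Submodule.mem_span_pair.1 hz2
      obtain ⟨h1, h2⟩ := mem_core.1 hz1
      simp only [QuadraticMap.polar_add_right, QuadraticMap.polar_smul_right, polar_self_zero hp.hu,
        polar_self_zero hp.hv, hp.huv, hp.hvu, smul_eq_mul, mul_zero, mul_one, zero_add, add_zero] at h1 h2
      simp [h1, h2]
  have h6 := Submodule.finrank_add_finrank_le_of_disjoint hd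
  rw [Module.finrank_fintype_fun_eq_card, Fintype.card_fin] at h6
  have hli : LinearIndependent F ![e, e'] := LinearIndependent.pair_iff.2 fun a c h => by
    have g1 := congrArg (fun z => b z e) h
    have g2 := congrArg (fun z => b z e') h
    simp only [QuadraticMap.polar_add_left, QuadraticMap.polar_smul_left, polar_self_zero hp.hu,
      polar_self_zero hp.hv, hp.huv, hp.hvu, smul_eq_mul, mul_zero, mul_one, zero_add, add_zero,
      QuadraticMap.polar_zero_left] at g1 g2
    exact ⟨g2, g1⟩
  have h7 := finrank_span_eq_card hli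
  rw [Matrix.range_cons_cons_empty, Fintype.card_fin] at h7
  omega

/-- the core of a three-dimensional space is anisotropic -/
theorem eq_zero_of_core {e e' : Vd} (hp : IsPair q e e') (h3 : d = 3) {z : Vd} (hz : z ∈ core q e e')
    (hQz : q z ≠ 0) {w : Vd} (hw : w ∈ core q e e') (hQw : q w = 0) : w = 0 := by
  have hz0 : z ≠ 0 := fun h => hQz (by rw [h, QuadraticMap.map_zero])
  obtain ⟨c, hc⟩ := exists_smul_eq_of_finrank_eq_one (V := core q e e')
    (le_antisymm (by have := finrank_core_le hp; omega)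
      (Submodule.one_le_finrank_iff.2 fun h => hz0 ((Submodule.mem_bot F).1 (h ▸ hz))))
    (show (⟨z, hz⟩ : core q e e') ≠ 0 from fun h => hz0 (congrArg Subtype.val h)) ⟨w, hw⟩
  have hc' : c • z = w := congrArg Subtype.val hc
  rw [← hc', Classical.Orth.map_smul'] at hQw
  have h0 : c = 0 := by simpa [hQz] using hQw
  rw [← hc', h0, zero_smul]

variable (hq : (QuadraticMap.polarBilin q).Nondegenerate)
include hq

/-- a singular vector has a singular partner -/
theorem exists_pair_of {e : Vd} (he : e ≠ 0) (hQe : q e = 0) : ∃ e', IsPair q e e' := by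
  obtain ⟨y, hy⟩ := exists_ne hq he
  obtain ⟨e', -, hQ', hee'⟩ := exists_partner_in (S := ⊤) trivial (Submodule.mem_top (x := y)) hQe hy
  exact ⟨e', hQe, hQ', hee'⟩

theorem core_nondeg {e e' : Vd} (hp : IsPair q e e') :
    ∀ r ∈ core q e e', r ≠ 0 → ∃ s ∈ core q e e', b r s ≠ 0 := fun r hr hr0 => by
  obtain ⟨s, hs⟩ := exists_ne hq hr0
  exact ⟨_, proj_core hp s, by rw [polar_proj hr]; exact hs⟩

theorem finrank_core (e e' : Vd) : d ≤ Module.finrank F (core q e e') + 2 := by
  have h : core q e e' = LinearMap.ker ((polB q e).prod (polB q e')) := by rw [LinearMap.ker_prod]; rfl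
  have h1 := LinearMap.finrank_range_add_finrank_ker ((polB q e).prod (polB q e'))
  have h2 := Submodule.finrank_le (LinearMap.range ((polB q e).prod (polB q e')))
  rw [Module.finrank_prod, Module.finrank_self] at h2
  rw [Module.finrank_fintype_fun_eq_card, Fintype.card_fin] at h1
  rw [h]; omega

theorem exists_aniso_core {e e' : Vd} (hp : IsPair q e e') (h3 : 3 ≤ d) :
    ∃ z ∈ core q e e', q z ≠ 0 := by
  by_contra hc
  push Not at hc
  obtain ⟨r, hr, hr0⟩ := Submodule.exists_mem_ne_zero_of_ne_bot (p := core q e e') fun h0 => by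
    have := finrank_core hq e e'
    rw [h0, finrank_bot] at this
    omega
  obtain ⟨s, hs, hrs⟩ := core_nondeg hq hp r hr hr0
  exact hrs (Orth.polar_of_sing hc hr hs)

theorem exists_sing_ne (h3 : 3 ≤ d) : ∃ e : Vd, e ≠ 0 ∧ q e = 0 := by
  obtain ⟨x, -, hx⟩ := exists_sing hq (S := ⊤) (by
    rw [finrank_top, Module.finrank_fintype_fun_eq_card, Fintype.card_fin]; exact h3)
  exact ⟨x, hx⟩

/-- the singular vectors span -/
theorem eq_top_of_sing (h3 : 3 ≤ d) {T : Submodule F Vd} (hT : ∀ v, q v = 0 → v ∈ T) (x : Vd) : x ∈ T := by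
  obtain ⟨e, he, hQe⟩ := exists_sing_ne hq h3
  obtain ⟨e', hp⟩ := exists_pair_of hq he hQe
  exact sing_span hp (Submodule.mem_top (x := e)) (Submodule.mem_top (x := e')) (fun v _ hv => hT v hv)
    (Submodule.mem_top (x := x))

/-- the singular vectors pairing non-trivially with a given singular vector span the space -/
theorem sing_span_off (h3 : 3 ≤ d) {f : Vd} (hf : f ≠ 0) (hQf : q f = 0) {T : Submodule F Vd}
    (h2 : (2 : F) ≠ 0) (hT : ∀ v, q v = 0 → b f v ≠ 0 → v ∈ T) (x : Vd) : x ∈ T := by
  obtain ⟨f', hp⟩ := exists_pair_of hq hf hQf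
  have key : ∀ w ∈ core q f f', f' + w - q w • f ∈ T := fun w hw => by
    refine hT _ ?_ ?_
    · simp only [Classical.Orth.map_sub', Classical.Orth.map_add', Classical.Orth.map_smul', QuadraticMap.polar_smul_right,
        QuadraticMap.polar_add_left, hp.hu, hp.hv, hp.hvu, QuadraticMap.polar_comm _ w f, (mem_core.1 hw).1,
        (mem_core.1 hw).2, smul_eq_mul]
      ring
    · rw [QuadraticMap.polar_sub_right, QuadraticMap.polar_add_right, QuadraticMap.polar_smul_right, hp.huv,
        (mem_core.1 hw).1, polar_self_zero hp.hu, smul_zero, add_zero, sub_zero]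
      exact one_ne_zero
  have hf' : f' ∈ T := by simpa using key 0 (zero_mem _)
  have hcore : ∀ w ∈ core q f f', w ∈ T ∧ q w • f ∈ T := fun w hw => by
    have h1 := key w hw
    have h3' := key (-w) (neg_mem hw)
    rw [QuadraticMap.map_neg] at h3'
    have hw2 : (2 : F) • w ∈ T := by
      have := T.sub_mem h1 h3'
      convert this using 1
      module
    have hwT : w ∈ T := (Submodule.smul_mem_iff _ h2).1 hw2
    refine ⟨hwT, ?_⟩
    have := T.sub_mem (T.add_mem hf' hwT) h1
    convert this using 1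
    module
  obtain ⟨w₀, hw₀, hQw₀⟩ := exists_aniso_core hq hp h3
  have hfT : f ∈ T := (Submodule.smul_mem_iff _ hQw₀).1 (hcore w₀ hw₀).2
  rw [proj_add (Q := q) f f' x]
  exact T.add_mem (T.add_mem (T.smul_mem _ hfT) (T.smul_mem _ hf')) (hcore _ (proj_core hp x)).1

/-- Eichler transformations are transitive on singular points -/
theorem exists_move (h3 : 3 ≤ d) {z e : Vd} (hz : z ≠ 0) (hQz : q z = 0) (he : e ≠ 0) (hQe : q e = 0) :
    ∃ g ∈ eGroup q ⊤, ∃ a : F, a ≠ 0 ∧ act g z = a • e := by
  obtain ⟨e', hp⟩ := exists_pair_of hq he hQe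
  obtain ⟨w, hw, hQw⟩ := exists_aniso_core hq hp h3
  exact point_move (S := ⊤) hp Submodule.mem_top Submodule.mem_top
    (fun x _ hx => hq.1 x fun y => hx y Submodule.mem_top) (w := w) Submodule.mem_top
    (mem_core.1 hw).1 (mem_core.1 hw).2 hQw Submodule.mem_top hz hQz

/-- a non-singular vector orthogonal to a singular one -/
theorem exists_nonsing_perp (h3 : 3 ≤ d) {e : Vd} (he : e ≠ 0) (hQe : q e = 0) :
    ∃ v, b e v = 0 ∧ q v ≠ 0 := by
  obtain ⟨e', hp⟩ := exists_pair_of hq he hQe
  obtain ⟨w, hw, hQw⟩ := exists_aniso_core hq hp h3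
  exact ⟨w, (mem_core.1 hw).1, hQw⟩

end Cfsg.Agent.Forms.Max.OrthOrth
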